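import Cfsg.Agent.OM.Lie.UL0_m3
import Cfsg.Agent.Lib.ListFast
import Cfsg.Agent.HZ.L.RegT.Main_m3
import Cfsg.Agent.KZ.Lie.Loc
import Cfsg.Agent.Prune
set_option linter.all false

section
prune_inst 0x7ffdbdfdffaccbffffff7e3faed0ddfc12824fffa4dff94b7fe161bf2b9f23a309c5638509e010fe8ed6c29410a87803fb7eeeffe86fdc7ffffdfff41ffbee4fe5f63508119084240fbc2ff703f17f8e6f3ffffffffffffffffffffffffffffffffffbfeffff

-- part: OM/Cu/Bas
section
set_option linter.all false
open scoped Cfsg.Agent.FastGrp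

/-!
# OM / Cu : common lemmas (helper63)
-/

set_option autoImplicit false
set_option linter.unusedSectionVars false
set_option linter.dupNamespace false

namespace Cfsg.Agent.OM.Cu

open Cfsg Matrix Cfsg.Agent.HZ.L

variable {R : Type} [Fintype R] [DecidableEq R] {Ψ : RS R} {A B X u w : Mat R} {a b : Vec R × Vec R} {q : ℤ} {l d e : ℕ}
  {f : Mat R → ℂ}

theorem rfm_mulVec (a : Vec R × Vec R) (v : Vec R) : rfm a *ᵥ v = v - (a.1 ⬝ᵥ v) • a.2 := by
  rw [rfm, sub_mulVec, one_mulVec, vecMulVec_mulVec, op_smul_eq_smul]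

theorem vecMul_rfm (a : Vec R × Vec R) (v : Vec R) : v ᵥ* rfm a = v - (v ⬝ᵥ a.2) • a.1 := by
  rw [rfm, vecMul_sub, vecMul_one, vecMul_vecMulVec]

theorem mat_ext {R' : Type} {M N : Matrix R' R ℤ} (h : ∀ v, M *ᵥ v = N *ᵥ v) : M = N := by
  ext i j
  simpa using congrFun (h (Pi.single j 1)) i

theorem rfm_sq (h : a.1 ⬝ᵥ a.2 = 2) : rfm a * rfm a = 1 := mat_ext fun v => by
  rw [← mulVec_mulVec, rfm_mulVec, rfm_mulVec, dotProduct_sub, dotProduct_smul, h, one_mulVec]
  module

theorem rfm_neg (a : Vec R × Vec R) : rfm (-a) = rfm a := mat_ext fun v => by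
  rw [rfm_mulVec, rfm_mulVec, Prod.fst_neg, Prod.snd_neg, neg_dotProduct, neg_smul_neg]

theorem mul_rfm (h1 : A *ᵥ a.2 = b.2) (h2 : b.1 ᵥ* A = a.1) : A * rfm a = rfm b * A := mat_ext fun v => by
  rw [← mulVec_mulVec, ← mulVec_mulVec, rfm_mulVec, rfm_mulVec, mulVec_sub, mulVec_smul, h1, dotProduct_mulVec, h2]

/-- the Weyl group is a group -/
theorem WW_inv (h2 : ∀ a ∈ Ψ, a.1 ⬝ᵥ a.2 = 2) (hw : w ∈ WW Ψ) : ∃ u ∈ WW Ψ, u * w = 1 ∧ w * u = 1 := by
  induction hw using Submonoid.closure_induction with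
  | mem x hx => obtain ⟨a, ha, rfl⟩ := hx; exact ⟨_, rfm_mem ha, rfm_sq (h2 a ha), rfm_sq (h2 a ha)⟩
  | one => exact ⟨1, one_mem _, one_mul _, one_mul _⟩
  | mul x y _ _ hx hy =>
    obtain ⟨u, hu, a1, a2⟩ := hx
    obtain ⟨v, hv, b1, b2⟩ := hy
    exact ⟨v * u, mul_mem hv hu, by rw [mul_assoc, ← mul_assoc u, a1, one_mul, b1],
      by rw [mul_assoc, ← mul_assoc y, b2, one_mul, a2]⟩

theorem Nm.one (Ψ : RS R) : Nm 1 Ψ := fun a ha => ⟨a, ha, one_mulVec _, vecMul_one _⟩

theorem Nm.mul (h : Nm A Ψ) (h' : Nm B Ψ) : Nm (A * B) Ψ := fun a ha => by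
  obtain ⟨b, hb, b1, b2⟩ := h' a ha
  obtain ⟨c, hc, c1, c2⟩ := h b hb
  exact ⟨c, hc, by rw [← mulVec_mulVec, b1, c1], by rw [← vecMul_vecMul, c2, b2]⟩

theorem Nm.pow (h : Nm A Ψ) (n : ℕ) : Nm (A ^ n) Ψ := by
  induction n with
  | zero => rw [pow_zero]; exact Nm.one Ψ
  | succ n ih => rw [pow_succ]; exact Nm.mul ih h

theorem Nm.of_WW (h : ∀ b ∈ Ψ, Nm (rfm b) Ψ) (hw : w ∈ WW Ψ) : Nm w Ψ := by
  induction hw using Submonoid.closure_induction with
  | mem x hx => obtain ⟨a, ha, rfl⟩ := hx; exact h a ha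
  | one => exact Nm.one Ψ
  | mul x y _ _ hx hy => exact Nm.mul hx hy

theorem Nm.neg (hn : ∀ a ∈ Ψ, -a ∈ Ψ) (h : Nm A Ψ) : Nm (-A) Ψ := fun a ha => by
  obtain ⟨b, hb, b1, b2⟩ := h a ha
  exact ⟨-b, hn b hb, by rw [neg_mulVec, b1, Prod.snd_neg], by rw [Prod.fst_neg, neg_vecMul, vecMul_neg, neg_neg, b2]⟩

/-- `B` normalises the Weyl group -/
theorem Nm.ww (h : Nm B Ψ) (hu : u ∈ WW Ψ) : ∃ v ∈ WW Ψ, B * u = v * B := by
  induction hu using Submonoid.closure_induction with
  | mem x hx =>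
    obtain ⟨a, ha, rfl⟩ := hx
    obtain ⟨b, hb, b1, b2⟩ := h a ha
    exact ⟨_, rfm_mem hb, mul_rfm b1 b2⟩
  | one => exact ⟨1, one_mem _, by rw [mul_one, one_mul]⟩
  | mul x y _ _ hx hy =>
    obtain ⟨v, hv, a1⟩ := hx
    obtain ⟨v', hv', b1⟩ := hy
    exact ⟨v * v', mul_mem hv hv', by rw [← mul_assoc, a1, mul_assoc, b1, mul_assoc]⟩

namespace Co

theorem refl (Ψ : RS R) (B : Mat R) : Co Ψ B B := ⟨1, one_mem _, (one_mul _).symm⟩

theorem mul (h : Co Ψ B A) (hu : u ∈ WW Ψ) : Co Ψ B (u * A) :=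
  let ⟨w, hw, e⟩ := h
  ⟨u * w, mul_mem hu hw, by rw [e, mul_assoc]⟩

theorem rf (h : Co Ψ B A) (ha : a ∈ Ψ) : Co Ψ B (rfm a * A) := h.mul (rfm_mem ha)

theorem mul_right (hB : Nm B Ψ) (h : Co Ψ B A) (hu : u ∈ WW Ψ) : Co Ψ B (A * u) := by
  obtain ⟨w, hw, rfl⟩ := h
  obtain ⟨v, hv, e⟩ := Nm.ww hB hu
  exact ⟨w * v, mul_mem hw hv, by rw [mul_assoc, e, mul_assoc]⟩

theorem trans (h : Co Ψ B A) (h' : Co Ψ A X) : Co Ψ B X :=
  let ⟨_, hw, e⟩ := h'
  e ▸ h.mul hw

theorem symm (h2 : ∀ a ∈ Ψ, a.1 ⬝ᵥ a.2 = 2) (h : Co Ψ B A) : Co Ψ A B := by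
  obtain ⟨w, hw, rfl⟩ := h
  obtain ⟨u, hu, e, -⟩ := WW_inv h2 hw
  exact ⟨u, hu, by rw [← mul_assoc, e, one_mul]⟩

theorem nm (h : ∀ b ∈ Ψ, Nm (rfm b) Ψ) (hB : Nm B Ψ) (hA : Co Ψ B A) : Nm A Ψ :=
  let ⟨_, hw, e⟩ := hA
  e ▸ Nm.mul (Nm.of_WW h hw) hB

theorem neg (h : Co Ψ B A) : Co Ψ (-B) (-A) :=
  let ⟨w, hw, e⟩ := h
  ⟨w, hw, by rw [e, mul_neg]⟩

end Co

namespace Hy

theorem mono (h : Hy Ψ B q l d f) (hA : Co Ψ B A) : Hy Ψ A q l d f :=
  ⟨fun u hu X hX => h.cj u hu X (hA.trans hX), fun X hX => h.bad X (hA.trans hX), fun X hX => h.rel X (hA.trans hX)⟩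

/-- conjugation by the Weyl group -/
theorem conj (h : Hy Ψ B q l d f) (h2 : ∀ a ∈ Ψ, a.1 ⬝ᵥ a.2 = 2) (hu : u ∈ WW Ψ) (hX : Co Ψ B X) (e : X * u = u * A) :
    f X = f A := by
  obtain ⟨v, hv, a1, a2⟩ := WW_inv h2 hu
  have := h.cj u hu (v * X) (hX.mul hv)
  rwa [← mul_assoc, a2, one_mul, mul_assoc, e, ← mul_assoc, a1, one_mul] at this

/-- the reflections in the roots of one orbit of `A` give the same value -/
theorem rf_orb (h : Hy Ψ B q l d f) (hA : Co Ψ B A) (ha : a ∈ Ψ) (h1 : A *ᵥ a.2 = b.2) (h2 : b.1 ᵥ* A = a.1) :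
    f (rfm b * A) = f (rfm a * A) := by
  rw [← mul_rfm h1 h2, h.cj _ (rfm_mem ha) A hA]

theorem sum_eq (hf : Ψ.Finite) (h : Hy Ψ B q l d f) (hA : Co Ψ B A) (hb : Bad Ψ d A) {τ : Vec R} (hτ : Ft Ψ q l A τ) :
    ∃ S : Finset (Mat R), (∀ ρ, ρ ∈ S ↔ ∃ a ∈ Ψ, (l : ℤ) ∣ τ ⬝ᵥ a.2 ∧ rfm a = ρ) ∧ ∑ ρ ∈ S, f (ρ * A) = 0 := by
  have h1 : (rfm '' Zt Ψ l τ).Finite := (hf.subset fun _ h => h.1).image _
  refine ⟨h1.toFinset, fun ρ => ?_, ?_⟩
  · rw [Set.Finite.mem_toFinset]
    exact ⟨fun ⟨a, h, e⟩ => ⟨a, h.1, h.2, e⟩, fun ⟨a, h, h', e⟩ => ⟨a, ⟨h, h'⟩, e⟩⟩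
  · rw [← finsum_mem_eq_finite_toFinset_sum _ h1]
    exact h.rel A hA hb τ hτ

theorem zero_of_sum {ι : Type} {S : Finset ι} {g : ι → ℂ} {z : ℂ} (h0 : ∑ i ∈ S, g i = 0) (h : ∀ i ∈ S, g i = 0 ∨ g i = z)
    {i : ι} (hi : i ∈ S) (e : g i = z) : z = 0 := by
  classical
  by_contra hz
  rw [← Finset.sum_filter_add_sum_filter_not S fun i => g i = z,
    Finset.sum_eq_zero (s := S.filter fun i => ¬ g i = z) fun i hi =>
      (h i (Finset.mem_filter.1 hi).1).resolve_right (Finset.mem_filter.1 hi).2,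
    Finset.sum_congr rfl fun i hi => (Finset.mem_filter.1 hi).2, Finset.sum_const, add_zero, nsmul_eq_mul, mul_eq_zero,
    Nat.cast_eq_zero, Finset.card_eq_zero] at h0
  exact h0.elim (fun h => Finset.notMem_empty i (h ▸ Finset.mem_filter.2 ⟨hi, e⟩)) hz

/-- one relation: all the terms are zero or equal to `z` -/
theorem kill (hf : Ψ.Finite) (h : Hy Ψ B q l d f) (hA : Co Ψ B A) (hb : Bad Ψ d A) {τ : Vec R} (hτ : Ft Ψ q l A τ) {z : ℂ}
    (hz : ∀ a ∈ Ψ, (l : ℤ) ∣ τ ⬝ᵥ a.2 → f (rfm a * A) = 0 ∨ f (rfm a * A) = z) (hb1 : b ∈ Ψ) (hb2 : (l : ℤ) ∣ τ ⬝ᵥ b.2)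
    (e : f (rfm b * A) = z) : z = 0 := by
  obtain ⟨S, hS, h0⟩ := h.sum_eq hf hA hb hτ
  refine zero_of_sum h0 (fun ρ hρ => ?_) ((hS _).2 ⟨b, hb1, hb2, rfl⟩) e
  obtain ⟨a, a1, a2, rfl⟩ := (hS ρ).1 hρ
  exact hz a a1 a2

end Hy

/-- change of the representative of the coset -/
theorem Cu.of_co (h2 : ∀ a ∈ Ψ, a.1 ⬝ᵥ a.2 = 2) (h : Cu l Ψ B) (hA : Co Ψ B A) : Cu l Ψ A :=
  fun q d e f hq hf X hX => h q d e f hq (hf.mono (hA.symm h2)) X (hA.trans hX)

theorem Eig.mono {Ψ' : RS R} {μ : ℂ} (h : Eig Ψ A μ) (e : Ψ ⊆ Ψ') : Eig Ψ' A μ :=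
  let ⟨y, h1, a, ha, h2⟩ := h
  ⟨y, h1, a, e ha, h2⟩

theorem Eig.neg {μ : ℂ} (h : Eig Ψ A μ) : Eig Ψ (-A) (-μ) := by
  obtain ⟨y, h1, h2⟩ := h
  refine ⟨y, ?_, h2⟩
  unfold IsE at h1 ⊢
  rw [Matrix.map_neg _ (fun _ => Int.cast_neg _), neg_mulVec, h1, neg_smul]

/-- a reflection in a root which vanishes at the eigenvector keeps it -/
theorem isE_rf {μ : ℂ} {y : R → ℂ} (h : IsE A μ y) (ha : ev a.1 y = 0) : IsE (rfm a * A) μ y := by
  unfold IsE at h ⊢
  have : (rfm a * A).map (Int.cast : ℤ → ℂ) = (rfm a).map (Int.cast : ℤ → ℂ) * A.map (Int.cast : ℤ → ℂ) :=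
    Matrix.map_mul (f := Int.castRingHom ℂ)
  rw [this, ← mulVec_mulVec, h, mulVec_smul]
  congr 1
  ext i
  unfold ev at ha
  simp only [rfm, mulVec, dotProduct, map_apply, Matrix.sub_apply, vecMulVec_apply, Int.cast_sub, Int.cast_mul, sub_mul,
    Finset.sum_sub_distrib, mul_assoc, ← Finset.mul_sum] at ha ⊢
  rw [ha, mul_zero, sub_zero]
  simp [one_apply]

/-- the order of `-x` is determined by the order of `x` -/
theorem prim_neg {K : Type} [CommRing K] {x : K} {μ : ℂ} (h1 : ∀ y : K, y * y = 1 → y = 1 ∨ y = -1) (h2 : (1 : K) ≠ -1)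
    (h : IsPrimitiveRoot μ (orderOf x)) : IsPrimitiveRoot (-μ) (orderOf (-x)) := by
  have key : ∀ n : ℕ, (-μ) ^ n = 1 ↔ (-x) ^ n = 1 := fun n => by
    have k : ∀ m : ℕ, μ ^ m = 1 ↔ x ^ m = 1 := fun m => by rw [h.pow_eq_one_iff_dvd, orderOf_dvd_iff_pow_eq_one]
    rcases Nat.even_or_odd n with hn | hn
    · rw [hn.neg_pow, hn.neg_pow, k]
    · rw [hn.neg_pow, hn.neg_pow, neg_eq_iff_eq_neg, neg_eq_iff_eq_neg]
      constructor
      · intro e
        refine (h1 _ ?_).resolve_left fun e' => ?_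
        · rw [← pow_add, ← k, pow_add, e]; norm_num
        · rw [← k, e] at e'; norm_num at e'
      · intro e
        refine (mul_self_eq_one_iff.1 ?_).resolve_left fun e' => ?_
        · rw [← pow_add, k, pow_add, e]; simp
        · rw [k, e] at e'; exact h2 e'.symm
  exact ⟨(key _).2 (pow_orderOf_eq_one _), fun n hn => orderOf_dvd_iff_pow_eq_one.2 ((key n).1 hn)⟩

theorem Pq.neg (h : Pq q l d e) : Pq (-q) l (orderOf ((-q : ℤ) : ZMod (if l = 2 then 4 else l))) (orderOf ((-q : ℤ) : ZMod l)) :=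
  ⟨h.lp, fun k => h.nd (dvd_neg.1 k), rfl, rfl⟩

theorem Pq.odd (h : Pq q l d e) (h2 : l ≠ 2) : d = e := by
  have := h.od
  rwa [if_neg h2, h.oe, eq_comm] at this

theorem Pq.two (h : Pq q 2 d e) : e = 1 ∧ (d = 1 ∧ (4 : ℤ) ∣ q - 1 ∨ d = 2 ∧ (4 : ℤ) ∣ q + 1) := by
  have h1 := h.nd
  have h2 : orderOf (q : ZMod 4) = d := h.od
  have h3 := h.oe
  constructor
  · rw [← h3, orderOf_eq_one_iff]
    have : ((q - 1 : ℤ) : ZMod 2) = 0 := (ZMod.intCast_zmod_eq_zero_iff_dvd _ 2).2 (by push_cast at h1 ⊢; omega)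
    push_cast at this
    exact sub_eq_zero.1 this
  · obtain k | k : (4 : ℤ) ∣ q - 1 ∨ (4 : ℤ) ∣ q + 1 := by push_cast at h1; omega
    · refine .inl ⟨?_, k⟩
      have : ((q - 1 : ℤ) : ZMod 4) = 0 := (ZMod.intCast_zmod_eq_zero_iff_dvd _ 4).2 k
      push_cast at this
      rw [← h2, sub_eq_zero.1 this, orderOf_one]
    · refine .inr ⟨?_, k⟩
      have : ((q + 1 : ℤ) : ZMod 4) = 0 := (ZMod.intCast_zmod_eq_zero_iff_dvd _ 4).2 k
      push_cast at this
      rw [← h2, eq_neg_of_add_eq_zero_left this]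
      exact orderOf_eq_prime (by decide) (by decide)

/-- **Ennola** -/
theorem Cu.neg (h : Cu l Ψ B) : Cu l Ψ (-B) := by
  intro q d e f hq hf A hA h0 μ hμ hE
  have hp := Fact.mk hq.lp
  have k1 : ∀ ν : ℂ, IsPrimitiveRoot ν (orderOf ((-q : ℤ) : ZMod (if l = 2 then 4 else l))) → IsPrimitiveRoot (-ν) d := by
    intro ν hν
    have := prim_neg (x := ((-q : ℤ) : ZMod (if l = 2 then 4 else l))) ?_ ?_ hν
    · rwa [Int.cast_neg, neg_neg, hq.od] at this
    · by_cases h2 : l = 2
      · rw [if_pos h2]; decide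
      · rw [if_neg h2]; exact fun y => mul_self_eq_one_iff.1
    · by_cases h2 : l = 2
      · rw [if_pos h2]; decide
      · rw [if_neg h2]
        have : Fact (2 < l) := ⟨lt_of_le_of_ne hq.lp.two_le (Ne.symm h2)⟩
        exact (ZMod.neg_one_ne_one).symm
  have k2 : ∀ X, Bad Ψ (orderOf ((-q : ℤ) : ZMod (if l = 2 then 4 else l))) X → Bad Ψ d (-X) :=
    fun X ⟨ν, n1, n2⟩ => ⟨-ν, k1 ν n1, Eig.neg n2⟩
  refine h (-q) _ _ (fun X => f (-X)) hq.neg ⟨fun u hu X hX => ?_, fun X hX hb => hf.bad _ hX.neg (k2 X hb),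
    fun X hX hb τ hτ => ?_⟩ (-A) (by simpa only [neg_neg] using hA.neg) (by simpa only [neg_neg] using h0) (-μ) ?_ (Eig.neg hE)
  · simpa only [mul_neg, neg_mul] using hf.cj u hu _ hX.neg
  · simpa only [mul_neg] using hf.rel _ hX.neg (k2 X hb) τ fun a ha => by
      simpa only [vecMul_neg, smul_neg, neg_smul] using hτ a ha
  · obtain ⟨j, hj⟩ := hμ
    by_cases h2 : l = 2
    · subst h2
      rw [hq.two.1] at hj
      refine ⟨j + 1, ?_⟩
      rw [hq.neg.two.1, IsPrimitiveRoot.one_right_iff] at *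
      rw [pow_succ', pow_mul, neg_sq, ← pow_mul, mul_comm, pow_mul, hj, one_pow]
    · refine ⟨j, ?_⟩
      have : Fact (2 < l) := ⟨lt_of_le_of_ne hq.lp.two_le (Ne.symm h2)⟩
      rw [((hq.lp.odd_of_ne_two h2).pow).neg_pow, Int.cast_neg]
      exact prim_neg (fun y => mul_self_eq_one_iff.1) (ZMod.neg_one_ne_one).symm (hq.oe ▸ hj)

section Cartan

variable {I : Type} [Fintype I] [DecidableEq I]

theorem pm_single (π : Equiv.Perm I) (j : I) : pm π *ᵥ Pi.single j 1 = Pi.single (π j) 1 := by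
  ext i
  simp [pm, Pi.single_apply]

theorem pm_mulVec (π : Equiv.Perm I) (v : Vec I) (j : I) : (pm π *ᵥ v) (π j) = v j := by
  simp [pm, mulVec, dotProduct]

theorem vecMul_pm (π : Equiv.Perm I) (v : Vec I) (j : I) : (v ᵥ* pm π) j = v (π j) := by
  simp [pm, vecMul, dotProduct]

theorem pm_one : pm (1 : Equiv.Perm I) = 1 := by
  ext i j
  by_cases h : i = j <;> simp [pm, one_apply, h]

theorem pm_mul (π σ : Equiv.Perm I) : pm (π * σ) = pm π * pm σ := by
  ext i j
  by_cases h : i = π (σ j) <;> simp [pm, mul_apply, h]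

end Cartan

end Cfsg.Agent.OM.Cu

private theorem dce_e79584c995f3 : _root_.True := by
  try have : _root_.True := by simp only [_root_.Cfsg.Agent.OM.Cu.pm.eq_1]
  try have : _root_.True := by simp only [_root_.Cfsg.Agent.OM.Cu.Co.congr_simp]
  try have : _root_.True := by simp only [_root_.Cfsg.Agent.HZ.L.rfm.congr_simp]
  exact _root_.True.intro
end

-- part: OM/Cu/Glue_mg
section
prune_inst 0x2001324000000018050032200290580004b200400800c80000440900806029c028410220011012160081080500400010002000300000000004000001000088804400e389000404008f800002010000000000000000000000000000000000004010000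
set_option linter.all false
open scoped Cfsg.Agent.FastGrp

-- part: OM/Cu/Glue
section
/-!
# OM / Cu : the glue (helper63)
-/

set_option autoImplicit false
set_option linter.unusedSectionVars false
set_option linter.dupNamespace false

namespace Cfsg.Agent.OM.Cu

open Cfsg Matrix Cfsg.Agent.DL Cfsg.Agent.DL.PP Cfsg.Agent.KZ.Lie Cfsg.Agent.HZ.L Cfsg.Agent.BZ.TA Cfsg.Agent.BZ.TA.Cl

/-- all Cartan matrices -/
theorem cuAll_of (hO : BoxOrb) (hC : BoxCl2) (hR : BoxRe) (hA : BoxA) (hB : BoxB) (hD : BoxD) (hX : BoxX) : CuAll := by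
  intro I _ _ C d B l
  refine hO l (fun C d B h hc hn => ?_) C d B
  rcases hC C d h hc with ⟨n, t⟩ | ⟨n, k, t⟩ | ⟨n, k, t⟩ | ⟨n, k, t⟩ | t | t | t | t | t
  · exact hR _ _ (hA n) C d B l h t hn
  · exact hR _ _ (hB n k).1 C d B l h t hn
  · exact hR _ _ (hB n k).2 C d B l h t hn
  · exact hR _ _ (hD n k) C d B l h t hn
  · exact hR _ _ hX.e6 C d B l h t hn
  · exact hR _ _ hX.e7 C d B l h t hn
  · exact hR _ _ hX.e8 C d B l h t hn
  · exact hR _ _ hX.f4 C d B l h t hn
  · exact hR _ _ hX.g2 C d B l h t hn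

namespace Gl

section Comb

variable {R I J : Type} [Fintype R] [DecidableEq R] [Fintype I] [DecidableEq I] [Fintype J] [DecidableEq J]
  {P : Matrix R I ℤ} {Φ : RS I} {Ψ : RS R}

theorem span_iff (h : Tr P Φ Ψ) (v : Vec R) : v ∈ Submodule.span ℤ (Prod.snd '' Ψ) ↔
    ∃ β ∈ Submodule.span ℤ (Prod.snd '' Φ), P *ᵥ β = v := by
  have : Prod.snd '' Ψ = P.mulVecLin '' (Prod.snd '' Φ) := by
    ext x
    constructor
    · rintro ⟨b, hb, rfl⟩
      obtain ⟨a, ha, e, -⟩ := h.dn b hb
      exact ⟨_, ⟨a, ha, rfl⟩, e⟩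
    · rintro ⟨_, ⟨a, ha, rfl⟩, rfl⟩
      obtain ⟨b, hb, e, -⟩ := h.up a ha
      exact ⟨b, hb, e.symm⟩
  rw [this, ← Submodule.map_span, Submodule.mem_map]
  rfl

theorem inj' (h : Tr P Φ Ψ) {v w : Vec I} (e : P *ᵥ v = P *ᵥ w) : v = w :=
  sub_eq_zero.1 (h.inj _ (by rw [mulVec_sub, e, sub_self]))

theorem span_top {C : Mat I} {d : I → ℤ} (h : Rs C d) (v : Vec I) : v ∈ Submodule.span ℤ (Prod.snd '' Rc C) := by
  rw [pi_eq_sum_univ' v]
  refine Submodule.sum_mem _ fun i _ => Submodule.smul_mem _ _ (Submodule.subset_span ⟨_, h.mem i, ?_⟩)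
  ext j
  simp [sp, Pi.single_apply]

theorem comp {P' : Matrix I J ℤ} {Θ : RS J} (h : Tr P Φ Ψ) (h' : Tr P' Θ Φ) : Tr (P * P') Θ Ψ where
  inj v e := h'.inj v (h.inj _ (by rwa [mulVec_mulVec]))
  up a ha := by
    obtain ⟨b, hb, b1, b2⟩ := h'.up a ha
    obtain ⟨c, hc, c1, c2⟩ := h.up b hb
    exact ⟨c, hc, by rw [← mulVec_mulVec, b1, c1], by rw [← vecMul_vecMul, c2, b2]⟩
  dn c hc := by
    obtain ⟨b, hb, b1, b2⟩ := h.dn c hc
    obtain ⟨a, ha, a1, a2⟩ := h'.dn b hb
    exact ⟨a, ha, by rw [← mulVec_mulVec, a1, b1], by rw [← vecMul_vecMul, b2, a2]⟩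
  ext := h.ext
  nm := h.nm

theorem sat {C : Mat I} {d : I → ℤ} {l : ℕ} (hC : Rs C d) (h : Tr P (Rc C) Ψ) (hs : Sc l Ψ) : Sat l P := fun β hβ j => by
  choose v hv using hβ
  have e : (l : ℤ) • v = P *ᵥ β := funext fun i => (hv i).symm
  obtain ⟨γ, -, e'⟩ := (span_iff h v).1 (hs v (e ▸ (span_iff h _).2 ⟨β, span_top hC β, rfl⟩))
  rw [← e', ← mulVec_smul] at e
  exact ⟨γ j, (congrFun (inj' h e) j).symm⟩

theorem exists_B {C : Mat I} {d : I → ℤ} {B' : Mat R} (hC : Rs C d) (h : Tr P (Rc C) Ψ) (hB : Nm B' Ψ) :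
    ∃ B : Mat I, B' * P = P * B := by
  have : ∀ i, ∃ v, B' *ᵥ (P *ᵥ Pi.single i 1) = P *ᵥ v := fun i => by
    obtain ⟨b, hb, b1, -⟩ := h.up _ (hC.mem i)
    obtain ⟨c, hc, c1, -⟩ := hB b hb
    obtain ⟨a, -, a1, -⟩ := h.dn c hc
    exact ⟨a.2, by rw [a1, ← c1, ← b1]; rfl⟩
  choose v hv using this
  refine ⟨Matrix.of fun i j => v j i, ?_⟩
  ext r j
  have := congrFun (hv j) r
  rw [mulVec_mulVec] at this
  simpa only [mulVec, dotProduct, mul_apply, Pi.single_apply, _root_.Matrix.of_apply, _root_.mul_ite, _root_.mul_one, _root_.MulZeroClass.mul_zero, _root_.Finset.sum_ite_eq', _root_.Finset.mem_univ, ↓ _root_.reduceIte] using this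

theorem exists_tau {c : Lb R} {n : ℕ} (hn : n ≠ 0) (hc : c ^ n = 1) (P : Matrix R I ℤ) :
    ∃ τ : Vec I, ∀ v, chr (P *ᵥ v) c = 1 ↔ (n : ℤ) ∣ τ ⬝ᵥ v := by
  have : NeZero n := ⟨hn⟩
  obtain ⟨ζ, hζ⟩ := (Complex.isPrimitiveRoot_exp n hn).isUnit hn
  have hζ' : IsPrimitiveRoot ζ n := IsPrimitiveRoot.coe_units_iff.1 (hζ ▸ Complex.isPrimitiveRoot_exp n hn)
  have : ∀ i, ∃ m : ℕ, ζ ^ m = pl P c i := fun i => by
    have e : pl P c i ^ n = 1 := by rw [pl, ← map_pow, hc, map_one]
    obtain ⟨m, -, hm⟩ := hζ'.eq_pow_of_mem_rootsOfUnity ((mem_rootsOfUnity n _).2 e)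
    exact ⟨m, hm⟩
  choose m hm using this
  refine ⟨fun i => m i, fun v => ?_⟩
  rw [← chr_pl, ← hζ'.zpow_eq_one_iff_dvd, dotProduct_comm, dotProduct, ← chr_coch]
  have : pl P c = coch (fun i => (m i : ℤ)) ζ := funext fun i => by rw [← hm, coch_apply, zpow_natCast]
  rw [this]

theorem tr_sub {c : Lb R} {n : ℕ} {τ : Vec I} (h : Tr P Φ Ψ) (hτ : ∀ v, chr (P *ᵥ v) c = 1 ↔ (n : ℤ) ∣ τ ⬝ᵥ v) :
    Tr P (Zt Φ n τ) (X.Zc Ψ c) where
  inj := h.inj
  up a ha := by
    obtain ⟨b, hb, b1, b2⟩ := h.up a ha.1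
    exact ⟨b, ⟨hb, b1 ▸ (hτ _).2 ha.2⟩, b1, b2⟩
  dn b hb := by
    obtain ⟨a, ha, a1, a2⟩ := h.dn b hb.1
    exact ⟨a, ⟨ha, (hτ _).1 (a1 ▸ hb.2)⟩, a1, a2⟩
  ext b hb b' hb' := h.ext b hb.1 b' hb'.1
  nm b hb a ha := by
    obtain ⟨a', ha', a1, a2⟩ := h.nm b hb.1 a ha.1
    refine ⟨a', ⟨ha', ?_⟩, a1, a2⟩
    rw [← a1, rfm_mulVec, chr_sub, chr_zsmul, ha.2, hb.2, _root_.one_zpow, inv_one, mul_one]

theorem sc_sub {C : Mat I} {Φ' : RS I} {Ψ' : RS R} {l : ℕ} (h : Tr P (Rc C) Ψ) (h' : Tr P Φ' Ψ') (e : Ψ' ⊆ Ψ) (hs : Sc l Ψ)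
    (hs' : Sc l Φ') : Sc l Ψ' := fun v hv => by
  obtain ⟨β, -, rfl⟩ := (span_iff h v).1 (hs v (Submodule.span_mono (Set.image_mono e) hv))
  obtain ⟨γ, hγ, e'⟩ := (span_iff h' _).1 hv
  rw [← mulVec_smul] at e'
  exact (span_iff h' _).2 ⟨β, hs' β (inj' h e' ▸ hγ), rfl⟩

theorem chr_mul_iff {c t : Lb R} {n l i : ℕ} (hl : l.Prime) (hn : ¬ l ∣ n) (hc : c ^ n = 1) (ht : t ^ l ^ i = 1) (v : Vec R) :
    chr v (c * t) = 1 ↔ chr v c = 1 ∧ chr v t = 1 := by
  rw [map_mul]
  refine ⟨fun h => ?_, fun h => by rw [h.1, h.2, one_mul]⟩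
  have h1 : chr v c ^ n = 1 := by rw [← map_pow, hc, map_one]
  have h2 : chr v c ^ l ^ i = 1 := by
    rw [eq_inv_of_mul_eq_one_left h, inv_pow, ← map_pow, ht, map_one, inv_one]
  have h3 : chr v c = 1 := by
    have := pow_gcd_eq_one.2 ⟨h1, h2⟩
    rwa [(((Nat.Prime.coprime_iff_not_dvd hl).2 hn).symm.pow_right i).gcd_eq_one, pow_one] at this
  exact ⟨h3, by rwa [h3, one_mul] at h⟩

end Comb

variable {p : ℕ} [Fact p.Prime] {k : Type} [Field k] [CharP k p] [IsAlgClosed k] {Y : Type} [Group Y] {N : Type}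
  [Fintype N] [DecidableEq N] {ρ : Y →* GL N k} {F : MulAut Y} {G : Subgroup Y} {D : Datum p ρ F G}
  {j : ℕ} {B : Mat D.R} {w : D.W} {c : Lbl D}

theorem ww_Zc {u : Mat D.R} (hu : u ∈ WW (X.Zc (rts D) c)) : ∃ v, Rel D v c c ∧ D.Wm v = u := by
  induction hu using Submonoid.closure_induction with
  | mem x hx =>
    obtain ⟨_, ⟨⟨b, hb, rfl⟩, h⟩, rfl⟩ := hx
    exact ⟨_, rel_rf hb h, (rfm_eq hb).symm⟩
  | one => exact ⟨1, rel_one D c, D.Wm_one⟩
  | mul x y _ _ hx hy =>
    obtain ⟨a, ha, rfl⟩ := hx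
    obtain ⟨b, hb, rfl⟩ := hy
    exact ⟨a * b, hb.trans ha, D.Wm_mul a b⟩

theorem nm_Zc (h : HZ.L.St D j B) (hw : Fx D w c) : Nm (D.Wm w * B) (X.Zc (rts D) c) := by
  obtain ⟨d, e, L⟩ := exists_lvl D
  exact (h.nm_iff fun _ h => h.1).2 fun a ha h1 => ⟨rt_mem ((D.g_root a ha).act w), (hw.cor_iff L ha).2 h1.2⟩

theorem co_Zc (hw : Fx D w c) {A : Mat D.R} (hA : Co (X.Zc (rts D) c) (D.Wm w * B) A) : ∃ u, Fx D u c ∧ A = D.Wm u * B := by
  obtain ⟨u, hu, rfl⟩ := hA
  obtain ⟨v, hv, rfl⟩ := ww_Zc hu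
  exact ⟨v * w, hw.mul hv, by rw [D.Wm_mul, mul_assoc]⟩

theorem inj_WB (h : HZ.L.St D j B) : Function.Injective fun w => D.Wm w * B := fun _ _ e =>
  let ⟨_, hn, h2⟩ := h.fin
  D.Wm_injective ((IsUnit.of_pow_eq_one h2 hn.ne').mul_right_cancel e)

theorem eig_isol (hc : X.Isol (rts D) c) {A : Mat D.R} {μ : ℂ} (h : Eig (rts D) A μ) : Eig (X.Zc (rts D) c) A μ := by
  obtain ⟨y, h1, a, ha, h2⟩ := h
  obtain ⟨lam, hl⟩ := exists_pat (D := D) y
  by_contra h3
  refine h2 ((hl a ha).1 (hc lam (fun b hb => (hl b hb.1).2 ?_) a ha))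
  by_contra h4
  exact h3 ⟨y, h1, b, hb, h4⟩

end Gl

open Gl in
/-- **the cuspidal lemma from the boxes** -/
theorem boxCusp_of (hR : BoxRs) (hT : BoxTr) (hB : BoxBase) (hS : BoxSat) (hL : BoxLang) (hD : BoxDt) (hA : CuAll) : BoxCusp := by
  intro p _ k _ _ _ Y _ N _ _ ρ F G D _ j B h l d e hq hsc _ c ⟨n, hn, hc⟩ y h1 h2 h3 w hw h0
  classical
  obtain ⟨m, C, d0, P, hC, hP⟩ := hD p D
  obtain ⟨τ, hτ⟩ := exists_tau (fun e : n = 0 => hn (e ▸ dvd_zero l)) hc P
  obtain ⟨m', C', d', P', hC', hP'⟩ := hB C d0 n τ hC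
  have t1 := tr_sub hP hτ
  have t2 := comp t1 hP'
  have s1 : Sc l (X.Zc (rts D) c) := sc_sub hP t1 (fun _ h => h.1) hsc (hS C d0 n l τ hC hq.lp hn)
  obtain ⟨B0, hB0⟩ := exists_B (hR C' d' hC') t2 (nm_Zc h hw)
  obtain ⟨n0, -, up⟩ := hT C' d' (P * P') _ B0 _ l hC' t2 hB0 (nm_Zc h hw)
  let f : Mat D.R → ℂ := Function.extend (fun w => D.Wm w * B) y 0
  have hf : ∀ u, f (D.Wm u * B) = y u := (inj_WB h).extend_apply y 0
  have key : An (X.Zc (rts D) c) l e (D.Wm w * B) := by
    refine up (sat (hR C' d' hC') t2 s1) (hA C' d' B0 l hC' n0) _ d e f hq ⟨fun u hu A hA => ?_, fun A hA hb => ?_,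
      fun A hA hb σ hσ => ?_⟩ _ (Co.refl _ _) (by rwa [hf])
    · obtain ⟨v, hv, rfl⟩ := ww_Zc hu
      obtain ⟨x, hx, e1⟩ := co_Zc hw (hA.mul_right (nm_Zc h hw) hu)
      obtain ⟨z, -, rfl⟩ := co_Zc hw hA
      rw [e1, ← mul_assoc, ← D.Wm_mul, hf, hf]
      exact (h1 v x (v * z) hx (h.tc_iff.2 (by rw [← e1, D.Wm_mul, mul_assoc, mul_assoc, mul_assoc])) hv).symm
    · obtain ⟨x, hx, rfl⟩ := co_Zc hw hA
      rw [hf]
      exact h2 x hx (hb.imp fun _ h => ⟨h.1, Eig.mono h.2 fun _ h => h.1⟩)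
    · obtain ⟨x, hx, rfl⟩ := co_Zc hw hA
      obtain ⟨n1, n2, n3⟩ := h.fin' x
      obtain ⟨t, ⟨i, t3⟩, t4, t5⟩ := hL _ _ _ l n1 σ hq.lp
        (one_lt_pow₀ (Nat.one_lt_cast.2 (Fact.out : p.Prime).one_lt) h.pos.ne') n2 n3 (nm_Zc h hx) s1 hσ
      have := h3 x t hx (hb.imp fun _ h => ⟨h.1, Eig.mono h.2 fun _ h => h.1⟩) ⟨i, t3⟩ (by rw [fx_iff, h.WM]; exact t4)
      have e1 : rfm '' Zt (X.Zc (rts D) c) l σ = D.Wm '' Cas.Rf D (c * t) := by
        ext r
        constructor
        · rintro ⟨_, ⟨⟨⟨b, hb, rfl⟩, b1⟩, b2⟩, rfl⟩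
          exact ⟨_, ⟨b, hb, rfl, (chr_mul_iff hq.lp hn hc t3 _).2 ⟨b1, (t5 _ ⟨rt_mem hb, b1⟩).2 b2⟩⟩, (rfm_eq hb).symm⟩
        · rintro ⟨_, ⟨b, hb, rfl, b1⟩, rfl⟩
          obtain ⟨b2, b3⟩ := (chr_mul_iff hq.lp hn hc t3 _).1 b1
          exact ⟨_, ⟨⟨rt_mem hb, b2⟩, (t5 _ ⟨rt_mem hb, b2⟩).1 b3⟩, rfm_eq hb⟩
      rw [e1, finsum_mem_image D.Wm_injective.injOn, ← this, Cas.cas, finsum_mem_def, finsum_eq_sum_of_fintype]
      refine Finset.sum_congr rfl fun u _ => ?_
      rw [Set.indicator_apply, ← mul_assoc, ← D.Wm_mul, hf]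
  exact ⟨key, fun hi μ hμ hE => key μ hμ (eig_isol hi hE)⟩

end Cfsg.Agent.OM.Cu
end

-- part: OM/Cu/Ch
section
/-!
# OM / Cu : automorphisms of a root system, the classification with all types, change of the index set (helper89)
-/

set_option autoImplicit false
set_option linter.unusedSectionVars false

namespace Cfsg.Agent.OM.Cu

open Cfsg Matrix Cfsg.Agent.HZ.L Cfsg.Agent.BZ.TA Cfsg.Agent.BZ.TA.Cl Cfsg.Agent.LieRecognition Cfsg.Agent.LieRecognition.CoxClass

namespace Ch

variable {I J : Type} [Fintype I] [DecidableEq I] [Fintype J] [DecidableEq J] {C B B' : Mat I} {d : I → ℤ} {Ψ : RS I}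

theorem nmul (h : Nm B Ψ) (h' : Nm B' Ψ) : Nm (B * B') Ψ := fun a ha => by
  obtain ⟨b, hb, h3, h4⟩ := h' a ha
  obtain ⟨b', hb', h5, h6⟩ := h b hb
  exact ⟨b', hb', by rw [← mulVec_mulVec, h3, h5], by rw [← vecMul_vecMul, h6, h4]⟩

theorem inj (R : Rs C d) (h : Nm B (Rc C)) : Function.Injective B.mulVec := fun x y e => sub_eq_zero.1 (R.top _ fun a ha => by
  obtain ⟨b, -, -, h1⟩ := h a ha
  rw [← h1, ← dotProduct_mulVec, mulVec_sub, e, sub_self, dotProduct_zero])

/-- the pairs are permuted -/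
theorem surj (R : Rs C d) (h : Nm B (Rc C)) {b : Vec I × Vec I} (hb : b ∈ Rc C) : ∃ a ∈ Rc C, B *ᵥ a.2 = b.2 ∧ b.1 ᵥ* B = a.1 := by
  choose φ h1 h2 h3 using h
  have := R.fin.to_subtype
  obtain ⟨a, ha⟩ := Finite.surjective_of_injective (f := fun a : Rc C => (⟨φ a a.2, h1 a a.2⟩ : Rc C)) (fun a a' e =>
    Subtype.ext (R.ext _ a.2 _ a'.2 (inj R (fun a ha => ⟨_, h1 a ha, h2 a ha, h3 a ha⟩) (by
      rw [h2 a a.2, h2 a' a'.2, show φ a a.2 = φ a' a'.2 from congrArg Subtype.val e])))) ⟨b, hb⟩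
  have e : φ a a.2 = b := congrArg Subtype.val ha
  exact ⟨a, a.2, e ▸ h2 a a.2, e ▸ h3 a a.2⟩

theorem rfm_vec (a : Vec I × Vec I) (v : Vec I) : rfm a *ᵥ v = v - (a.1 ⬝ᵥ v) • a.2 := by
  rw [rfm, sub_mulVec, one_mulVec, vecMulVec_mulVec, op_smul_eq_smul]

theorem rfm_sq {a : Vec I × Vec I} (h : a.1 ⬝ᵥ a.2 = 2) : rfm a * rfm a = 1 := by
  refine Matrix.ext_of_mulVec_single fun i => ?_
  rw [← mulVec_mulVec, rfm_vec, rfm_vec, dotProduct_sub, dotProduct_smul, h, one_mulVec]
  module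

theorem rfm_self {a : Vec I × Vec I} (h : a.1 ⬝ᵥ a.2 = 2) : rfm a *ᵥ a.2 = -a.2 := by
  rw [rfm_vec, h]
  module

theorem mul_rfm {a b : Vec I × Vec I} (h1 : B *ᵥ a.2 = b.2) (h2 : b.1 ᵥ* B = a.1) : B * rfm a = rfm b * B := by
  refine Matrix.ext_of_mulVec_single fun i => ?_
  rw [← mulVec_mulVec, ← mulVec_mulVec, rfm_vec, rfm_vec, mulVec_sub, mulVec_smul, h1, dotProduct_mulVec, h2]

theorem pm_vec (π : Equiv.Perm I) (j : I) : pm π *ᵥ Pi.single j 1 = Pi.single (π j) 1 := by
  funext i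
  simp [pm, Pi.single_apply]

/-- an automorphism which keeps the simple coroots positive is a diagram automorphism -/
theorem of_pos (R : Rs C d) (h : Nm B (Rc C)) (h0 : ∀ i, 0 ≤ B *ᵥ (sp C i).2) :
    ∃ π : Equiv.Perm I, (∀ i j, C (π i) (π j) = C i j) ∧ B = pm π := by
  have h1 : ∀ k i, 0 ≤ B k i := fun k i => by simpa only [sp, _root_.Pi.zero_apply, _root_.Matrix.mulVec_single, _root_.MulOpposite.op_one, _root_.Pi.smul_apply, _root_.Matrix.col_apply, _root_.one_smul] using h0 i k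
  have h2 : ∀ j, ∃ i, B *ᵥ Pi.single i 1 = Pi.single j 1 := fun j => by
    obtain ⟨a, ha, e, -⟩ := surj R h (R.mem j)
    have k : ∀ k, ∑ i, B k i * a.2 i = (Pi.single j 1 : I → ℤ) k := fun k => congrFun e k
    have h3 : 0 ≤ a.2 := (R.pn a ha).resolve_right fun h3 => by
      have := Finset.sum_nonpos (s := Finset.univ) fun i _ => mul_nonpos_of_nonneg_of_nonpos (h1 j i) (h3 i)
      rw [k, Pi.single_eq_same] at this
      omega
    obtain ⟨i, -, hi⟩ := Finset.exists_ne_zero_of_sum_ne_zero ((k j).trans_ne (by simp))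
    have h4 : 0 < a.2 i := lt_of_le_of_ne (h3 i) (right_ne_zero_of_mul hi).symm
    have h5 : ∀ k, B k i * a.2 i ≤ (Pi.single j 1 : I → ℤ) k := fun k' =>
      (Finset.single_le_sum (fun i _ => mul_nonneg (h1 k' i) (h3 i)) (Finset.mem_univ i)).trans (k k').le
    refine ⟨i, funext fun k' => ?_⟩
    have h6 := h5 k'
    have h7 := h1 k' i
    rw [mulVec_single_one, col_apply]
    by_cases h8 : k' = j
    · subst h8
      have h9 : 0 < B k' i := lt_of_le_of_ne h7 (left_ne_zero_of_mul hi).symm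
      rw [Pi.single_eq_same] at h6 ⊢
      nlinarith only [h4, h6, h9]
    · rw [Pi.single_eq_of_ne h8] at h6 ⊢
      nlinarith only [h4, h6, h7]
  choose σ hσ using h2
  have h3 : Function.Injective σ := fun j j' e => by_contra fun k => by
    have k1 := congrFun ((hσ j).symm.trans (e ▸ hσ j')) j
    rw [Pi.single_eq_same, Pi.single_eq_of_ne k] at k1
    exact one_ne_zero k1
  let π := (Equiv.ofBijective σ (Finite.injective_iff_bijective.1 h3)).symm
  have h4 : ∀ i, B *ᵥ Pi.single i 1 = Pi.single (π i) 1 := fun i =>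
    (congrArg (fun x => B *ᵥ Pi.single x 1) (π.symm_apply_apply i).symm).trans (hσ (π i))
  refine ⟨π, fun j i => ?_, Matrix.ext_of_mulVec_single fun i => by rw [h4, pm_vec]⟩
  obtain ⟨b, hb, e1, e2⟩ := h _ (R.mem i)
  obtain rfl := R.ext b hb _ (R.mem (π i)) (e1.symm.trans (h4 i))
  have h5 := congrArg (· ⬝ᵥ Pi.single j 1) e2
  rwa [← dotProduct_mulVec, h4, dotProduct_single, dotProduct_single, mul_one, mul_one] at h5

/-- the positive coroots which become negative -/
def ng (C B : Mat I) : Set (Vec I) := {v | (∃ a ∈ Rc C, a.2 = v) ∧ 0 ≤ v ∧ ¬ 0 ≤ B *ᵥ v}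

theorem ng_fin (R : Rs C d) (B : Mat I) : (ng C B).Finite := (R.fin.image Prod.snd).subset fun _ h => h.1

theorem main (R : Rs C d) (n : ℕ) : ∀ B : Mat I, (ng C B).ncard = n → Nm B (Rc C) →
    ∃ w ∈ Wc C, ∃ π : Equiv.Perm I, (∀ i j, C (π i) (π j) = C i j) ∧ B = w * pm π := by
  induction n using Nat.strong_induction_on with
  | _ n ih =>
  intro B hn h
  by_cases h0 : ∀ i, 0 ≤ B *ᵥ (sp C i).2
  · obtain ⟨π, h1, h2⟩ := of_pos R h h0
    exact ⟨1, one_mem _, π, h1, by rw [one_mul, h2]⟩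
  obtain ⟨i, hi⟩ := not_forall.1 h0
  have h1 : rfm (sp C i) ∈ Wc C := rfm_mem ⟨i, rfl⟩
  have h2 := R.two _ (R.mem i)
  obtain ⟨b, hb, e1, e2⟩ := h _ (R.mem i)
  have h3 : 0 ≤ (sp C i).2 := Pi.single_nonneg.2 zero_le_one
  obtain ⟨w, hw, π, h4, h5⟩ := ih _ (by
    rw [← hn, ← Set.ncard_image_of_injective _ (inj R (R.nm _ h1))]
    refine Set.ncard_lt_ncard ⟨?_, fun k => ?_⟩ (ng_fin R B)
    · rintro _ ⟨_, ⟨⟨a, ha, rfl⟩, k1, k2⟩, rfl⟩
      obtain ⟨c, hc, k3, -⟩ := R.nm _ h1 a ha
      refine ⟨⟨c, hc, k3.symm⟩, R.smp i a ha k1 ?_, by rwa [mulVec_mulVec]⟩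
      rintro rfl
      rw [← mulVec_mulVec, rfm_self h2, mulVec_neg, neg_nonneg, e1] at k2
      exact hi (e1 ▸ (R.pn b hb).resolve_right k2)
    · obtain ⟨v, ⟨-, k1, -⟩, k2⟩ := k (show (sp C i).2 ∈ ng C B from ⟨⟨_, R.mem i, rfl⟩, h3, hi⟩)
      have k3 := congrArg (rfm (sp C i)).mulVec k2
      rw [mulVec_mulVec, rfm_sq h2, one_mulVec, rfm_self h2] at k3
      have k4 := k1 i
      rw [k3] at k4
      simp [sp] at k4) (B * rfm (sp C i)) rfl (nmul h (R.nm _ h1))
  refine ⟨rfm b * w, mul_mem (R.ww ▸ rfm_mem hb) hw, π, h4, ?_⟩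
  rw [mul_assoc, ← h5, mul_rfm e1 e2, ← mul_assoc, rfm_sq (R.two b hb), one_mul]

theorem ty_perm {n : ℕ} {c c' : ℕ → ℕ → ℤ} (h : Ty C n c) (σ : Equiv.Perm (Fin n)) (hc : ∀ i j : Fin n, c (σ i) (σ j) = c' i j) :
    Ty C n c' :=
  let ⟨e, he⟩ := h
  ⟨σ.trans e, fun i j => (he _ _).trans (hc i j)⟩

/-! ### change of the index set -/

theorem wc_sub (e : J ≃ I) {w : Mat I} (h : w ∈ Wc C) : w.submatrix e e ∈ Wc (C.submatrix e e) := by
  induction h using Submonoid.closure_induction with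
  | mem x hx =>
    obtain ⟨_, ⟨i, rfl⟩, rfl⟩ := hx
    obtain ⟨i, rfl⟩ := e.surjective i
    refine (congrArg (· ∈ _) (Matrix.ext fun a b => ?_)).mp (rfm_mem (Set.mem_range_self i))
    simp [rfm, sp, vecMulVec_apply, one_apply, Pi.single_apply]
  | one => exact submatrix_one_equiv (α := ℤ) e ▸ one_mem _
  | mul x y _ _ a b => exact submatrix_mul_equiv x y e e e ▸ mul_mem a b

theorem rc_sub (e : J ≃ I) {a : Vec I × Vec I} (h : a ∈ Rc C) : (a.1 ∘ e, a.2 ∘ e) ∈ Rc (C.submatrix e e) := by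
  obtain ⟨w, hw, i, h1, h2⟩ := h
  obtain ⟨i, rfl⟩ := e.surjective i
  refine ⟨_, wc_sub e hw, i, ?_, ?_⟩
  · rw [submatrix_mulVec_equiv, ← h1]
    refine congrArg (fun v => (w *ᵥ v) ∘ e) (funext fun k => ?_)
    simp [sp, Pi.single_apply, Equiv.symm_apply_eq]
  · rw [submatrix_vecMul_equiv, Function.comp_assoc, e.self_comp_symm, Function.comp_id, h2]
    rfl

theorem rc_sub' (e : J ≃ I) {b : Vec J × Vec J} (h : b ∈ Rc (C.submatrix e e)) : (b.1 ∘ e.symm, b.2 ∘ e.symm) ∈ Rc C := by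
  simpa using rc_sub e.symm h

theorem car_sub (e : J ≃ I) (h : Car C d) : Car (C.submatrix e e) (d ∘ e) :=
  ⟨fun _ => h.diag _, fun _ _ k => h.off _ _ (e.injective.ne k), fun _ => h.dpos _, fun _ _ => h.sym _ _, fun β hβ => by
    have h1 := h.pos (β ∘ e.symm) fun k => hβ (funext fun j => by simpa using congrFun k (e j))
    rw [← e.sum_comp] at h1
    simpa only [submatrix_vecMul_equiv, _root_.Function.comp_apply, _root_.gt_iff_lt, _root_.Equiv.symm_apply_apply] using h1⟩

theorem nm_sub (e : J ≃ I) (h : Nm B (Rc C)) : Nm (B.submatrix e e) (Rc (C.submatrix e e)) := fun b hb => by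
  obtain ⟨a, ha, h1, h2⟩ := h _ (rc_sub' e hb)
  refine ⟨_, rc_sub e ha, by rw [submatrix_mulVec_equiv, h1], ?_⟩
  rw [submatrix_vecMul_equiv, Function.comp_assoc, e.self_comp_symm, Function.comp_id, h2, Function.comp_assoc, e.symm_comp_self,
    Function.comp_id]

theorem tr_sub (e : J ≃ I) {d' : J → ℤ} (R : Rs (C.submatrix e e) d') :
    Tr ((1 : Mat I).submatrix e (Equiv.refl I)) (Rc C) (Rc (C.submatrix e e)) := by
  have h1 : ∀ v : Vec I, (1 : Mat I).submatrix e (Equiv.refl I) *ᵥ v = v ∘ e := fun v => by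
    rw [submatrix_mulVec_equiv, one_mulVec]
    rfl
  have h2 : ∀ v : Vec J, v ᵥ* (1 : Mat I).submatrix e (Equiv.refl I) = v ∘ e.symm := fun v => by
    rw [submatrix_vecMul_equiv, vecMul_one]
    rfl
  refine ⟨fun v k => funext fun i => by simpa using congrFun ((h1 v).symm.trans k) (e.symm i), fun a ha => ⟨_, rc_sub e ha, h1 _, ?_⟩,
    fun b hb => ⟨_, rc_sub' e hb, ?_, h2 _⟩, R.ext, fun b hb => R.nm _ (R.ww ▸ rfm_mem hb)⟩
  · rw [h2, Function.comp_assoc, e.self_comp_symm, Function.comp_id]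
  · rw [h1, Function.comp_assoc, e.symm_comp_self, Function.comp_id]

/-- change of the representative of the coset -/
theorem cu_mul {l : ℕ} {w u : Mat I} (hw : w ∈ WW Ψ) (hu : u ∈ WW Ψ) (e : u * w = 1) (h : Cu l Ψ B) : Cu l Ψ (w * B) := by
  have k : ∀ A, Co Ψ (w * B) A ↔ Co Ψ B A := fun A =>
    ⟨fun ⟨x, a, b⟩ => ⟨x * w, mul_mem a hw, by rw [b, mul_assoc]⟩,
      fun ⟨x, a, b⟩ => ⟨x * u, mul_mem a hu, by rw [b, mul_assoc, ← mul_assoc u, e, one_mul]⟩⟩
  exact fun q d e f a b A c => h q d e f a ⟨fun u hu A c => b.cj u hu A ((k A).2 c), fun A c => b.bad A ((k A).2 c),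
    fun A c => b.rel A ((k A).2 c)⟩ A ((k A).1 c)

end Ch

open Ch

/-- **[Ch]** -/
theorem boxCh (hR : BoxRs) : BoxCh := fun C d B h hB => main (hR C d h) _ B rfl hB

/-- **[Re]** -/
theorem boxRe (hR : BoxRs) (hCh : BoxCh) (hT : BoxTr) : BoxRe := by
  rintro n c hs I _ _ C d B l h ⟨e, he⟩ hB
  have h1 : C.submatrix e e = cm n c := Matrix.ext he
  have R := hR _ _ (car_sub e h)
  obtain ⟨w, hw, π, h2, h3⟩ := hCh _ _ _ (car_sub e h) (nm_sub e hB)
  refine (hT C d _ _ B (B.submatrix e e) l h (tr_sub e R) ?_ (nm_sub e hB)).2.1 ?_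
  · rw [submatrix_mul_equiv, mul_one]
    exact ((submatrix_mul_equiv 1 B e (Equiv.refl I) (Equiv.refl I)).trans (by rw [one_mul])).symm
  · obtain ⟨u, hu, h4, -⟩ := R.inv w hw
    rw [h3]
    refine cu_mul (R.ww ▸ hw) (R.ww ▸ hu) h4 ?_
    rw [h1] at h2 ⊢
    exact hs l π h2

/-- **[Cl]** -/
theorem boxCl2 : BoxCl2 := by
  intro I _ _ _ C d h hc
  by_cases h3 : 3 ≤ Fintype.card I
  · rcases classify (cox C) (q_pos h) (fun a b k => by have := ent' h k; omega) (fun a b => by
        by_cases k : a = b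
        · rw [k, (cox C).diagonal]; decide
        · have := ent' h k; omega) (fun J ⟨a, ha⟩ ⟨b, hb⟩ => by
        obtain ⟨u, hu, v, hv, k⟩ := conn (hc a b) ha hb
        have := ent' h (show u ≠ v from fun e => hv (e ▸ hu))
        exact ⟨u, hu, v, hv, by omega⟩) h3 with
      ⟨n, v, hn, hL⟩ | ⟨n, v, hn, hL⟩ | ⟨n, v, hn, hL⟩ | ⟨v, hL⟩ | ⟨v, hL⟩ | ⟨v, hL⟩ | ⟨v, hL⟩
    · refine .inl ⟨n, v, fun i j => ?_⟩
      have h1 := val h hL i j
      unfold mA at h1
      unfold cA
      split_ifs at h1 ⊢ <;> omega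
    · obtain ⟨m, rfl⟩ : ∃ m, n = m + 2 := ⟨n - 2, by omega⟩
      have k1 : ∀ i j : Fin (m + 2), (i : ℕ) = m → (j : ℕ) = m + 1 → C (v i) (v j) = C (v ⟨m, by omega⟩) (v ⟨m + 1, by omega⟩) ∧
          C (v j) (v i) = C (v ⟨m + 1, by omega⟩) (v ⟨m, by omega⟩) := fun i j a b => by
        rw [show i = ⟨m, by omega⟩ from Fin.ext a, show j = ⟨m + 1, by omega⟩ from Fin.ext b]
        exact ⟨rfl, rfl⟩
      rcases four h hL ⟨m, by omega⟩ ⟨m + 1, by omega⟩ (by simp [mC]) with k | k
      · refine .inr (.inl ⟨_, by omega, v, fun i j => ?_⟩)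
        have h1 := val h hL i j
        have h2 := k1 i j
        have h4 := k1 j i
        unfold mC at h1
        unfold cB cA
        split_ifs at h1 ⊢ <;> omega
      · refine .inr (.inr (.inl ⟨_, by omega, v, fun i j => ?_⟩))
        have h1 := val h hL i j
        have h2 := k1 i j
        have h4 := k1 j i
        unfold mC at h1
        unfold cC cB cA
        split_ifs at h1 ⊢ <;> omega
    · refine .inr (.inr (.inr (.inl ⟨n, hn, v, fun i j => ?_⟩)))
      have h1 := val h hL i j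
      unfold mD at h1
      unfold cT
      split_ifs at h1 ⊢ <;> (solve | lia | omega)
    · exact .inr (.inr (.inr (.inr (.inl (tE h hL)))))
    · exact .inr (.inr (.inr (.inr (.inr (.inl (tE h hL))))))
    · exact .inr (.inr (.inr (.inr (.inr (.inr (.inl (tE h hL)))))))
    · have h1 := tF h hL
      refine .inr (.inr (.inr (.inr (.inr (.inr (.inr (.inl ?_)))))))
      rcases four h hL 1 2 rfl with k | k <;> rw [k.1, k.2] at h1
      exacts [h1, ty_perm h1 Fin.revPerm (by decide)]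
  · have h0 : 0 < Fintype.card I := Fintype.card_pos
    obtain k | k : Fintype.card I = 1 ∨ Fintype.card I = 2 := by omega
    · refine .inl ⟨1, (Fintype.equivFinOfCardEq k).symm, fun i j => ?_⟩
      rw [Subsingleton.elim j i, h.diag]
      exact (if_pos rfl).symm
    · let v := (Fintype.equivFinOfCardEq k).symm
      have h1 := t2 h v
      have h2 : v 0 ≠ v 1 := v.injective.ne (by decide)
      rcases ent h h2 with e | e | e | e | e | e <;> rw [e.1, e.2] at h1
      · obtain ⟨_, rfl, b, hb, k'⟩ := conn (J := {v 0}) (hc (v 0) (v 1)) rfl h2.symm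
        obtain ⟨j, rfl⟩ := v.surjective b
        fin_cases j
        exacts [absurd rfl hb, absurd e.1 k']
      · exact .inl ⟨2, Ty.congr h1 (by decide)⟩
      · exact .inr (.inl ⟨2, le_rfl, Ty.congr h1 (by decide)⟩)
      · exact .inr (.inr (.inl ⟨2, le_rfl, Ty.congr h1 (by decide)⟩))
      · exact .inr (.inr (.inr (.inr (.inr (.inr (.inr (.inr h1)))))))
      · exact .inr (.inr (.inr (.inr (.inr (.inr (.inr (.inr (ty_perm h1 Fin.revPerm (by decide)))))))))

end Cfsg.Agent.OM.Cu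
end

private theorem dce_ad848eb2c51a : _root_.True := by
  try have : _root_.True := by simp only [_root_.Cfsg.Agent.OM.Cas.cas.eq_1]
  try have : _root_.True := by simp only [_root_.Cfsg.Agent.OM.Cu.sp.eq_1]
  try have : _root_.True := by simp only [_root_.Cfsg.Agent.OM.Cu.Rc.congr_simp]
  exact _root_.True.intro
end

-- part: OM/Cu/EngA
section
prune_inst 0x4010000
set_option linter.all false
open scoped Cfsg.Agent.FastGrp

/-!
# OM / Cu : the class table engine, vectors and roots (helper55)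
-/

set_option autoImplicit false
set_option linter.unusedSectionVars false

namespace Cfsg.Agent.OM.Cu.Eng

open Cfsg Matrix Cfsg.Agent.HZ.L Cfsg.Agent.BZ.TA Finset

theorem fc_eq {α : Type} (x : ℕ) (f : ℕ → α) : fc x f = f x := by cases x <;> rfl

theorem aL_iff {f : ℕ → Bool} {n : ℕ} : aL f n = true ↔ ∀ i < n, f i = true := by
  induction n with
  | zero => exact ⟨fun _ i h => absurd h (Nat.not_lt_zero i), fun _ => rfl⟩
  | succ n ih =>
    show (f n && aL f n) = true ↔ _
    rw [Bool.and_eq_true, ih, Nat.forall_lt_succ_right, and_comm]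

theorem eL_iff {f : ℕ → Bool} {n : ℕ} : eL f n = true ↔ ∃ i < n, f i = true := by
  induction n with
  | zero => exact ⟨fun h => absurd h Bool.false_ne_true, fun ⟨i, h, _⟩ => absurd h (Nat.not_lt_zero i)⟩
  | succ n ih =>
    show (f n || eL f n) = true ↔ _
    rw [Bool.or_eq_true, ih, Nat.exists_lt_succ_right, or_comm]

theorem sL_eq (f : ℕ → ℕ) (n : ℕ) : sL f n = ∑ i ∈ range n, f i := by
  induction n with
  | zero => rfl
  | succ n ih => rw [sum_range_succ, ← ih, add_comm _ (f n)]; rfl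

theorem zL_eq (f : ℕ → ℤ) (n : ℕ) : zL f n = ∑ i ∈ range n, f i := by
  induction n with
  | zero => rfl
  | succ n ih => rw [sum_range_succ, ← ih, add_comm _ (f n)]; rfl

theorem beq_ne {a b : ℕ} (h : a ≠ b) : Nat.beq a b = false := Bool.eq_false_iff.2 (mt Nat.eq_of_beq_eq_true h)

theorem mod_eq (a b : ℕ) : Nat.mod a b = a % b := rfl

theorem fd_lt (k X j : ℕ) : fd k X j < 2 ^ k := Nat.mod_lt _ (Nat.two_pow_pos k)

theorem BB_eq : BB = 2 ^ 136 := by decide +kernel

theorem BB_pos : 0 < BB := by decide +kernel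

theorem NN_pos : 0 < NN := by decide +kernel

theorem NN_lt : NN < BB := by decide +kernel

theorem NM_eq : (NM : ZMod NN) = -1 := by
  rw [eq_neg_iff_add_eq_zero, ← Nat.cast_succ, show NM.succ = NN by decide +kernel, ZMod.natCast_self]

theorem NN_eq : NN = 210 * 65536 ^ 8 := by decide +kernel

theorem dg_eq (V j : ℕ) : dg V j = V / BB ^ j % BB := by
  rw [BB_eq, ← pow_mul, ← Nat.shiftRight_eq_div_pow, ← BB_eq]
  rfl

theorem sh_eq (x j : ℕ) : Nat.shiftLeft x (Nat.mul 136 j) = x * BB ^ j := by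
  rw [BB_eq, ← pow_mul, ← Nat.shiftLeft_eq]
  rfl

theorem dig {B : ℕ} (hB : 0 < B) (hi : ℕ) {x lo i : ℕ} (h1 : lo < B ^ i) (h2 : x < B) (j : ℕ) :
    ((hi * B + x) * B ^ i + lo) / B ^ j % B = if j < i then lo / B ^ j % B else if j = i then x else hi / B ^ (j - i - 1) % B := by
  have k : ((hi * B + x) * B ^ i + lo) / B ^ i = hi * B + x := by
    rw [add_comm, Nat.add_mul_div_right _ _ (Nat.pow_pos hB), Nat.div_eq_of_lt h1, zero_add]
  split_ifs with a b
  · obtain ⟨m, rfl⟩ := Nat.exists_eq_add_of_lt a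
    rw [add_comm, show (hi * B + x) * B ^ (j + m + 1) = (hi * B + x) * B ^ m * B * B ^ j by ring,
      Nat.add_mul_div_right _ _ (Nat.pow_pos hB), Nat.add_mul_mod_self_right]
  · rw [b, k, add_comm, Nat.add_mul_mod_self_right, Nat.mod_eq_of_lt h2]
  · obtain ⟨m, rfl⟩ := Nat.exists_eq_add_of_lt (show i < j by omega)
    rw [show i + m + 1 - i - 1 = m by omega, show B ^ (i + m + 1) = B ^ i * (B * B ^ m) by ring, ← Nat.div_div_eq_div_mul, k,
      ← Nat.div_div_eq_div_mul, add_comm, Nat.add_mul_div_right _ _ hB, Nat.div_eq_of_lt h2, zero_add]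

theorem pk_succ (g : ℕ → ℕ) (n : ℕ) : pk g (n + 1) = (0 * BB + g n % NN) * BB ^ n + pk g n := by
  rw [zero_mul, zero_add, ← sh_eq]
  rfl

theorem pk_lt (g : ℕ → ℕ) (n : ℕ) : pk g n < BB ^ n := by
  induction n with
  | zero => exact Nat.one_pos
  | succ n ih =>
    have h := (Nat.mod_lt (g n) NN_pos).trans NN_lt
    rw [pk_succ, pow_succ]
    nlinarith

theorem dg_pk (g : ℕ → ℕ) (n j : ℕ) : dg (pk g n) j = if j < n then g j % NN else 0 := by
  induction n with
  | zero => rw [dg_eq, if_neg (Nat.not_lt_zero j)]; exact (congrArg (· % BB) (Nat.zero_div _)).trans (Nat.zero_mod _)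
  | succ n ih =>
    rw [dg_eq, pk_succ, dig BB_pos _ (pk_lt g n) ((Nat.mod_lt _ NN_pos).trans NN_lt), ← dg_eq, ih, Nat.zero_div, Nat.zero_mod]
    split_ifs <;> first | rfl | omega | simp [*]

theorem dg_set (V i : ℕ) {y : ℕ} (hy : y < BB) (j : ℕ) :
    dg (V - dg V i * BB ^ i + y * BB ^ i) j = if j = i then y else dg V j := by
  have h1 : V % BB ^ i < BB ^ i := Nat.mod_lt _ (Nat.pow_pos BB_pos)
  have h2 : dg V i < BB := dg_eq V i ▸ Nat.mod_lt _ BB_pos
  have e : V = (V / BB ^ i / BB * BB + dg V i) * BB ^ i + V % BB ^ i := by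
    rw [dg_eq, Nat.div_add_mod', Nat.div_add_mod']
  have e' : V - dg V i * BB ^ i + y * BB ^ i = (V / BB ^ i / BB * BB + y) * BB ^ i + V % BB ^ i := by
    rw [add_mul] at e
    rw [add_mul]
    generalize V % BB ^ i = z at *
    omega
  have k := dig BB_pos (V / BB ^ i / BB) h1 h2 j
  rw [← e, ← dg_eq] at k
  rw [e', dg_eq, dig BB_pos _ h1 hy, k]
  split_ifs <;> first | rfl | omega

theorem digits {b : ℤ} (hb : b ≠ 0) : ∀ (n : ℕ) (x : Fin n → ℤ), (∀ j, |x j| < b) → b ^ n ∣ ∑ j, x j * b ^ (j : ℕ) → x = 0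
  | 0, _, _, _ => Subsingleton.elim _ _
  | n + 1, x, h, hd => by
    have e : ∑ j, x j * b ^ (j : ℕ) = x 0 + b * ∑ j : Fin n, x j.succ * b ^ (j : ℕ) := by
      rw [Fin.sum_univ_succ, mul_sum]
      simp only [Fin.val_zero, pow_zero, mul_one, Fin.val_succ, pow_succ]
      exact congrArg _ (sum_congr rfl fun j _ => by ring)
    rw [e] at hd
    have h0 : x 0 = 0 := Int.eq_zero_of_abs_lt_dvd
      ((dvd_add_left (dvd_mul_right b _)).1 ((dvd_pow_self b n.succ_ne_zero).trans hd)) (h 0)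
    rw [h0, zero_add, pow_succ', mul_dvd_mul_iff_left hb] at hd
    have h1 := digits hb n (fun j => x j.succ) (fun j => h _) hd
    exact funext fun j => Fin.cases h0 (fun j => congrFun h1 j) j

/-- the test vector -/
def tv (n : ℕ) : Vec (Fin n) := fun j => 65536 ^ (j : ℕ)

theorem one_vec {n : ℕ} (hn : n ≤ 8) {X : Mat (Fin n)} (h : ∀ i j, |X i j| < 65536) (h0 : ∀ i, (((X *ᵥ tv n) i : ℤ) : ZMod NN) = 0) :
    X = 0 := by
  refine funext fun i => digits (b := 65536) (by norm_num) n (X i) (h i) ?_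
  have k := (ZMod.intCast_zmod_eq_zero_iff_dvd _ _).1 (h0 i)
  refine ((pow_dvd_pow _ hn).trans ?_).trans k
  rw [NN_eq]
  exact ⟨210, by norm_num⟩

/-- the number `V` represents the vector `u` -/
structure Rp (n V : ℕ) (u : Vec (Fin n)) : Prop where
  lt : ∀ j < n, dg V j < NN
  eq : ∀ j : Fin n, (dg V j : ZMod NN) = u j
  zero : dg V n = 0

theorem rp_pk {n : ℕ} {g : ℕ → ℕ} {u : Vec (Fin n)} (h : ∀ j : Fin n, (g j : ZMod NN) = u j) : Rp n (pk g n) u :=
  ⟨fun j hj => by rw [dg_pk, if_pos hj]; exact Nat.mod_lt _ NN_pos,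
    fun j => by rw [dg_pk, if_pos j.2, ZMod.natCast_mod, h], by rw [dg_pk, if_neg (lt_irrefl n)]⟩

theorem rp_zero (n : ℕ) : Rp n 0 0 := by
  have k : ∀ j, dg 0 j = 0 := fun j => by rw [dg_eq, Nat.zero_div, Nat.zero_mod]
  exact ⟨fun j _ => by rw [k]; exact NN_pos, fun j => by simp [k], k n⟩

theorem Rp.sel {n V : ℕ} {u : Vec (Fin n)} (h : Rp n V u) {a : ℕ} (ha : a ≤ n) :
    (dg V a : ZMod NN) = ∑ k : Fin n, ((cond (Nat.beq a k) 1 0 : ℤ) : ZMod NN) * u k := by
  rcases ha.lt_or_eq with ha | rfl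
  · rw [sum_eq_single ⟨a, ha⟩ (fun k _ hk => ?_) (fun k => absurd (mem_univ _) k), Nat.beq_refl, ← h.eq ⟨a, ha⟩]
    · simp
    · rw [beq_ne fun e => hk (Fin.ext e.symm)]
      simp
  · rw [h.zero, sum_eq_zero fun k _ => ?_, Nat.cast_zero]
    rw [beq_ne k.2.ne']
    simp

namespace Tb

variable {T : Tb} {c : ℕ → ℕ → ℤ}

variable (T c) in
/-- the content of the check `bas` -/
structure Bs : Prop where
  n8 : T.n ≤ 8
  nR : T.n ≤ T.R
  K0 : 0 < T.K
  w0 : fd 400 T.cw 0 = 0
  nb : ∀ i < T.n, ∀ s < 3, fd 4 T.nb (3 * i + s) ≤ T.n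
  ca : ∀ i < T.n, ∀ j < T.n, ∑ s ∈ range 3, (cond (Nat.beq (fd 4 T.nb (3 * i + s)) j) 1 0 : ℤ) + c j i = cond (Nat.beq i j) 2 0
  co : ∀ i < T.n, ∀ j < T.n, T.co i j = cond (Nat.beq i j) 1 0
  ro : ∀ i < T.n, ∀ j < T.n, (T.ro i j : ℤ) = c j i + 3
  dn : ∀ t < T.R, t < T.n ∨ ∃ i < T.n, fd 8 T.nx (8 * t + i) < t
  nx : ∀ t < T.R, ∀ i < T.n, fd 8 T.nx (8 * t + i) < T.R ∧ (t = i ∨ ∀ j < T.n,
    (T.co (fd 8 T.nx (8 * t + i)) j : ℤ) = T.co t j - cond (Nat.beq i j) (∑ k ∈ range T.n, c k i * T.co t k) 0 ∧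
      (T.ro (fd 8 T.nx (8 * t + i)) j : ℤ) = T.ro t j - ((T.ro t i : ℤ) - 3) * c j i)

theorem bs_of (h : T.bas c = true) : T.Bs c := by
  simp only [bas, Bool.and_eq_true, Bool.or_eq_true, aL_iff, eL_iff, fc_eq, zL_eq, Nat.ble_eq, Nat.blt_eq, Nat.beq_eq,
    decide_eq_true_eq] at h
  obtain ⟨⟨⟨a1, a2⟩, a3, a4⟩, b, d⟩ := h
  exact ⟨a1, a2, a3, a4, fun i hi => (b i hi).1, fun i hi j hj => ((b i hi).2 j hj).1, fun i hi j hj => ((b i hi).2 j hj).2.1,
    fun i hi j hj => ((b i hi).2 j hj).2.2, fun t ht => (d t ht).1, fun t ht => (d t ht).2⟩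

variable (T) in
/-- the root `t` -/
def rr (t : ℕ) : Vec (Fin T.n) × Vec (Fin T.n) := (fun j => (T.ro t j : ℤ) - 3, fun j => (T.co t j : ℤ))

variable (T c) in
/-- the matrix of a word -/
def wd (w : ℕ) : Mat (Fin T.n) :=
  Nat.rec 1 (fun s ih => (if h : fd 3 (Nat.shiftRight w 7) s < T.n then rfm (sp (cm T.n c) ⟨_, h⟩) else 1) * ih) (Nat.mod w 128)

theorem wd_mem (w : ℕ) : T.wd c w ∈ Wc (cm T.n c) := by
  unfold wd
  induction Nat.mod w 128 with
  | zero => exact one_mem _
  | succ s ih =>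
    refine mul_mem ?_ ih
    split_ifs
    exacts [Submonoid.subset_closure ⟨_, ⟨_, rfl⟩, rfl⟩, one_mem _]

theorem cond_fin {α : Type} {n : ℕ} (i j : Fin n) (x y : α) : cond (Nat.beq i j) x y = if j = i then x else y := by
  split_ifs with h
  · rw [h, Nat.beq_refl, cond_true]
  · rw [beq_ne fun e => h (Fin.ext e.symm), cond_false]

theorem sp_vec {n : ℕ} (i j : Fin n) (u : Vec (Fin n)) :
    (rfm (sp (cm n c) i) *ᵥ u) j = u j - if j = i then ∑ k : Fin n, c k i * u k else 0 := by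
  rw [rfm_mulVec]
  simp only [sp, Pi.sub_apply, Pi.smul_apply, Pi.single_apply, smul_eq_mul, mul_ite, mul_one, mul_zero]
  rfl

variable {V : ℕ} {u : Vec (Fin T.n)}

theorem rp_aR (t : ℕ) (h : Rp T.n V u) : Rp T.n (T.aR t V) (rfm (T.rr t) *ᵥ u) := by
  rw [aR, fc_eq]
  refine rp_pk fun j => ?_
  rw [rfm_mulVec, sL_eq, ← Fin.sum_univ_eq_sum_range (fun j => Nat.mul (Nat.add (T.ro t j) (Nat.mul 3 NM)) (dg V j))]
  simp only [Nat.add_eq, Nat.mul_eq, mod_eq, rr, dotProduct, Pi.sub_apply, Pi.smul_apply, smul_eq_mul]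
  push_cast [ZMod.natCast_mod, NM_eq, h.eq]
  rw [show ∑ k : Fin T.n, ((T.ro t k : ZMod NN) + 3 * -1) * u k = ∑ k : Fin T.n, ((T.ro t k : ZMod NN) - 3) * u k from
    sum_congr rfl fun k _ => by ring]
  ring

theorem rp_v0 : Rp T.n T.v0 (tv T.n) := rp_pk fun j => by simp [tv]

theorem eqv_iff {U : ℕ} {v : Vec (Fin T.n)} (h : Rp T.n V u) (h' : Rp T.n U v) :
    T.eqv V U = true ↔ ∀ j, (u j : ZMod NN) = v j := by
  simp only [eqv, fc_eq, aL_iff, Nat.beq_eq]
  refine ⟨fun k j => by rw [← h.eq, ← h'.eq, k j j.2], fun k j hj => ?_⟩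
  have e := k ⟨j, hj⟩
  rwa [← h.eq, ← h'.eq, ZMod.natCast_eq_natCast_iff', Nat.mod_eq_of_lt (h.lt j hj), Nat.mod_eq_of_lt (h'.lt j hj)] at e

theorem rp_aB {π : Equiv.Perm (Fin T.n)} (hπ : ∀ j, fd 4 T.ip (π j) = j) (h : Rp T.n V u) : Rp T.n (T.aB V) (pm π *ᵥ u) :=
  rp_pk fun j => by
    obtain ⟨j, rfl⟩ := π.surjective j
    rw [hπ, h.eq, pm_mulVec]

namespace Bs

variable (H : T.Bs c)
include H

theorem rp_rf (i : Fin T.n) (h : Rp T.n V u) : Rp T.n (T.rf i V) (rfm (sp (cm T.n c) i) *ᵥ u) := by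
  have k : ∀ j, dg (T.rf i V) j = if j = i then (dg V (fd 4 T.nb (3 * i + 0)) + dg V (fd 4 T.nb (3 * i + 1)) +
      dg V (fd 4 T.nb (3 * i + 2)) + NM * dg V i) % NN else dg V j := fun j => by
    rw [← dg_set V i ((Nat.mod_lt _ NN_pos).trans NN_lt), ← sh_eq, ← sh_eq]
    rfl
  refine ⟨fun j hj => ?_, fun j => ?_, by rw [k, if_neg i.2.ne', h.zero]⟩
  · rw [k]
    split_ifs
    exacts [Nat.mod_lt _ NN_pos, h.lt j hj]
  · rw [k, sp_vec]
    by_cases e : j = i
    · subst e
      have a : ∀ k : Fin T.n, ((c k j : ℤ) : ZMod NN) = (if k = j then 2 else 0) -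
          (((cond (Nat.beq (fd 4 T.nb (3 * j + 0)) k) 1 0 : ℤ) : ZMod NN) +
            ((cond (Nat.beq (fd 4 T.nb (3 * j + 1)) k) 1 0 : ℤ) : ZMod NN) +
            ((cond (Nat.beq (fd 4 T.nb (3 * j + 2)) k) 1 0 : ℤ) : ZMod NN)) := fun k => by
        have b := congrArg (Int.cast : ℤ → ZMod NN) (H.ca j j.2 k k.2)
        rw [cond_fin, sum_range_succ, sum_range_succ, sum_range_one] at b
        push_cast at b
        rw [← b]
        ring
      rw [if_pos rfl, if_pos rfl]
      push_cast [ZMod.natCast_mod, NM_eq, h.eq, h.sel (H.nb j j.2 0 (by omega)), h.sel (H.nb j j.2 1 (by omega)),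
        h.sel (H.nb j j.2 2 (by omega))]
      simp only [a, sub_mul, add_mul, sum_sub_distrib, sum_add_distrib, ite_mul, zero_mul, sum_ite_eq', mem_univ, if_true]
      ring
    · rw [if_neg fun k => e (Fin.ext k), if_neg e, sub_zero, h.eq]

theorem rp_aw (w : ℕ) (h : Rp T.n V u) : Rp T.n (T.aw w V) (T.wd c w *ᵥ u) := by
  rw [aw, fc_eq]
  unfold wd
  induction Nat.mod w 128 with
  | zero => rwa [Nat.rec_zero, Nat.rec_zero, one_mulVec]
  | succ s ih =>
    dsimp only
    rw [fc_eq, fc_eq, ← mulVec_mulVec]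
    split_ifs with k
    · rw [Nat.blt_eq.mpr k, cond_true]
      exact H.rp_rf ⟨_, k⟩ ih
    · rwa [Bool.eq_false_iff.2 (mt Nat.blt_eq.mp k), cond_false, one_mulVec]

theorem rr_sp (i : Fin T.n) : T.rr i = sp (cm T.n c) i := by
  refine Prod.ext (funext fun j => ?_) (funext fun j => ?_)
  · show (T.ro i j : ℤ) - 3 = c j i
    rw [H.ro i i.2 j j.2, add_sub_cancel_right]
  · show (T.co i j : ℤ) = Pi.single (M := fun _ => ℤ) i 1 j
    rw [H.co i i.2 j j.2, cond_fin, Pi.single_apply]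
    split_ifs <;> rfl

theorem step {t : ℕ} (ht : t < T.R) (i : Fin T.n) (hne : t ≠ i) :
    rfm (sp (cm T.n c) i) *ᵥ (T.rr t).2 = (T.rr (fd 8 T.nx (8 * t + i))).2 ∧
      (T.rr t).1 ᵥ* rfm (sp (cm T.n c) i) = (T.rr (fd 8 T.nx (8 * t + i))).1 := by
  have k := (H.nx t ht i i.2).2.resolve_left hne
  refine ⟨funext fun j => ?_, funext fun j => ?_⟩
  · rw [sp_vec]
    show _ = (T.co _ j : ℤ)
    rw [(k j j.2).1, cond_fin, ← Fin.sum_univ_eq_sum_range (fun k => c k i * T.co t k)]
    rfl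
  · rw [vecMul_rfm]
    show _ = (T.ro _ j : ℤ) - 3
    rw [(k j j.2).2]
    simp only [sp, rr, dotProduct_single, Pi.sub_apply, Pi.smul_apply, smul_eq_mul, mul_one, cm, of_apply]
    ring

variable {d : Fin T.n → ℤ} (R : Rs (cm T.n c) d)
include R

theorem rr_mem (t : ℕ) : t < T.R → T.rr t ∈ Rc (cm T.n c) := by
  induction t using Nat.strong_induction_on with
  | _ t ih =>
    intro ht
    by_cases h : t < T.n
    · exact H.rr_sp ⟨t, h⟩ ▸ R.mem _
    · obtain ⟨i, hi, k⟩ := (H.dn t ht).resolve_left h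
      obtain ⟨k1, k2⟩ := H.step ht ⟨i, hi⟩ (by dsimp only; omega)
      have s := rfm_sq (R.two _ (R.mem ⟨i, hi⟩))
      obtain ⟨b, hb, e1, e2⟩ := R.nm _ (Submonoid.subset_closure ⟨_, ⟨⟨i, hi⟩, rfl⟩, rfl⟩) _ (ih _ k (k.trans ht))
      rw [← k1, mulVec_mulVec, s, one_mulVec] at e1
      have e3 := congrArg (· ᵥ* rfm (sp (cm T.n c) ⟨i, hi⟩)) (e2.trans k2.symm)
      simp only [vecMul_vecMul, s, vecMul_one] at e3
      rwa [show T.rr t = b from Prod.ext e3.symm e1]

theorem rr_all {a : Vec (Fin T.n) × Vec (Fin T.n)} (ha : a ∈ Rc (cm T.n c)) : ∃ t < T.R, a = T.rr t ∨ a = -T.rr t := by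
  have k : ∀ w ∈ Wc (cm T.n c), ∀ t < T.R, ∃ t' < T.R, w *ᵥ (T.rr t).2 = (T.rr t').2 ∨ w *ᵥ (T.rr t).2 = -(T.rr t').2 := by
    intro w hw
    induction hw using Submonoid.closure_induction with
    | mem x hx =>
      obtain ⟨_, ⟨i, rfl⟩, rfl⟩ := hx
      intro t ht
      by_cases e : t = i
      · refine ⟨t, ht, Or.inr ?_⟩
        rw [e, H.rr_sp, rfm_mulVec, R.two _ (R.mem i), two_smul, sub_add_cancel_left]
      · exact ⟨_, (H.nx t ht i i.2).1, Or.inl (H.step ht i e).1⟩
    | one => exact fun t ht => ⟨t, ht, Or.inl (one_mulVec _)⟩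
    | mul x y _ _ hx hy =>
      intro t ht
      obtain ⟨t', h1, e⟩ := hy t ht
      obtain ⟨t'', h2, e'⟩ := hx t' h1
      refine ⟨t'', h2, ?_⟩
      rw [← mulVec_mulVec]
      rcases e with e | e <;> rcases e' with e' | e' <;> simp [e, e', mulVec_neg]
  obtain ⟨w, hw, i, e, -⟩ := id ha
  obtain ⟨t, ht, e'⟩ := k w hw i (i.2.trans_le H.nR)
  rw [H.rr_sp, e] at e'
  exact ⟨t, ht, e'.imp (R.ext _ ha _ (H.rr_mem R t ht)) (R.ext _ ha _ (R.neg _ (H.rr_mem R t ht)))⟩

theorem bound {X : Mat (Fin T.n)} (h : Nm X (Rc (cm T.n c))) (i j : Fin T.n) : |X i j| ≤ 15 := by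
  obtain ⟨b, hb, e, -⟩ := h _ (R.mem j)
  obtain ⟨t, -, e'⟩ := H.rr_all R hb
  have e1 : X i j = b.2 i := by rw [← e]; simp [sp]
  have k : T.co t i < 2 ^ 4 := fd_lt _ _ _
  have e2 : (T.rr t).2 i = T.co t i := rfl
  rcases e' with rfl | rfl
  · rw [e1, e2, abs_le]; omega
  · rw [e1, Prod.snd_neg, Pi.neg_apply, e2, abs_le]; omega

end Bs

end Tb

theorem nm_pm {I : Type} [Fintype I] [DecidableEq I] {C : Mat I} {π : Equiv.Perm I} (h : ∀ i j, C (π i) (π j) = C i j) :
    Nm (pm π) (Rc C) := by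
  have k : ∀ i, pm π *ᵥ (sp C i).2 = (sp C (π i)).2 ∧ (sp C (π i)).1 ᵥ* pm π = (sp C i).1 := fun i =>
    ⟨pm_single π i, funext fun j => by rw [vecMul_pm]; exact h j i⟩
  have e1 : pm π⁻¹ * pm π = 1 := by rw [← pm_mul, inv_mul_cancel, pm_one]
  have e2 : pm π * pm π⁻¹ = 1 := by rw [← pm_mul, mul_inv_cancel, pm_one]
  rintro a ⟨w, hw, i, a1, a2⟩
  obtain ⟨v, hv, e⟩ := Nm.ww (B := pm π) (Ψ := Set.range (sp C)) (by rintro _ ⟨i, rfl⟩; exact ⟨_, ⟨π i, rfl⟩, k i⟩) hw
  refine ⟨(a.1 ᵥ* pm π⁻¹, pm π *ᵥ a.2), ⟨v, hv, π i, ?_, ?_⟩, rfl, ?_⟩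
  · rw [← (k i).1, mulVec_mulVec, ← e, ← mulVec_mulVec, a1]
  · have e3 : pm π⁻¹ * v = w * pm π⁻¹ := by
      rw [← one_mul (w * _), ← e1, mul_assoc, ← mul_assoc (pm π), e, mul_assoc, e2, mul_one]
    rw [vecMul_vecMul, e3, ← vecMul_vecMul, a2, ← (k i).2, vecMul_vecMul, e2, vecMul_one]
  · rw [vecMul_vecMul, e1, vecMul_one]

end Cfsg.Agent.OM.Cu.Eng

private theorem dce_5ccf38fe0e22 : _root_.True := by
  try have : _root_.True := by simp only [_root_.Cfsg.Agent.OM.Cu.Eng.Tb.aw.eq_1]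
  try have : _root_.True := by simp only [_root_.Cfsg.Agent.OM.Cu.sp.eq_1]
  try have : _root_.True := by simp only [_root_.Cfsg.Agent.OM.Cu.Eng.Tb.aR.eq_1]
  try have : _root_.True := by simp only [_root_.Cfsg.Agent.OM.Cu.Eng.Tb.eqv.eq_1]
  try have : _root_.True := by simp only [_root_.Cfsg.Agent.OM.Cu.Eng.Tb.bas.eq_1]
  try have : _root_.True := by simp only [_root_.Cfsg.Agent.OM.Cu.cm.eq_1]
  try have : _root_.True := by simp only [_root_.Cfsg.Agent.OM.Cu.Eng.tv.eq_1]
  try have : _root_.True := by simp only [_root_.Cfsg.Agent.OM.Cu.Eng.Tb.rr.eq_1]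
  exact _root_.True.intro
end

-- part: OM/Cu/Eng
section
prune_inst 0x20043340000000000510d200181210000080000b0800a0e0094601800c00814286002a00150210001800180400000010000000000000000030000003012090000400d08902042c0009800001080c00000000000000000000000000000000000000000
set_option linter.all false
open scoped Cfsg.Agent.FastGrp

/-!
# OM / Cu : the class table engine, soundness (helper55)
-/

set_option autoImplicit false
set_option linter.unusedSectionVars false

namespace Cfsg.Agent.OM.Cu.Eng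

open Cfsg Matrix Cfsg.Agent.HZ.L Cfsg.Agent.BZ.TA Finset Polynomial

/-! ### eigenvalues -/

section Eigen

variable {I : Type} [Fintype I] [DecidableEq I] {A B g u : Mat I} {μ : ℂ} {y : I → ℂ}

theorem eig_pow (h : IsE A μ y) (n : ℕ) : IsE (A ^ n) (μ ^ n) y := by
  unfold IsE at h ⊢
  induction n with
  | zero => rw [pow_zero, pow_zero, Matrix.map_one _ Int.cast_zero Int.cast_one, one_mulVec, one_smul]
  | succ n ih =>
    rw [pow_succ, show (A ^ n * A).map (Int.cast : ℤ → ℂ) = _ from Matrix.map_mul (f := Int.castRingHom ℂ), ← mulVec_mulVec]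
    simp only [Int.coe_castRingHom]
    rw [h, mulVec_smul, ih, smul_smul, pow_succ']

theorem eig_aeval (h : IsE A μ y) (p : ℤ[X]) : IsE (aeval A p) (aeval μ p) y := by
  induction p using Polynomial.induction_on' with
  | add p q hp hq =>
    unfold IsE at hp hq ⊢
    rw [map_add, map_add, Matrix.map_add _ Int.cast_add, add_mulVec, hp, hq, add_smul]
  | monomial n a =>
    have k := eig_pow h n
    unfold IsE at k ⊢
    rw [aeval_monomial, aeval_monomial, ← Algebra.smul_def, ← Algebra.smul_def, Matrix.map_smul' _ _ _ Int.cast_mul, smul_mulVec, k,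
      smul_smul, zsmul_eq_mul]

theorem eig_eq {ν : ℂ} (h : IsE A μ y) (h' : IsE A ν y) (h0 : y ≠ 0) : μ = ν :=
  smul_left_injective ℂ h0 (h.symm.trans h')

theorem eig_conj (h : IsE A μ y) (h0 : y ≠ 0) (e : g * A = B * g) (e' : u * g = 1) : ∃ z, z ≠ 0 ∧ IsE B μ z := by
  have m : ∀ X Y : Mat I, (X * Y).map (Int.cast : ℤ → ℂ) = X.map Int.cast * Y.map Int.cast := fun X Y =>
    Matrix.map_mul (f := Int.castRingHom ℂ)
  refine ⟨g.map Int.cast *ᵥ y, fun k => h0 ?_, ?_⟩
  · rw [← one_mulVec y, ← Matrix.map_one (Int.cast : ℤ → ℂ) Int.cast_zero Int.cast_one, ← e', m, ← mulVec_mulVec, k, mulVec_zero]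
  · unfold IsE at h ⊢
    rw [mulVec_mulVec, ← m, ← e, m, ← mulVec_mulVec, h, mulVec_smul]

/-- the first factor -/
noncomputable def pp (s e : ℕ) : ℤ[X] :=
  if e = 1 then 1 else if e = 4 then X ^ (s * 2) - 1 else if e = 6 then (X ^ (s * 3) - 1) * (X ^ (s * 2) - 1) else X ^ s - 1

/-- the projector -/
noncomputable def gp (s e m : ℕ) : ℤ[X] := (∑ k ∈ range m, (X ^ (s * e)) ^ k) * pp s e

theorem gp_ne {s e m : ℕ} (h : IsPrimitiveRoot (μ ^ s) e) (he : 0 < e) (hm : m ≠ 0) (h5 : e ≤ 6) : aeval μ (gp s e m) ≠ 0 := by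
  have k : ∀ j, 0 < j → j < e → μ ^ (s * j) - 1 ≠ 0 := fun j a b => by
    rw [pow_mul, sub_ne_zero]
    exact h.pow_ne_one_of_pos_of_lt a.ne' b
  rw [gp, map_mul, map_sum]
  refine mul_ne_zero ?_ ?_
  · simp only [map_pow, aeval_X, pow_mul, h.pow_eq_one, one_pow, sum_const, card_range, nsmul_eq_mul, mul_one]
    exact Nat.cast_ne_zero.2 hm
  · unfold pp
    split_ifs with a b c
    · simp
    · simpa only [_root_.Polynomial.aeval_sub, _root_.map_pow, _root_.Polynomial.aeval_X, _root_.map_one, _root_.ne_eq] using k 2 (by omega) (by omega)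
    · simpa only [_root_.map_mul, _root_.Polynomial.aeval_sub, _root_.map_pow, _root_.Polynomial.aeval_X, _root_.map_one, _root_.ne_eq, _root_.mul_eq_zero, _root_.not_or] using And.intro (k 3 (by omega) (by omega)) (k 2 (by omega) (by omega))
    · simpa only [_root_.Polynomial.aeval_sub, _root_.map_pow, _root_.Polynomial.aeval_X, _root_.map_one, _root_.ne_eq, _root_.mul_one] using k 1 (by omega) (by omega)

theorem cyc_gp {d : ℕ} (h0 : 0 < d) (h5 : d ≠ 5) (h7 : d < 7) (m : ℕ) : X ^ (d * m) - 1 ∣ cyclotomic d ℤ * gp 1 d m := by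
  have k : X ^ d - 1 ∣ cyclotomic d ℤ * pp 1 d := by
    have c4 : cyclotomic 4 ℤ = X ^ 2 + 1 := by
      have := cyclotomic_expand_eq_cyclotomic Nat.prime_two (dvd_refl 2) ℤ
      rw [cyclotomic_two] at this
      simpa using this.symm
    interval_cases d
    · simp [pp]
    · exact ⟨1, by simp only [pp, cyclotomic_two]; norm_num; ring⟩
    · exact ⟨1, by simp only [pp, cyclotomic_three]; norm_num; ring⟩
    · exact ⟨1, by simp only [pp, c4]; norm_num; ring⟩
    · exact absurd rfl h5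
    · exact ⟨X - 1, by simp only [pp, cyclotomic_six]; norm_num only [_root_.pow_one, _root_.ite_true, _root_.ite_false]; ring⟩
  obtain ⟨z, hz⟩ := k
  exact ⟨z, by rw [gp, mul_left_comm, hz, one_mul, ← mul_assoc, geom_sum_mul, pow_mul]⟩

theorem lv_prim {l e o j : ℕ} (hl : l.Prime) (he : ¬ l ∣ e) (ho : o ∣ 2520) (h1 : μ ^ o = 1) (h : IsPrimitiveRoot (μ ^ l ^ j) e) :
    IsPrimitiveRoot (μ ^ o.gcd (l ^ 3)) e := by
  have o0 : o ≠ 0 := fun k => by rw [k] at ho; omega
  have k1 := orderOf_dvd_of_pow_eq_one h1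
  have k2 := h.eq_orderOf
  rw [orderOf_pow' _ (pow_pos hl.pos j).ne'] at k2
  obtain ⟨a, -, ha⟩ := (Nat.dvd_prime_pow hl).1 (Nat.gcd_dvd_right (orderOf μ) (l ^ j))
  have k3 : orderOf μ = l ^ a * e := by rw [k2, ← ha, Nat.mul_div_cancel' (Nat.gcd_dvd_left _ _)]
  have k4 : l ^ a ∣ o := (Dvd.intro _ k3.symm).trans k1
  have k5 : a ≤ 3 := by
    by_contra! k
    have b := (pow_dvd_pow l (show 4 ≤ a from k)).trans (k4.trans ho)
    have b2 := hl.two_le
    have b3 : l < 8 := by
      by_contra! b4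
      have := (Nat.pow_le_pow_left b4 4).trans (Nat.le_of_dvd (by norm_num) b)
      omega
    interval_cases l <;> omega
  obtain ⟨z, hz⟩ := Nat.dvd_gcd k4 (pow_dvd_pow l k5)
  have k6 : e.Coprime z := Nat.Coprime.coprime_dvd_right ((Dvd.intro_left _ hz.symm).trans (Nat.gcd_dvd_right _ _))
    (((Nat.Prime.coprime_iff_not_dvd hl).2 he).symm.pow_right 3)
  have k7 := IsPrimitiveRoot.orderOf (μ ^ o.gcd (l ^ 3))
  rwa [orderOf_pow' _ (Nat.gcd_pos_of_pos_left _ (Nat.pos_of_ne_zero o0)).ne', k3, hz, Nat.gcd_mul_left, k6.gcd_eq_one, mul_one,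
    Nat.mul_div_cancel_left _ (pow_pos hl.pos a), ← hz] at k7

/-- bounded entries after multiplication by automorphisms -/
def Bn (Ψ : RS I) (b : ℤ) (X : Mat I) : Prop := ∀ Y, Nm Y Ψ → ∀ i j, |(Y * X) i j| ≤ b

theorem Bn.sub {Ψ : RS I} {b : ℤ} {X Z : Mat I} (h : Bn Ψ b X) (hZ : Nm Z Ψ) : Bn Ψ (2 * b) ((Z - 1) * X) := fun Y hY i j => by
  have k1 := h _ (Nm.mul hY hZ) i j
  have k2 := h _ hY i j
  rw [sub_mul, one_mul, mul_sub, ← mul_assoc, Matrix.sub_apply]
  rw [abs_le] at *
  omega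

theorem Bn.sum {Ψ : RS I} {b : ℤ} {X Z : Mat I} (h : Bn Ψ b X) (hZ : Nm Z Ψ) (m : ℕ) :
    Bn Ψ (m * b) ((∑ k ∈ range m, Z ^ k) * X) := fun Y hY i j => by
  rw [sum_mul, mul_sum, Matrix.sum_apply]
  refine (abs_sum_le_sum_abs _ _).trans ((sum_le_sum fun k _ => ?_).trans (by rw [sum_const, card_range, nsmul_eq_mul]))
  rw [← mul_assoc]
  exact h _ (Nm.mul hY (Nm.pow hZ k)) i j

end Eigen

theorem cases_mem {q : ℤ} {l d e : ℕ} (h : Pq q l d e) (hl : l ∣ 2520) :
    ∃ x ∈ Tb.cases, x.1 = l ∧ x.2.2.1 = d ∧ x.2.2.2 = e ∧ (l : ℤ) ∣ q - x.2.1 := by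
  have hp := h.lp
  have k : ∀ [NeZero l], l ≠ 2 → (∀ z : ZMod l, z ≠ 0 → ∃ x ∈ Tb.cases, x.1 = l ∧ x.2.2.1 = x.2.2.2 ∧ (x.2.1 : ZMod l) = z ∧
      0 < x.2.2.2 ∧ z ^ x.2.2.2 = 1 ∧ ∀ m < x.2.2.2, 0 < m → z ^ m ≠ 1) →
      ∃ x ∈ Tb.cases, x.1 = l ∧ x.2.2.1 = d ∧ x.2.2.2 = e ∧ (l : ℤ) ∣ q - x.2.1 := fun h2 k => by
    obtain ⟨x, a, a1, a2, a3, a4, a5⟩ := k q (mt (ZMod.intCast_zmod_eq_zero_iff_dvd q l).1 h.nd)
    have b := h.oe.symm.trans ((orderOf_eq_iff a4).2 a5)
    exact ⟨x, a, a1, a2.trans (b.symm.trans (h.odd h2).symm), b.symm,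
      (ZMod.intCast_eq_intCast_iff_dvd_sub _ _ _).1 ((Int.cast_natCast _).trans a3)⟩
  have c : l ∣ 2 ^ 3 * 3 ^ 2 * 5 * 7 := hl
  rw [hp.dvd_mul, hp.dvd_mul, hp.dvd_mul] at c
  rcases c with ((c | c) | c) | c
  · obtain rfl := (Nat.prime_dvd_prime_iff_eq hp Nat.prime_two).1 (hp.dvd_of_dvd_pow c)
    obtain ⟨rfl, ⟨rfl, a⟩ | ⟨rfl, a⟩⟩ := h.two
    · exact ⟨(2, 1, 1, 1), by decide, rfl, rfl, rfl, by push_cast; omega⟩
    · exact ⟨(2, 3, 2, 1), by decide, rfl, rfl, rfl, by push_cast; omega⟩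
  · obtain rfl := (Nat.prime_dvd_prime_iff_eq hp Nat.prime_three).1 (hp.dvd_of_dvd_pow c)
    exact k (by decide) (by decide)
  · obtain rfl := (Nat.prime_dvd_prime_iff_eq hp Nat.prime_five).1 c
    exact k (by decide) (by decide)
  · obtain rfl := (Nat.prime_dvd_prime_iff_eq hp (by norm_num)).1 c
    exact k (by decide) (by decide +kernel)

theorem bit_or {D w j : ℕ} (h : fd 1 (Nat.lor D (Nat.shiftLeft 1 w)) j = 1) : fd 1 D j = 1 ∨ j = w := by
  have k : ∀ X, fd 1 X j = 1 ↔ X.testBit j = true := fun X => by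
    rw [Nat.testBit_eq_decide_div_mod_eq, decide_eq_true_eq, ← Nat.shiftRight_eq_div_pow, fd, Nat.mul_eq, one_mul]
    rfl
  rw [k] at h ⊢
  have h' : (D ||| 1 <<< w).testBit j = true := h
  rw [Nat.testBit_or, Bool.or_eq_true, Nat.one_shiftLeft, Nat.testBit_two_pow, decide_eq_true_eq] at h'
  exact h'.imp_right Eq.symm

namespace Tb

variable {T : Tb} {c : ℕ → ℕ → ℤ}

variable (T) in
/-- the row `i` is correct -/
def RowOk (i : ℕ) : Prop := ∀ t < T.R, ∃ h, T.ent i T.v0 (T.aA i T.v0) t h = true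

theorem row_ok {i : ℕ} {L : List ℕ} (h : T.row i L = true) : T.RowOk i := by
  rw [row, fc_eq, fc_eq] at h
  unfold RowOk
  generalize T.R = m at h
  induction L generalizing m with
  | nil => exact fun t ht => absurd (Nat.eq_of_beq_eq_true h ▸ ht) (Nat.not_lt_zero t)
  | cons x L ih =>
    cases m with
    | zero => exact fun t ht => absurd ht (Nat.not_lt_zero t)
    | succ m =>
      have k := Bool.and_eq_true_iff.1 h
      exact Nat.forall_lt_succ_right.2 ⟨ih m k.2, x, k.1⟩

theorem rows_ok {L : List (List ℕ)} {i₀ : ℕ} (h : T.rows L i₀ = true) : ∀ i, i₀ ≤ i → i < i₀ + L.length → T.RowOk i := by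
  induction L generalizing i₀ with
  | nil => exact fun i a b => absurd a (Nat.not_le.2 b)
  | cons r L ih =>
    have k := Bool.and_eq_true_iff.1 h
    rw [fc_eq] at k
    intro i a b
    rcases a.eq_or_lt with rfl | a
    · exact row_ok k.1
    · exact ih k.2 i a (by rw [List.length_cons] at b; omega)

variable (T c) in
/-- the data -/
structure Ok (d : Fin T.n → ℤ) (π : Equiv.Perm (Fin T.n)) : Prop where
  bs : T.Bs c
  rs : Rs (cm T.n c) d
  ip : ∀ j, fd 4 T.ip (π j) = j
  pc : ∀ i j : Fin T.n, c (π i) (π j) = c i j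
  row : ∀ i < T.K, T.RowOk i
  cls : ∀ i < T.K, T.cls i = true

variable (T c) in
/-- the class representatives -/
def AA (π : Equiv.Perm (Fin T.n)) (i : ℕ) : Mat (Fin T.n) := T.wd c (fd 400 T.cw i) * pm π

namespace Ok

variable {d : Fin T.n → ℤ} {π : Equiv.Perm (Fin T.n)} (H : T.Ok c d π) {V : ℕ} {u : Vec (Fin T.n)}
include H

theorem co (i : ℕ) : Co (Rc (cm T.n c)) (pm π) (T.AA c π i) := ⟨_, H.rs.ww ▸ wd_mem _, rfl⟩

theorem nmB : Nm (pm π) (Rc (cm T.n c)) := nm_pm H.pc

theorem nm (i : ℕ) : Nm (T.AA c π i) (Rc (cm T.n c)) := Nm.mul (H.rs.nm _ (wd_mem _)) H.nmB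

theorem rp_aA (i : ℕ) (h : Rp T.n V u) : Rp T.n (T.aA i V) (T.AA c π i *ᵥ u) := by
  rw [aA, fc_eq, AA, ← mulVec_mulVec]
  exact H.bs.rp_aw _ (rp_aB H.ip h)

theorem rp_aP (i s : ℕ) (h : Rp T.n V u) : Rp T.n (T.aP i s V) (T.AA c π i ^ s *ᵥ u) := by
  induction s with
  | zero => rwa [pow_zero, one_mulVec]
  | succ s ih =>
    rw [pow_succ', ← mulVec_mulVec]
    exact H.rp_aA i ih

theorem rp_aD (i s : ℕ) (h : Rp T.n V u) : Rp T.n (T.aD i s V) ((T.AA c π i ^ s - 1) *ᵥ u) := by
  rw [aD, fc_eq, fc_eq]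
  refine rp_pk fun j => ?_
  rw [sub_mulVec, one_mulVec, Pi.sub_apply, Nat.add_eq, Nat.mul_eq]
  push_cast [NM_eq, h.eq, (H.rp_aP i s h).eq]
  ring

theorem rp_aS (i s m : ℕ) (h : Rp T.n V u) : Rp T.n (T.aS i s m V) ((∑ k ∈ range m, (T.AA c π i ^ s) ^ k) *ᵥ u) := by
  rw [aS, fc_eq]
  induction m with
  | zero => exact rp_pk fun j => by simp
  | succ m ih =>
    dsimp only
    rw [fc_eq]
    refine rp_pk fun j => ?_
    rw [geom_sum_succ, add_mulVec, one_mulVec, ← mulVec_mulVec, Pi.add_apply, Nat.add_eq]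
    push_cast [h.eq, (H.rp_aP i s ih).eq]
    rfl

theorem eq_of {X Y : Mat (Fin T.n)} {U : ℕ} (hX : Nm X (Rc (cm T.n c))) (hY : Nm Y (Rc (cm T.n c)))
    (h : Rp T.n V (X *ᵥ tv T.n)) (h' : Rp T.n U (Y *ᵥ tv T.n)) (e : T.eqv V U = true) : X = Y := by
  refine sub_eq_zero.1 (one_vec H.bs.n8 (fun i j => ?_) fun i => ?_)
  · have k1 := H.bs.bound H.rs hX i j
    have k2 := H.bs.bound H.rs hY i j
    rw [abs_le] at k1 k2
    rw [Matrix.sub_apply, abs_lt]
    omega
  · rw [sub_mulVec, Pi.sub_apply, Int.cast_sub, (eqv_iff h h').1 e, sub_self]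

theorem ent {i t : ℕ} (hi : i < T.K) (ht : t < T.R) :
    T.jj i t < T.K ∧ ∃ g ∈ Wc (cm T.n c), T.AA c π (T.jj i t) * g = g * (rfm (T.rr t) * T.AA c π i) := by
  obtain ⟨h, k⟩ := H.row i hi t ht
  rw [Tb.ent, fc_eq, Bool.and_eq_true, Nat.blt_eq] at k
  have a := H.rs.nm _ (wd_mem (c := c) h)
  have b : rfm (T.rr t) ∈ Wc (cm T.n c) := H.rs.ww ▸ Submonoid.subset_closure ⟨_, H.bs.rr_mem H.rs t ht, rfl⟩
  refine ⟨k.1, _, wd_mem h, (H.eq_of (Nm.mul a (Nm.mul (H.rs.nm _ b) (H.nm i))) (Nm.mul (H.nm _) a) ?_ ?_ k.2).symm⟩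
  · rw [← mulVec_mulVec, ← mulVec_mulVec]
    exact H.bs.rp_aw h (rp_aR t (H.rp_aA i rp_v0))
  · rw [← mulVec_mulVec]
    exact H.rp_aA _ (H.bs.rp_aw h rp_v0)

theorem closure {A : Mat (Fin T.n)} (hA : Co (Rc (cm T.n c)) (pm π) A) : ∃ i < T.K, ∃ g ∈ Wc (cm T.n c), T.AA c π i * g = g * A := by
  obtain ⟨w, hw, rfl⟩ := hA
  induction hw using Submonoid.closure_induction_left with
  | one => exact ⟨0, H.bs.K0, 1, one_mem _, by rw [AA, H.bs.w0, mul_one, one_mul]; rfl⟩
  | mul_left x hx w _ ih =>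
    obtain ⟨a, ha, rfl⟩ := hx
    obtain ⟨i, hi, g, hg, e⟩ := ih
    obtain ⟨b, hb, e1, e2⟩ := H.rs.nm g hg a ha
    obtain ⟨t, ht, e3⟩ := H.bs.rr_all H.rs hb
    have e4 : rfm b = rfm (T.rr t) := by rcases e3 with rfl | rfl <;> simp only [rfm_neg]
    obtain ⟨k, g', hg', e'⟩ := H.ent hi ht
    refine ⟨_, k, g' * g, mul_mem hg' hg, ?_⟩
    rw [← mul_assoc, e', mul_assoc, mul_assoc, e, ← e4, ← mul_assoc (rfm b), ← mul_rfm e1 e2]
    simp only [mul_assoc]

theorem zr_iff (i s e m : ℕ) : T.zr i s e m = true ↔ ∀ j, (((aeval (T.AA c π i) (gp s e m) *ᵥ tv T.n) j : ℤ) : ZMod NN) = 0 := by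
  have k : Rp T.n (cond (Nat.beq e 1) T.v0 (cond (Nat.beq e 4) (T.aD i (Nat.mul s 2) T.v0)
      (cond (Nat.beq e 6) (T.aD i (Nat.mul s 3) (T.aD i (Nat.mul s 2) T.v0)) (T.aD i s T.v0))))
      (aeval (T.AA c π i) (pp s e) *ᵥ tv T.n) := by
    unfold pp
    split_ifs with a b d
    · rw [a, Nat.beq_refl, cond_true, map_one, one_mulVec]
      exact rp_v0
    · rw [beq_ne a, b, Nat.beq_refl, cond_false, cond_true, map_sub, map_pow, aeval_X, map_one]
      exact H.rp_aD _ _ rp_v0
    · rw [beq_ne a, beq_ne b, d, Nat.beq_refl, cond_false, cond_false, cond_true, map_mul, map_sub, map_sub, map_pow, map_pow,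
        aeval_X, map_one, ← mulVec_mulVec]
      exact H.rp_aD _ _ (H.rp_aD _ _ rp_v0)
    · rw [beq_ne a, beq_ne b, beq_ne d, cond_false, cond_false, cond_false, map_sub, map_pow, aeval_X, map_one]
      exact H.rp_aD _ _ rp_v0
  rw [zr, eqv_iff (H.rp_aS i _ m k) (rp_zero _), gp, map_mul, map_sum, ← mulVec_mulVec]
  simp only [map_pow, aeval_X, Nat.mul_eq, Pi.zero_apply, Int.cast_zero]

theorem zr_zero {i s e m : ℕ} (hm : m < 256) (h : T.zr i s e m = true) : aeval (T.AA c π i) (gp s e m) = 0 := by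
  have b0 : Bn (Rc (cm T.n c)) 15 1 := fun Y hY i j => by rw [mul_one]; exact H.bs.bound H.rs hY i j
  have b1 : ∀ a, Bn (Rc (cm T.n c)) (2 * 15) (T.AA c π i ^ a - 1) := fun a => by
    simpa only [mul_one] using b0.sub (Nm.pow (H.nm i) a)
  have b2 : Bn (Rc (cm T.n c)) 60 (aeval (T.AA c π i) (pp s e)) := fun Y hY x y => by
    unfold pp
    split_ifs
    · exact (map_one (aeval (T.AA c π i) : ℤ[X] →ₐ[ℤ] _) ▸ b0 Y hY x y).trans (by norm_num)
    · rw [map_sub, map_pow, aeval_X, map_one]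
      exact (b1 _ Y hY x y).trans (by norm_num)
    · rw [map_mul, map_sub, map_sub, map_pow, map_pow, aeval_X, map_one]
      exact ((b1 _).sub (Nm.pow (H.nm i) _) Y hY x y).trans (by norm_num)
    · rw [map_sub, map_pow, aeval_X, map_one]
      exact (b1 _ Y hY x y).trans (by norm_num)
  refine one_vec H.bs.n8 (fun x y => ?_) ((H.zr_iff i s e m).1 h)
  have k := b2.sum (Nm.pow (H.nm i) (s * e)) m 1 (Nm.one _) x y
  rw [gp, map_mul, map_sum]
  simp only [map_pow, aeval_X, one_mul] at k ⊢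
  omega

theorem ord {i : ℕ} (hi : i < T.K) : fd 8 T.od i ∣ 2520 ∧ T.AA c π i ^ fd 8 T.od i = 1 ∧
    ∀ e < 7, T.ba i e = true → Bad (Rc (cm T.n c)) e (T.AA c π i) := by
  have k := H.cls i hi
  simp only [Tb.cls, fc_eq, Bool.and_eq_true, Bool.or_eq_true, aL_iff, Nat.beq_eq, Nat.blt_eq, Bool.not_eq_true', mod_eq] at k
  obtain ⟨k1, k2, k3⟩ := k
  have a := H.eq_of (Nm.pow (H.nm i) _) (Nm.one _) (H.rp_aP i _ rp_v0) (by rw [one_mulVec]; exact rp_v0) k2
  refine ⟨Nat.dvd_of_mod_eq_zero k1, a, fun e he hb => ?_⟩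
  obtain ⟨⟨b1, b2⟩, b3, b4⟩ := (k3 e he).resolve_left (by simp [hb])
  obtain ⟨z, hz⟩ := cyc_gp b1 (fun k => by simp [k] at b2) he (fd 8 T.od i / e)
  obtain ⟨μ, y, c1, c2, c3⟩ := eig_wit (T.AA c π i) e (aeval (T.AA c π i) (gp 1 e (fd 8 T.od i / e)) *ᵥ tv T.n) b1
    (fun k => Bool.eq_false_iff.1 b4 ((H.zr_iff _ _ _ _).2 fun j => by
      rw [show Nat.div (fd 8 T.od i) e = fd 8 T.od i / e from rfl, k, Pi.zero_apply, Int.cast_zero]))
    (by rw [mulVec_mulVec, ← map_mul, hz, map_mul, map_sub, map_pow, aeval_X, map_one,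
      Nat.mul_div_cancel' (Nat.dvd_of_mod_eq_zero b3), a, sub_self, zero_mul, zero_mulVec])
  refine ⟨μ, c1, y, c3, ?_⟩
  by_contra! k
  exact c2 (H.rs.topC y k)

theorem lv {i l e : ℕ} (hi : i < T.K) (hl : l.Prime) (he : ¬ l ∣ e) {μ : ℂ} {y : Fin T.n → ℂ} (hμ : Lv l e μ) (h0 : y ≠ 0)
    (hy : IsE (T.AA c π i) μ y) : μ ^ fd 8 T.od i = 1 ∧ IsPrimitiveRoot (μ ^ (fd 8 T.od i).gcd (l ^ 3)) e := by
  obtain ⟨k1, k2, -⟩ := H.ord hi
  obtain ⟨j, hj⟩ := hμ
  have a : μ ^ fd 8 T.od i = 1 := eig_eq (eig_pow hy _) (by simpa only [k2, pow_zero] using eig_pow hy 0) h0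
  exact ⟨a, lv_prim hl he k1 a hj⟩

theorem an {i l e : ℕ} (hi : i < T.K) (hl : l.Prime) (he : ¬ l ∣ e) (h0 : 0 < e) (h6 : e ≤ 6) (h : T.an i l e = true) {μ : ℂ}
    {y : Fin T.n → ℂ} (hμ : Lv l e μ) (hy : IsE (T.AA c π i) μ y) : y = 0 := by
  by_contra k
  obtain ⟨a1, a2⟩ := H.lv hi hl he hμ k hy
  have o1 : fd 8 T.od i < 2 ^ 8 := fd_lt _ _ _
  have o2 : 0 < fd 8 T.od i := Nat.pos_of_dvd_of_pos (H.ord hi).1 (by norm_num)
  simp only [Tb.an, fc_eq, Bool.or_eq_true, Bool.not_eq_true', mod_eq] at h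
  change _ ∨ T.zr i ((fd 8 T.od i).gcd (l ^ 3)) e (fd 8 T.od i / (fd 8 T.od i).gcd (l ^ 3) / e) = true at h
  have b : e ∣ fd 8 T.od i / (fd 8 T.od i).gcd (l ^ 3) :=
    a2.dvd_of_pow_eq_one _ (by rw [← pow_mul, Nat.mul_div_cancel' (Nat.gcd_dvd_left _ _), a1])
  have b2 := Nat.div_pos (Nat.le_of_dvd o2 (Nat.gcd_dvd_left _ (l ^ 3))) (Nat.gcd_pos_of_pos_left _ o2)
  rcases h with h | h
  · exact Bool.eq_false_iff.1 h (Nat.beq_eq.mpr (Nat.mod_eq_zero_of_dvd b))
  · have z := eig_aeval hy (gp ((fd 8 T.od i).gcd (l ^ 3)) e (fd 8 T.od i / (fd 8 T.od i).gcd (l ^ 3) / e))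
    rw [H.zr_zero (((Nat.div_le_self _ _).trans (Nat.div_le_self _ _)).trans_lt o1) h] at z
    refine gp_ne a2 h0 (Nat.div_pos (Nat.le_of_dvd b2 b) h0).ne' h6 (eig_eq z ?_ k)
    unfold IsE
    rw [Matrix.map_zero _ Int.cast_zero, zero_mulVec, zero_smul]

variable {q : ℤ} {l r e e' : ℕ} {f : Mat (Fin T.n) → ℂ} (hf : Hy (Rc (cm T.n c)) (pm π) q l e f) (he : e < 7) (hl : l ∣ 210)
  (hq : (l : ℤ) ∣ q - r)
include hf he

theorem f_bad {i : ℕ} (hi : i < T.K) (h : T.ba i e = true) : f (T.AA c π i) = 0 := hf.bad _ (H.co i) ((H.ord hi).2.2 e he h)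

include hl hq

theorem kil {D h τ w : ℕ} (hD : ∀ j, fd 1 D j = 1 → f (T.AA c π j) = 0) (k : T.kil l r e D h τ w = true) : f (T.AA c π w) = 0 := by
  simp only [Tb.kil, fc_eq, Bool.and_eq_true, Bool.or_eq_true, aL_iff, eL_iff, Nat.beq_eq, Nat.blt_eq, Bool.not_eq_true', mod_eq,
    sL_eq, Nat.add_eq, Nat.mul_eq] at k
  obtain ⟨⟨k1, k2⟩, k3, k4, t, ht, k5, k6⟩ := k
  have z : ∀ t, T.zt l τ t = true ↔ (l : ℤ) ∣ (fun k : Fin T.n => (fd 4 τ k : ℤ)) ⬝ᵥ (T.rr t).2 := fun t => by
    rw [zt, Nat.beq_eq, mod_eq, ← Nat.dvd_iff_mod_eq_zero, sL_eq, ← Int.natCast_dvd_natCast,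
      ← Fin.sum_univ_eq_sum_range (fun j => Nat.mul (fd 4 τ j) (T.co t j))]
    simp only [Nat.mul_eq, Nat.cast_sum, Nat.cast_mul, rr, dotProduct]
  have y : ∀ t < T.R, f (rfm (T.rr t) * T.AA c π h) = f (T.AA c π (T.jj h t)) := fun t ht => by
    obtain ⟨-, g, hg, e⟩ := H.ent k1 ht
    exact (hf.conj H.rs.two (H.rs.ww ▸ hg) (H.co _) e).symm
  refine Hy.kill H.rs.fin hf (H.co h) ((H.ord k1).2.2 e he k2) (τ := fun k : Fin T.n => (fd 4 τ k : ℤ)) (fun a _ => ?_)
    (fun a ha hd => ?_) (H.bs.rr_mem H.rs t ht) ((z t).1 k6) (k5 ▸ y t ht)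
  · refine dvd_sum fun j _ => Dvd.dvd.mul_right ?_ _
    have a1 := H.rp_aA h (rp_pk (g := fun k => cond (Nat.beq k j) 1 0) (u := Pi.single j 1) fun k => by
      rw [cond_fin, Pi.single_apply]
      by_cases e : j = k <;> simp [e, eq_comm])
    have a2 := Nat.dvd_of_mod_eq_zero (k3 j j.2)
    generalize T.aA h _ = X at a1 a2
    have a3 : ((r * ∑ k ∈ range T.n, fd 4 τ k * dg X k + NM * fd 4 τ j : ℕ) : ZMod NN) =
        ((r * ((fun k : Fin T.n => (fd 4 τ k : ℤ)) ᵥ* T.AA c π h) j - fd 4 τ j : ℤ) : ZMod NN) := by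
      rw [← Fin.sum_univ_eq_sum_range (fun k => fd 4 τ k * dg X k)]
      simp only [vecMul, dotProduct]
      push_cast [NM_eq, a1.eq, mulVec_single_one]
      simp only [col_apply]
      ring
    rw [← Int.cast_natCast, ZMod.intCast_eq_intCast_iff_dvd_sub] at a3
    have a4 := (dvd_add ((Int.natCast_dvd_natCast.2 (hl.trans ⟨_, NN_eq⟩)).trans a3) (Int.natCast_dvd_natCast.2 a2))
    rw [sub_add_cancel] at a4
    have a5 := dvd_add a4 (hq.mul_right (((fun k : Fin T.n => (fd 4 τ k : ℤ)) ᵥ* T.AA c π h) j))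
    simp only [Pi.sub_apply, Pi.smul_apply, smul_eq_mul]
    convert a5 using 1
    ring
  · obtain ⟨s, hs, e⟩ := H.bs.rr_all H.rs ha
    have a1 : rfm a = rfm (T.rr s) := by rcases e with rfl | rfl <;> simp only [rfm_neg]
    have a2 : T.zt l τ s = true := (z s).2 (by rcases e with rfl | rfl <;> simpa only [_root_.Prod.snd_neg, _root_.dotProduct_neg, _root_.dvd_neg] using hd)
    rw [a1, y s hs]
    rcases (k4 s hs).resolve_left (by simp [a2]) with b | b | b
    · exact Or.inl (H.f_bad hf he (H.ent k1 hs).1 b)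
    · exact Or.inl (hD _ b)
    · exact Or.inr (by rw [b])

theorem res {L : List (ℕ × ℕ × ℕ)} {D : ℕ} (hD : ∀ j, fd 1 D j = 1 → f (T.AA c π j) = 0) (k : T.res l r e e' L D = true) :
    ∀ i < T.K, f (T.AA c π i) ≠ 0 → T.an i l e' = true := by
  induction L generalizing D with
  | nil =>
    intro i hi h
    have a := aL_iff.1 k i hi
    simp only [Bool.or_eq_true, Nat.beq_eq] at a
    exact (a.resolve_left fun b => h (H.f_bad hf he hi b)).resolve_left fun b => h (hD i b)
  | cons x L ih =>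
    have a := Bool.and_eq_true_iff.1 k
    rw [fc_eq] at a
    exact ih (fun j hj => (bit_or hj).elim (hD j) fun e => e ▸ H.kil hf he hl hq hD a.1) a.2

end Ok

/-- **soundness** -/
theorem cu_of {d : Fin T.n → ℤ} {π : Equiv.Perm (Fin T.n)} {L : List (List (ℕ × ℕ × ℕ))} (h1 : T.bas c = true)
    (hπ : ∀ j, fd 4 T.ip (π j) = j) (hc : ∀ i j : Fin T.n, c (π i) (π j) = c i j) (hC : Car (cm T.n c) d)
    (h2 : ∀ i < T.K, T.RowOk i) (h3 : aL T.cls T.K = true) (h4 : T.all L = true) (l : ℕ) : Cu l (Rc (cm T.n c)) (pm π) := by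
  have H : T.Ok c d π := ⟨bs_of h1, boxRs _ _ hC, hπ, hc, h2, aL_iff.1 h3⟩
  rintro q e e' f hq hf A hA h0 μ hμ ⟨y, hy, a, -, ha⟩
  obtain ⟨i, hi, g, hg, k⟩ := H.closure hA
  obtain ⟨u, -, hu, -⟩ := H.rs.inv g hg
  obtain ⟨z, z0, hz⟩ := eig_conj hy (fun k => ha (by simp only [k, ev, _root_.Cfsg.Agent.HZ.L.ev, _root_.dotProduct_zero])) k.symm hu
  rw [← hf.conj H.rs.two (H.rs.ww ▸ hg) (H.co i) k] at h0
  obtain ⟨-, e1, e2⟩ := Eg.prim hq
  by_cases hl : l ∣ 2520
  · obtain ⟨x, hx, rfl, rfl, rfl, b⟩ := cases_mem hq hl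
    obtain ⟨b1, b2, b3, j, hj, rfl⟩ := (by decide +kernel : ∀ x ∈ cases, x.2.2.1 < 7 ∧ x.2.2.2 ≤ 6 ∧ x.1 ∣ 210 ∧
      ∃ j < 14, cases.getD j (0, 0, 0, 0) = x) x hx
    exact z0 (H.an hi hq.lp e1 e2 b2 (H.res hf b1 b3 b (fun j hj => by simp [fd] at hj) (aL_iff.1 h4 j hj) i hi h0) hμ hz)
  · have b := (H.lv hi hq.lp e1 hμ z0 hz).2
    rw [(((Nat.Prime.coprime_iff_not_dvd hq.lp).2 fun k => hl (k.trans (H.ord hi).1)).symm.pow_right 3).gcd_eq_one, pow_one,
      ← hq.odd fun k => hl (k ▸ by norm_num)] at b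
    refine h0 (hf.bad _ (H.co i) ⟨μ, b, z, hz, ?_⟩)
    by_contra! k
    exact z0 (H.rs.topC z k)

end Tb

end Cfsg.Agent.OM.Cu.Eng

private theorem dce_3bce4be4174a : _root_.True := by
  try have : _root_.True := by simp only [_root_.Cfsg.Agent.OM.Cu.Eng.pp.eq_1]
  try have : _root_.True := by simp only [_root_.Cfsg.Agent.OM.Cu.Eng.Tb.zt.eq_1]
  try have : _root_.True := by simp only [_root_.Cfsg.Agent.OM.Cu.Eng.Tb.ent.eq_1]
  try have : _root_.True := by simp only [_root_.Cfsg.Agent.OM.Cu.Eng.Tb.an.eq_1]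
  try have : _root_.True := by simp only [_root_.Cfsg.Agent.OM.Cu.Eng.Tb.aS.eq_1]
  try have : _root_.True := by simp only [_root_.Cfsg.Agent.OM.Cu.Eng.Tb.aD.eq_1]
  try have : _root_.True := by simp only [_root_.Cfsg.Agent.OM.Cu.Eng.Tb.row.eq_1]
  try have : _root_.True := by simp only [_root_.Cfsg.Agent.OM.Cu.Eng.Tb.aA.eq_1]
  try have : _root_.True := by simp only [_root_.Cfsg.Agent.OM.Cu.Eng.Tb.zr.eq_1]
  try have : _root_.True := by simp only [_root_.Cfsg.Agent.OM.Cu.Eng.gp.eq_1]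
  try have : _root_.True := by simp only [_root_.Cfsg.Agent.OM.Cu.pm.congr_simp]
  try have : _root_.True := by simp only [_root_.Cfsg.Agent.OM.Cu.Rc.congr_simp]
  try have : _root_.True := by simp only [_root_.Cfsg.Agent.OM.Cu.Eng.fd.eq_1]
  try have : _root_.True := by simp only [_root_.Cfsg.Agent.OM.Cu.Eng.Tb.kil.eq_1]
  try have : _root_.True := by simp only [_root_.Cfsg.Agent.OM.Cu.Eng.Tb.AA.eq_1]
  try have : _root_.True := by simp only [_root_.Cfsg.Agent.OM.Cu.Eng.Tb.cls.eq_1]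
  exact _root_.True.intro
end

-- part: OM/Cu/EngX
section
set_option linter.all false
open scoped Cfsg.Agent.FastGrp

-- part: OM/Cu/EngT
section
/-!
# OM / Cu : the class tables `G₂ F₄ ³D₄ E₆ ²E₆` (helper55, generated)
-/

set_option autoImplicit false
set_option maxRecDepth 100000

namespace Cfsg.Agent.OM.Cu.Eng

open Cfsg.Agent.BZ.TA Cfsg.Agent.BZ.TA.Cl

/-- `aw` with junk in the lowest 64 bits of the state (the caches of the kernel hash these bits only) -/
noncomputable def Tb.aw63 (T : Tb) (w V : ℕ) : ℕ :=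
  fc (Nat.shiftRight w 7) fun W => Nat.shiftRight
    (Nat.rec (Nat.add (Nat.shiftLeft V 64) (Nat.mod V 18446744073709551557)) (fun s ih => fc ih fun P => fc (fd 3 W s) fun i =>
      cond (Nat.blt i T.n) (Nat.add (Nat.shiftLeft (T.rf i (Nat.shiftRight P 64)) 64) (Nat.mod P 18446744073709551557)) P)
      (Nat.mod w 128)) 64

theorem Tb.aw_eq63 (T : Tb) : T.aw = T.aw63 := by
  have e : ∀ {α : Type} (x : ℕ) (f : ℕ → α), fc x f = f x := fun x f => by cases x <;> rfl
  have k : ∀ x y : ℕ, Nat.shiftRight (Nat.add (Nat.shiftLeft x 64) (Nat.mod y 18446744073709551557)) 64 = x := fun x y => by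
    change (x <<< 64 + y % 18446744073709551557) >>> 64 = x
    rw [Nat.shiftLeft_eq, Nat.shiftRight_eq_div_pow]
    omega
  funext w V
  delta Tb.aw Tb.aw63
  rw [e, e]
  induction Nat.mod w 128 with
  | zero => exact (k _ _).symm
  | succ s ih =>
    dsimp only
    rw [e, e, e, e, ih]
    cases Nat.blt _ T.n
    · rfl
    · exact (k _ _).symm

def tG2 : Tb where
  n := 2
  K := 6
  R := 6
  nb := 0x220111
  ip := 0x10
  rt := 0x430000002300000024000000130000003400000012000000620000001100000052000000100000000500000001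
  nx := 0x40500000000000005010000000000000302000000000000000300000000000000040000000000000200
  cw := 0x41040600000000000000000000000000000000000000000000000000000000000000000000000000000000000000000000000104040000000000000000000000000000000000000000000000000000000000000000000000000000000000000000000000000402000000000000000000000000000000000000000000000000000000000000000000000000000000000000000000000000008100000000000000000000000000000000000000000000000000000000000000000000000000000000000000000000000000010000000000000000000000000000000000000000000000000000000000000000000000000000000000000000000000000000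
  od := 0x20306020201
  bd := 0x40840060602
  jt := 0x10102020102020201010201010102020102040405030003050304040300020201010201

def rG2 : List (List ℕ) := [
  [130, 1, 1026, 129, 0, 0],
  [0, 1, 1, 0, 0, 0],
  [0, 1, 0, 0, 0, 1],
  [129, 1026, 130, 0, 0, 1],
  [0, 130, 129, 0, 1, 1026],
  [0, 129, 0, 1, 1026, 130]]

def kG2 : List (List (ℕ × ℕ × ℕ)) := [[(1, 16, 5)], [(1, 16, 0)], [(2, 1, 4)], [(1, 1, 3)], [], [], [], [], [], [], [], [], [], []]

theorem basG2 : tG2.bas (c2 (-1) (-3)) = true := by decide +kernel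

theorem rowsG2 : tG2.rows rG2 0 = true := by decide +kernel

theorem clsG2 : aL tG2.cls tG2.K = true := by decide +kernel

theorem allG2 : tG2.all kG2 = true := by decide +kernel

def tF4 : Tb where
  n := 4
  K := 25
  R := 24
  nb := 0x442431220441
  ip := 0x3210
  rt := 0x43330000234200002433000013420000324300001242000033340000123200003342000012310000342400001222000035230000122100004234000011220000514300001121000034320000122000002334000001220000532400001111000013430000012100004242000011200000533200001110000015240000011100002342000001200000442300001100000015320000011000003144000000110000523300001000000025230000010000003152000000100000332500000001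
  nx := 0x161717170000000017151616000000001516121500000000141414130000000013131114000000001210150e00000000110f1311000000000d12100a000000000b110c0f000000000e0a0e1200000000100d0d0700000000080c0f09000000000f0b080b00000000070e0610000000000509090c000000000c040b05000000000a07020d0000000002030a06000000000901050800000000040800010000000000060303000000000600070200000000010500040000000000000400
  cw := 0x345029a2814d140a041800000000000000000000000000000000000000000000000000000000000000000000000000000000000000268a05340a04100000000000000000000000000000000000000000000000000000000000000000000000000000000000000000d14d140a040e00000000000000000000000000000000000000000000000000000000000000000000000000000000000000000345340a040c0000000000000000000000000000000000000000000000000000000000000000000000000000000000000000000d14d1440a0000000000000000000000000000000000000000000000000000000000000000000000000000000000000000000d140a040a00000000000000000000000000000000000000000000000000000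000000000000000000000000000000000000001a29a288900000000000000000000000000000000000000000000000000000000000000000000000000000000000000000001140a040900000000000000000000000000000000000000000000000000000000000000000000000000000000000000000000268a04080000000000000000000000000000000000000000000000000000000000000000000000000000000000000000000000d1440600000000000000000000000000000000000000000000000000000000000000000000000000000000000000000000001a288500000000000000000000000000000000000000000000000000000000000000000000000000000000000000000000001144050000000000000000000000000000000000000000000000000000000000000000000000000000000000000000000000022884000000000000000000000000000000000000000000000000000000000000000000000000000000000000000000000003440400000000000000000000000000000000000000000000000000000000000000000000000000000000000000000000000068830000000000000000000000000000000000000000000000000000000000000000000000000000000000000000000000006803000000000000000000000000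000000000000000000000000000000000000000000000000000000000000000000000000640300000000000000000000000000000000000000000000000000000000000000000000000000000000000000000000000044030000000000000000000000000000000000000000000000000000000000000000000000000000000000000000000000000d02000000000000000000000000000000000000000000000000000000000000000000000000000000000000000000000000088200000000000000000000000000000000000000000000000000000000000000000000000000000000000000000000000008020000000000000000000000000000000000000000000000000000000000000000000000000000000000000000000000000402000000000000000000000000000000000000000000000000000000000000000000000000000000000000000000000000010100000000000000000000000000000000000000000000000000000000000000000000000000000000000000000000000000010000000000000000000000000000000000000000000000000000000000000000000000000000000000000000000000000000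
  od := 0x20304040606020206080404020c0606060603040203020201
  bd := 0x408141044440606400016160600460e0e460a12060a060602
  jt := 0x111111121211121112111112121112121111121211111212080808090908090809080809090809090808090908080909120909110809080908091208080911080d090e08090d0e080e0e0e0d0d0e0d0e0d0e0e0d0d0e0d0d0e0e0d0d0e0e0d0d0808081212080d080d08080d0d080d0d08070d0d07070d1211110e09090e090e090e0e09090e09090e0e090a110e0a0a16161618141614161404161414040c1404040c1404040c14181313161613161316130c16041316040c130404130c04040707070a0a070a070a07070a0a070a0a07070a0a07070a0a09090d08080d0e0a0e0d09070e0908080a0a07070d0a070e131315160f150f130f0c130f0f06040f0606040f0c06050f160f0f14140f150f150f04140c0f1403040f03030f05030c110e0e120d0e0d0e0d0e110d0d0e120d020e010d0e02010d08080809090709070a08080a0907090a07080a0907070a0a0f0f0f130b0f0b0f10040f0b0b0506100404060b0505060b16161617170f130f130f0f0b130f0b0b0f040b0b04040b06171714161614160b0f140b0f0f0b0f0f0b0b0f04030b0404140b0b0f0f100f0b0f0b030f04100f05030b04040b0305050e0e0e09090e0a0e0a0e0e0a0a0e0a0a0e020a0a02020a090d0a0a0e070a070a070a0d07070a0e07010a02070a01020712090908080a0e0a0e0a0d08110a08070d090707090107020808070d0d070d070d07070d0d070d0d07070d01080701010c0606040406050605060c04040604050c060505060005040404040303050c050c0505030c0503030504030304040300020202010102010201020201010201010202010102020101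

def rF4 : List (List ℕ) := [
  [35268999, 4408582, 551045, 42681351, 5335174, 68868, 666885, 8579, 83332, 11523, 1026, 10627, 10371, 1410, 67972, 1282, 129, 385, 8451, 129, 3330, 0, 1026, 0],
  [2257077641, 282134664, 2257077513, 4644210825, 4577101961, 68869, 11524, 8580, 1411, 11524, 1027, 2435, 130, 1411, 2434, 258, 130, 385, 257, 1, 3330, 0, 0, 0],
  [1714566, 34695303, 34670727, 2731608457, 341453192, 67972, 1714566, 82948, 10103175, 10627, 1, 1714565, 10371, 10371, 13699462, 1, 0, 257, 0, 258, 0, 0, 129, 0],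
  [71444872, 8930567, 646464777, 2257077514, 109593864, 378029320, 378029320, 8579, 1411, 109593864, 1026, 8579, 130, 2434, 385, 1026, 257, 385, 0, 1026, 0, 0, 0, 129],
  [10628, 277366024, 34670727, 4577101962, 4577101961, 67973, 10628, 544006, 85253, 10628, 1, 2435, 0, 85253, 2434, 1, 0, 257, 0, 258, 0, 0, 257, 0],
  [35268999, 9126919, 5310599, 9126919, 43657607, 738310, 1714565, 82949, 35268999, 2434, 1026, 1714566, 1282, 2178, 2434, 0, 8451, 385, 0, 1026, 0, 1026, 129, 1],
  [42625160, 2728012170, 42681608, 341001224, 42625159, 2435, 42625160, 1, 42681608, 2434, 3331, 1, 277562633, 0, 0, 2435, 2178, 3330, 2434, 1026, 0, 385, 129, 0],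
  [34670983, 142597, 5310598, 2219001097, 4336902, 386, 10627, 17411, 34817032, 2434, 17411, 67973, 1282, 129, 2434, 0, 257, 385, 0, 1026, 0, 0, 130, 1],
  [257, 2434, 130, 26756, 3330, 1026, 214020, 1026, 130, 0, 8579, 1026, 1411, 130, 0, 8579, 1411, 0, 385, 214020, 0, 385, 3330, 26755],
  [10628, 11524, 130, 1026, 129, 2435, 2434, 1, 0, 2434, 3331, 1, 3330, 0, 0, 2435, 3330, 3330, 2434, 1027, 0, 385, 130, 0],
  [34688264, 4572529929, 8939654, 72565767, 5328134, 67973, 10627, 1026, 257, 13699462, 17411, 0, 551045, 3330, 0, 386, 13699206, 214020, 10627, 1026, 0, 385, 129, 1],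
  [1133830, 4573505930, 71517191, 17763993738, 34688263, 1714566, 10627, 214020, 5457159, 2434, 17411, 0, 4408326, 3330, 0, 738310, 13699207, 0, 10628, 1026, 0, 385, 130, 1],
  [1714565, 738310, 5310599, 82949, 1714565, 663814, 5908870, 82949, 5908871, 385, 0, 1714566, 0, 2178, 0, 129, 0, 257, 1026, 130, 0, 129, 8451, 1],
  [13699463, 92293, 738566, 34695303, 10627, 663813, 385, 82948, 130, 385, 10371, 82948, 0, 3330, 0, 2178, 0, 257, 0, 17667, 0, 130, 257, 1],
  [141700, 71517447, 130, 5456903, 141700, 1, 665989, 0, 0, 385, 17411, 129, 738566, 0, 214020, 214277, 10371, 129, 109593863, 130, 0, 1282, 3330, 1],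
  [665989, 17752006922, 5908871, 36580239754, 141700, 5906694, 665990, 42681608, 0, 385, 82948, 26755, 5310599, 0, 0, 139525, 85253, 130, 109593864, 214021, 0, 1283, 3330, 1],
  [85252, 278538632, 2228291721, 571559177, 141701, 214276, 257, 2257077641, 580526345, 386, 738309, 1283, 42485000, 13699463, 386, 5335175, 109593863, 129, 682118, 17412, 1712390, 26755, 10372, 5456903],
  [0, 385, 3330, 82949, 10372, 26755, 1283, 17411, 130, 17667, 0, 1, 0, 2178, 0, 129, 1, 257, 1026, 1282, 0, 130, 8451, 10371],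
  [0, 385, 3330, 0, 0, 26755, 129, 214276, 1282, 214020, 82949, 10371, 10627, 1712389, 0, 1283, 13699462, 13699206, 385, 130, 109593863, 109593991, 3330, 1],
  [385, 109593863, 85253, 35268999, 282134920, 682118, 2218928521, 0, 0, 5456903, 82949, 129, 34670727, 1, 1026, 4333830, 10372, 130, 541957, 5457159, 0, 1283, 43655432, 42681608],
  [1140869, 9070726, 72566023, 5335175, 0, 580526345, 26755, 72565768, 214276, 0, 9126919, 13699463, 1714565, 257, 0, 1712390, 2434, 13699207, 385, 214021, 109593864, 109593992, 3330, 1],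
  [2434, 1133830, 72566024, 35268999, 11523, 665990, 385, 42625160, 738565, 1, 9126919, 26755, 282134664, 1283, 1026, 378029320, 43655432, 2179, 13699463, 4408326, 83205, 5456903, 109593992, 5906694],
  [0, 4336006, 34688263, 1714565, 2434, 277506184, 17795, 2220049673, 142596, 1026, 82949, 1140869, 4577101961, 8451, 0, 572137736, 13699463, 67716, 5456903, 71517191, 541957, 109593992, 43655432, 9126918],
  [257, 141701, 571559177, 5328134, 67972, 1140869, 129, 571688201, 278536456, 139652, 4572529674, 541957, 21753375114, 580526345, 663813, 277506184, 4577102217, 1116294, 2218928521, 2719171593, 572137736, 71461000, 2228291721, 2220049417],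
  [0, 385, 3330, 0, 1, 26755, 130, 214276, 1283, 214020, 1714565, 10372, 10628, 1712389, 82949, 83333, 13699462, 13699206, 663942, 666886, 109593863, 109593991, 5311751, 5335175]]

def kF4 : List (List (ℕ × ℕ × ℕ)) := [[(7, 4096, 20), (8, 256, 22), (17, 4096, 24), (17, 0, 19), (9, 16, 15), (13, 0, 21)], [(2, 4112, 0), (8, 256, 3), (13, 4112, 5), (2, 0, 6), (9, 16, 15), (13, 0, 21)], [(8, 256, 23)], [(7, 4385, 16)], [], [], [], [], [], [], [], [], [], []]

theorem basF4 : tF4.bas (cF (-1) (-2)) = true := by decide +kernel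

theorem rowsF4 : tF4.rows rF4 0 = true := by
  delta Tb.rows Tb.row Tb.ent Tb.aA
  rewrite [Tb.aw_eq63]
  decide +kernel

theorem clsF4 : aL tF4.cls tF4.K = true := by
  delta Tb.cls Tb.zr Tb.aS Tb.aD Tb.aP Tb.aA
  rewrite [Tb.aw_eq63]
  decide +kernel

theorem allF4 : tF4.all kF4 = true := by decide +kernel

def tD4a : Tb where
  n := 4
  K := 7
  R := 12
  nb := 0x441441320441
  ip := 0x2013
  rt := 0x33430000112100004424000011110000443200001110000042340000101100002434000001110000424200001010000024420000011000002244000000110000532300001000000035230000010000002252000000100000332500000001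
  nx := 0xb0b0a0b0000000007080b09000000000506090a00000000040a0806000000000a0407050000000001090308000000000901020700000000080700010000000000030603000000000200050200000000060500040000000000000400
  cw := 0x205a040800000000000000000000000000000000000000000000000000000000000000000000000000000000000000000000000a040600000000000000000000000000000000000000000000000000000000000000000000000000000000000000000000000204040000000000000000000000000000000000000000000000000000000000000000000000000000000000000000000000000402000000000000000000000000000000000000000000000000000000000000000000000000000000000000000000000000008100000000000000000000000000000000000000000000000000000000000000000000000000000000000000000000000000010000000000000000000000000000000000000000000000000000000000000000000000000000000000000000000000000000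
  od := 0x306060c060603
  bd := 0x84440000e460a
  jt := 0x20202020202020202020202020202020202020102020101010101010101010101010101020202010201010202010101060605050503030303030003050303040303040300000300020201010101010101010201

def rD4a : List (List ℕ) := [
  [19588, 2435, 67972, 67973, 729349, 3202, 130, 129, 385, 1, 0, 0],
  [142468, 2435, 67972, 2178, 130, 11395, 1, 129, 385, 1, 0, 0],
  [258, 385, 17411, 25603, 0, 3202, 1026, 0, 385, 1027, 0, 129],
  [17412, 83333, 17795, 67717, 130, 11395, 1026, 0, 385, 91396, 0, 129],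
  [82948, 1282, 67716, 1117317, 1, 17795, 1027, 729349, 8580, 129, 681221, 91396],
  [1283, 10372, 82949, 91141, 0, 11396, 1, 91396, 1411, 130, 729349, 681221],
  [258, 130, 156676, 10372, 385, 142469, 139652, 25859, 83333, 91141, 1117317, 19587]]

def kD4a : List (List (ℕ × ℕ × ℕ)) := [[(1, 16, 5)], [(1, 16, 0)], [(2, 4353, 6)], [(1, 4625, 4)], [], [], [], [], [], [], [], [], [], []]

theorem basD4a : tD4a.bas (cT 1 4) = true := by decide +kernel

theorem rowsD4a : tD4a.rows rD4a 0 = true := by decide +kernel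

theorem clsD4a : aL tD4a.cls tD4a.K = true := by decide +kernel

theorem allD4a : tD4a.all kD4a = true := by decide +kernel

def tD4b : Tb where
  n := 4
  K := 7
  R := 12
  nb := 0x441441320441
  ip := 0x312
  rt := 0x33430000112100004424000011110000443200001110000042340000101100002434000001110000424200001010000024420000011000002244000000110000532300001000000035230000010000002252000000100000332500000001
  nx := 0xb0b0a0b0000000007080b09000000000506090a00000000040a0806000000000a0407050000000001090308000000000901020700000000080700010000000000030603000000000200050200000000060500040000000000000400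
  cw := 0x2ca040800000000000000000000000000000000000000000000000000000000000000000000000000000000000000000000000a040600000000000000000000000000000000000000000000000000000000000000000000000000000000000000000000000304040000000000000000000000000000000000000000000000000000000000000000000000000000000000000000000000000402000000000000000000000000000000000000000000000000000000000000000000000000000000000000000000000000008100000000000000000000000000000000000000000000000000000000000000000000000000000000000000000000000000010000000000000000000000000000000000000000000000000000000000000000000000000000000000000000000000000000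
  od := 0x306060c060603
  bd := 0x84440000e460a
  jt := 0x20202020202020202020202020202020202010202010102010101010101010101010101020202020101010201020101060605050503030303030003050303030404030300000300020201010101010101010201

def rD4b : List (List ℕ) := [
  [19588, 2435, 67972, 663941, 67973, 130, 2178, 129, 1, 257, 0, 0],
  [25604, 2435, 67972, 130, 2434, 1, 10371, 129, 1, 257, 0, 0],
  [386, 257, 25859, 1283, 0, 1026, 2178, 0, 1027, 257, 0, 129],
  [25604, 91397, 25859, 130, 68741, 1026, 10371, 0, 83332, 257, 0, 129],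
  [91140, 1410, 68740, 1, 1640581, 1027, 25859, 663941, 129, 8452, 666757, 83332],
  [17411, 17412, 1139973, 82949, 0, 142468, 8580, 257, 17795, 68741, 67973, 2178],
  [386, 130, 156676, 257, 11396, 205060, 156933, 17795, 82949, 91397, 1640581, 19587]]

def kD4b : List (List (ℕ × ℕ × ℕ)) := [[(1, 16, 5)], [(1, 16, 0)], [(2, 4353, 6)], [(1, 8465, 4)], [], [], [], [], [], [], [], [], [], []]

theorem basD4b : tD4b.bas (cT 1 4) = true := by decide +kernel

theorem rowsD4b : tD4b.rows rD4b 0 = true := by decide +kernel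

theorem clsD4b : aL tD4b.cls tD4b.K = true := by decide +kernel

theorem allD4b : tD4b.all kD4b = true := by decide +kernel

def tE6a : Tb where
  n := 6
  K := 25
  R := 36
  nb := 0x662663642531620661
  ip := 0x543210
  rt := 0x4333330021232100233433001123210033424300112221003343240011221100342343001112210033433200112210003233430010122100342424001112110034243200111210003234240010121100443234001111110032343200101210004432420011111000424234001011110024333400011111004433230011110000424242001011100024334200011110004323340010011100224334000011110042432300101100002434230001110000432342001001100022434200001110002324340000011100344233000110000043242300100100002244230000110000232442000001100033324400000011005332330010000000352333000100000032523300001000002325230000010000333252000000100033332500000001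
  nx := 0x2223232323230000232222212222000021211f222021000020201c20211e00001f1d211f1c1f00001e1e1b1e1e2000001d1f1d1d1a1d00001c1a20191f1b00001b181e171b1c00001a1c1a161d1800001516191c19170000181b1813181a00001213171b141900001019111a1613000019101515151200000e0f1414171400000c170d180f160000170c12120e1500000b111611110d000016150b10100c00000814090f130f000014080e0a120e0000070d130d091100001312070c08100000110b10060b0700000a03040e0a0a000002090f050d0900000f0e02030c0800000d070c01020b00000606060b00010000000505090505000004000a0404040000030a00080303000009020800070200000101010700060000000000000600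
  cw := 0x46aa70a60ab0a60a04180000000000000000000000000000000000000000000000000000000000000000000000000000000000000001532ac299440e00000000000000000000000000000000000000000000000000000000000000000000000000000000000000002a655299440d0000000000000000000000000000000000000000000000000000000000000000000000000000000000000000054caa53288c0000000000000000000000000000000000000000000000000000000000000000000000000000000000000000046a94ca040c0000000000000000000000000000000000000000000000000000000000000000000000000000000000000000000058994408000000000000000000000000000000000000000000000000000000000000000000000000000000000000000000000a9944070000000000000000000000000000000000000000000000000000000000000000000000000000000000000000000001532886000000000000000000000000000000000000000000000000000000000000000000000000000000000000000000000163440600000000000000000000000000000000000000000000000000000000000000000000000000000000000000000000002c64050000000000000000000000000000000000000000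0000000000000000000000000000000000000000000000000000002c440500000000000000000000000000000000000000000000000000000000000000000000000000000000000000000000002b44050000000000000000000000000000000000000000000000000000000000000000000000000000000000000000000000234405000000000000000000000000000000000000000000000000000000000000000000000000000000000000000000000005688400000000000000000000000000000000000000000000000000000000000000000000000000000000000000000000000564040000000000000000000000000000000000000000000000000000000000000000000000000000000000000000000000046404000000000000000000000000000000000000000000000000000000000000000000000000000000000000000000000004440400000000000000000000000000000000000000000000000000000000000000000000000000000000000000000000000344040000000000000000000000000000000000000000000000000000000000000000000000000000000000000000000000008803000000000000000000000000000000000000000000000000000000000000000000000000000000000000000000000000640300000000000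000000000000000000000000000000000000000000000000000000000000000000000000000000000000044030000000000000000000000000000000000000000000000000000000000000000000000000000000000000000000000000802000000000000000000000000000000000000000000000000000000000000000000000000000000000000000000000000040200000000000000000000000000000000000000000000000000000000000000000000000000000000000000000000000000010000000000000000000000000000000000000000000000000000000000000000000000000000000000000000000000000000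
  od := 0x306040206090c040c060a0806060603040502060402030201
  bd := 0x84c160648005612080e06064e460e0a1602060e16060a0602
  jt := 0xf0f0f0f0f0f0f0f0f0f0f0f0f0f0f0f0f0f0f0f0f0f0f0f0f0f0f0f0f0f0f0f0f0f0f0f160f0f0e0f0f160e0f0e0e0e0f0e16160e160e0f0e0e0e0e0f0e0e0c0e0f0e0e0c0c0e161717171717171517170a170a170a17170a170a0a08170a0a0a1708080a0a081708080a151616161616161616161616061616161606161616061606061616060606160616060606160c0c120c12120c120c121212120c120c1212120c120c0c12121212120c120c12121212120e0e0e0c0c0e0e0d0c0c12120e12120e0c120d0e120d0d0c0e0c0d0d120c0c120d0d0d1213131314131308131407140713111313081407070713070708130b0b11070713070707111212121212121212121212041212121204121212041204041212040404120412040404120f0f0e0e0e0f0f0c0e0e0d0e0e0d0d0f0c0d0c0e0e0c0d0c0f0e0d0d0e0e0c0d0d0d0d0d181817171717171717171017101010101010101010101010100a1010100a090a0a100a0a171717171017101310131310131310101313081010130a130a100a130a0a0807100808081010131310100a131308130a130b1010081307070a1307070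a10070708080710070b0b0b1710131313101014131313131313071014081008130913090908130808081007070707070d0d120d0d0d0d120d0d0d06120d0d0d040d1212061204040d0d0404060d040d0404040d0f0f0e0e0e0e160e0e160e160e0d0e0e0d0e0d0d0d0e0d0d0d0f0d0d0d06050f050d06060f0f0c0c0c0c0c0c0c0c0c0c0c0c0c0c0c0c0c0c0c0c0c0c0c050c0c0c050f05050c0505160e0e0e0d0e0d120d120d0d120d0c0d120c0e0c0d0c0e0c050c0e0c06060e040c0505050e0d12120d0d0d1212120d0d12120c0d120c0d040d0c1205050c120505050d0c04040404150a0a0a0a0a0a0b0b0b0b0b0b0b080a0b080a080a080a0808080a0808080a03080308030a0a070707070807070808080807080807080707070807070709070707030a0902070303080707070b070b110b110b0b110b070b110707070b070707020707070303070807020202060505050605060404040404040405060405050506050505040505050404050605010401050504040404040404040404040404040404040404040404040504040401050505040101030303020302030202020202020202030202020203030202020303030202030303030200010101010101010101010101010101010101010101010101010101010101010101010101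

def rE6a : List (List ℕ) := [
  [22436473482, 2804559113, 350569864, 43821447, 43821191, 278702472, 5482630, 5477638, 34837767, 685317, 684677, 4355334, 4354694, 85636, 85508, 34697863, 544389, 544261, 10883, 10627, 4337286, 4337158, 68228, 67972, 1282, 34695687, 542341, 542085, 8451, 129, 4338950, 277565832, 4336902, 67716, 1026, 0],
  [4734004561659536, 591750570207375, 4733473433086096, 10267015, 37867786496141457, 10267014, 302942291969132050, 1283334, 1283333, 161029, 160389, 161028, 160388, 20100, 19972, 29315, 20099, 19971, 2691, 2435, 3714, 3586, 2690, 2434, 258, 27139, 641, 385, 257, 1, 5378, 217476, 3330, 0, 0, 0],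
  [9608935482471697, 76871404692845842, 14745915794492688, 302976291946204434, 117695388526415121, 14745915794492689, 941562612314901778, 405925702691075346, 117695326539363602, 3247405621528597779, 553605, 941562612314901779, 160388, 69252, 69124, 29315, 20099, 19971, 8835, 8579, 3714, 3586, 2690, 2434, 1026, 513, 641, 385, 257, 1026, 1199870553240848, 4482, 0, 0, 0, 129],
  [74307511363982, 2687215626381, 2687215626380, 656058761, 7156033673, 656058760, 57248269834, 13979143, 13979142, 1747334, 81088008, 1747333, 81088007, 10135943, 19972, 1747333, 10135942, 19971, 18747977394317, 2435, 13979142, 71517704, 18747977394318, 2434, 1, 71517703, 4577143177, 8939655, 0, 258, 4577143178, 0, 8939654, 0, 257, 67716],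
  [1355788313536912, 304222863254202771, 367273258037389714, 11488887475120529, 282170633, 38510485239343506, 35271944, 545414, 742022, 68229, 43655688, 92805, 667142, 5456903, 85508, 85509, 83333, 19971, 11223031720333, 10627, 10628, 3586, 1602304977292, 2434, 17411, 513, 1602304977293, 385, 0, 1026, 9298886371726, 0, 0, 0, 257, 2178],
  [9608935482471697, 76871404692845842, 38848261360910, 1375854400736528, 38848261360909, 601798214782224, 941562612314901778, 1375854400736527, 109217005538575, 19388306686024453396, 553605, 941562612314901779, 160388, 8835, 69124, 29315, 1667, 19971, 69252, 1026, 641, 3586, 11908, 130, 8579, 385, 3714, 0, 1411, 214020, 0, 0, 0, 385, 3330, 26755],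
  [813702, 2687215626381, 2687215626380, 656058761, 11006260142551441, 656058760, 11006260142551440, 4483719, 813702, 35416712, 35869960, 6056583, 6509831, 283333897, 217477, 4847047496077, 48452872, 217476, 289413, 1266054, 4847047496076, 876898441, 289412, 1266053, 1, 876898440, 1183361161, 5171865738, 0, 258, 1183361160, 0, 5171865737, 217476, 257, 876898440],
  [9245093816974, 19890309816822161, 38515085746066705, 150139462314639, 45909157254673681, 594185279793808, 8939654, 742463820220047, 594185279793808, 682629, 179513866798735, 158340, 4847047305869, 1262597, 85508, 75215791483535, 5378, 19971, 214020, 214020, 641, 3586, 551045, 8939654, 17411, 513, 257, 0, 2434, 142596, 0, 0, 0, 385, 3330, 26755],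
  [37263842048430481, 117967326355942033, 24002168702984475924, 2423810335569635987, 171972814918031, 117967326355942034, 171972814918030, 1359445372916112, 38776378446222, 1359445372916111, 88050081140411666, 38776378446221, 249882610979215, 37263842048430481, 17411, 601726331867536, 249882610979214, 67716, 10883, 139780, 109145122623887, 4482, 2690, 542213, 2311173, 0, 641, 29059, 0, 1026, 0, 0, 513, 4482, 36099, 288900],
  [36617087626, 4577135881, 1189988109580, 74307511356686, 227915435276, 75269584030990, 90476481802, 12734860201230, 13696932875534, 3938767179020, 8835, 4900839853324, 1667, 553605, 1026, 641, 94853, 130, 560773, 69124, 29315, 0, 102021, 11780, 70020, 4482, 36483, 3586, 12676, 292936696843, 0, 0, 513, 4482, 4577135881, 36617087114],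
  [1359720183844368, 1359720183844367, 2423538335753057556, 405925702691075346, 19388306686024460693, 117695326539363602, 130, 3247405621528603027, 941562612314909075, 1026, 69124, 0, 11780, 1026, 553605, 3586, 130, 94853, 8579, 8835, 0, 29315, 1411, 1667, 69252, 385, 385, 641, 11908, 22089222, 0, 0, 1199870553240848, 3714, 347652, 2764293],
  [1399195520524, 1199917818276367, 5121858424333, 26649177610, 2345931517453, 23474600365889766420, 43860999, 146908261900, 20131280094804378993687, 85636, 26649177611, 11309584009, 81319959605170736661, 0, 146908261900, 447058422267724818, 3591776325133, 39358159202748810261, 1026, 1262597, 22089222, 2464671055329707028, 646490248, 713582728, 17411, 447058422267724819, 2761093, 1712773, 1413694984, 1026, 214020, 2464671055329707028, 345092, 229873684670991, 28734210584078, 1],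
  [9408698004110, 2324386185, 331896147468, 6958599, 2267688201, 871942, 876898440, 642, 81029767, 142112277515, 1393669, 282168584, 5378, 10699782, 2311173, 641, 11779, 876898440, 2311173, 214020, 160388, 0, 34948104, 19971, 17411, 0, 257, 3586, 217476, 13733126, 0, 0, 513, 4482, 36099, 288900],
  [5710188170, 187061447076239, 584195593499919, 5934727, 41515772042, 1396229, 73050504, 144473918988, 144470354316, 14711915818946193, 656229384, 20099, 3586, 0, 1917957, 3586, 3591776325133, 17772383755, 1917957, 391211657, 0, 19971, 240004, 3129501834, 17411, 513, 1162360796429, 641, 14711915817420305, 229873684647439, 0, 0, 9298886371726, 1283, 130, 1],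
  [813702, 286930184, 1183361160, 18695174, 8956038, 4482, 71608455, 277391496, 813702, 2219092105, 1026, 6056583, 668934, 8707, 345092, 4482, 5346567, 4539398, 345092, 2442245, 29059, 2690, 1183361160, 4352135, 2311173, 0, 4482, 21123, 289412, 18494726, 0, 9298886371726, 513, 641, 5378, 43139],
  [36099, 13572, 305285, 2442245, 345477, 38147, 19541511, 2761093, 43395, 156306951, 1026, 2444805, 130, 69124, 8835, 0, 11780, 1667, 70020, 553605, 3586, 641, 12676, 94853, 82949, 4482, 4482, 29315, 67717, 19853506544223249, 0, 0, 513, 1283, 310211039753487, 2481688318027920],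
  [4674899466, 1199917939320975, 450074727052, 60260038925524747285, 456248551563, 160388, 4582097929, 214016102028, 13937030, 117697515132112402, 2464671055329707028, 229873805715599, 1974599915541421032499354, 26649177611, 18695174, 0, 18697734, 2315525, 18695174, 1917957, 3586, 641, 26646758411, 26751821963, 17411, 0, 4482, 9401973935374, 482080057505229744534, 30853123680334703635736, 0, 0, 513, 4813810654940817, 38510485239526674, 308083881916213395],
  [299683892747, 712971606125071, 11445124025869, 213193419275, 11601152004493, 23474600365889766420, 5335686, 213193419276, 24081949266708087828, 5351558, 488071326219, 5907078, 44443360230926795796, 0, 488071326220, 1270624368830792722, 21183962369550, 1495456894339304473622, 1410, 4333958, 345093, 26634897470181426197, 2761093, 445147272, 82948, 26634897470181426196, 28734210584078, 1838989477368463, 4733473312041488, 1411, 738309, 1270624368830792723, 80811271, 22088966, 646490248, 1],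
  [42217410187, 91562832442638, 2655705009805, 10130694, 1141027399820, 13979142, 50740712837910161, 109921287, 742021, 659623176, 1337478, 2690, 42772872, 0, 122752263, 513, 21183962369550, 157829, 1918341, 592538249, 502793349516, 161028, 1162360796429, 3129501833, 37867786496141841, 1340677, 130, 85253, 10372, 1917958, 257, 0, 29955, 145295099532, 240004, 1],
  [9800140909844168000535, 584133928619279, 331129114124, 4740305546, 25037541003, 10130694, 405927891283824146, 52078727, 2690, 5491461385, 1270624368830792723, 1705392540941, 40660226143209554623096988, 488071326219, 1196494088, 130, 119361031, 18524550, 3331146762, 34817031, 513, 4753482238349713, 4482, 26751821962, 79414504185956161373592, 292100, 38510485239526674, 601726331867791, 310211027570319, 18695175, 257, 0, 213174067596, 36099, 26646758411, 158828046103849106],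
  [379932168, 1155791540876, 582129703068047, 24818838026, 646736520, 4352518, 144594987147, 157738947540322754965, 642, 74273314787727, 10128646, 13643140327565, 127939896821393554, 145295099531, 1185557768, 12675, 1587582930445, 1999060887810448, 607004083852, 48898439, 38776378443405, 2336901, 1712116633229, 6502660515181201, 9571952778, 2481688220372624, 2442629, 9469305225, 101657863097615, 19182032872116824468, 214014579084, 544005, 249882610976271, 148194695, 81029255, 1185554824],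
  [1183665672, 3331149321, 22658502154, 181268000267, 179424808459, 19853506544223248, 0, 22658502155, 55882303563187217, 129, 3331149322, 22089222, 380141476733862930, 1282, 1183665673, 3041131807633130515, 176712199, 3010243659118232595, 10627, 10883, 1413694984, 380141476733862931, 1413697928, 1413698184, 1283, 55882303563187218, 11309560201, 11309560457, 11309584009, 130, 90476481802, 19853506544223249, 90476483850, 90476482186, 90476672266, 1],
  [1183665672, 3331149321, 22658502154, 43860999, 179424808459, 347652, 0, 350888328, 2444805, 1288325, 2807106825, 0, 18697734, 9152646, 350438409, 0, 257, 148196871, 73221511, 73050247, 14711915817420305, 641, 2434, 2690, 73221128, 5378, 117695326539362706, 117695326539362962, 20099, 10306567, 941562612314901779, 43395, 941562612314903827, 941562612314902163, 161028, 1],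
  [3041131807633130515, 2397573960332, 19141772399245, 7031400585, 153134179192462, 21123, 1183665672, 56251205002, 158340, 3600077098253, 450009640203, 3586, 1266949, 450009637260, 354239496, 0, 27139, 289412, 56251204619, 4712964490, 482080057505229744534, 941562612314901779, 217476, 1838989477177488, 589120521, 117695326539362706, 60260007188153718037, 9408698004110, 229873805715599, 81085448, 7532500898519214740, 14711915817420305, 75269584033039, 75269584031375, 28800616786062, 380141475954141330],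
  [19971, 73043591, 73045255, 81045639, 4674791817, 139908, 18747948879373, 4682761609, 8956294, 2343494626829, 5186923785, 2392721526285, 8942854, 2343497198093, 19141718272653, 8939654, 2392741931533, 4585515658, 149983656104335, 149983601954062, 293254270476, 4577379722, 153134177669519, 150022473863823, 2343493780492, 4577142922, 18768273297806, 153444721242767, 1200174189987344, 2343591092620, 18752809232910, 292937149708, 1201124683690640, 1227557769942288, 1225073421332880, 153133745990286]]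

def kE6a : List (List (ℕ × ℕ × ℕ)) := [[(12, 1048576, 23)], [(1, 16, 0), (5, 65792, 2), (13, 65536, 7), (15, 256, 9), (18, 65536, 17)], [(12, 1118481, 19), (13, 0, 16), (14, 0, 23), (15, 0, 24), (18, 0, 20)], [(12, 1122593, 20)], [], [], [], [], [], [], [], [], [], []]

theorem basE6a : tE6a.bas (cT 2 6) = true := by decide +kernel

theorem rowsE6a : tE6a.rows rE6a 0 = true := by
  delta Tb.rows Tb.row Tb.ent Tb.aA
  rewrite [Tb.aw_eq63]
  decide +kernel

theorem clsE6a : aL tE6a.cls tE6a.K = true := by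
  delta Tb.cls Tb.zr Tb.aS Tb.aD Tb.aP Tb.aA
  rewrite [Tb.aw_eq63]
  decide +kernel

theorem allE6a : tE6a.all kE6a = true := by decide +kernel

def tE6b : Tb where
  n := 6
  K := 25
  R := 36
  nb := 0x662663642531620661
  ip := 0x501234
  rt := 0x4333330021232100233433001123210033424300112221003343240011221100342343001112210033433200112210003233430010122100342424001112110034243200111210003234240010121100443234001111110032343200101210004432420011111000424234001011110024333400011111004433230011110000424242001011100024334200011110004323340010011100224334000011110042432300101100002434230001110000432342001001100022434200001110002324340000011100344233000110000043242300100100002244230000110000232442000001100033324400000011005332330010000000352333000100000032523300001000002325230000010000333252000000100033332500000001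
  nx := 0x2223232323230000232222212222000021211f222021000020201c20211e00001f1d211f1c1f00001e1e1b1e1e2000001d1f1d1d1a1d00001c1a20191f1b00001b181e171b1c00001a1c1a161d1800001516191c19170000181b1813181a00001213171b141900001019111a1613000019101515151200000e0f1414171400000c170d180f160000170c12120e1500000b111611110d000016150b10100c00000814090f130f000014080e0a120e0000070d130d091100001312070c08100000110b10060b0700000a03040e0a0a000002090f050d0900000f0e02030c0800000d070c01020b00000606060b00010000000505090505000004000a0404040000030a00080303000009020800070200000101010700060000000000000600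
  cw := 0x54e14c155385305505380a60a042400000000000000000000000000000000000000000000000000000000000000000000000000000000000014a60aae260a04120000000000000000000000000000000000000000000000000000000000000000000000000000000000000054caae260a041000000000000000000000000000000000000000000000000000000000000000000000000000000000000000505380a60a041000000000000000000000000000000000000000000000000000000000000000000000000000000000000000005380a60a040f00000000000000000000000000000000000000000000000000000000000000000000000000000000000000015380a60a040e0000000000000000000000000000000000000000000000000000000000000000000000000000000000000000002aa60a040c0000000000000000000000000000000000000000000000000000000000000000000000000000000000000000000052994408000000000000000000000000000000000000000000000000000000000000000000000000000000000000000000000a53288700000000000000000000000000000000000000000000000000000000000000000000000000000000000000000000029944070000000000000000000000000000000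00000000000000000000000000000000000000000000000000000000000000053288600000000000000000000000000000000000000000000000000000000000000000000000000000000000000000000014a040600000000000000000000000000000000000000000000000000000000000000000000000000000000000000000000000a04050000000000000000000000000000000000000000000000000000000000000000000000000000000000000000000000054404000000000000000000000000000000000000000000000000000000000000000000000000000000000000000000000000a883000000000000000000000000000000000000000000000000000000000000000000000000000000000000000000000000a803000000000000000000000000000000000000000000000000000000000000000000000000000000000000000000000000a40300000000000000000000000000000000000000000000000000000000000000000000000000000000000000000000000044030000000000000000000000000000000000000000000000000000000000000000000000000000000000000000000000001502000000000000000000000000000000000000000000000000000000000000000000000000000000000000000000000000088200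000000000000000000000000000000000000000000000000000000000000000000000000000000000000000000000008020000000000000000000000000000000000000000000000000000000000000000000000000000000000000000000000000402000000000000000000000000000000000000000000000000000000000000000000000000000000000000000000000000010100000000000000000000000000000000000000000000000000000000000000000000000000000000000000000000000000010000000000000000000000000000000000000000000000000000000000000000000000000000000000000000000000000000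
  od := 0x20406060206060a0406020c0612080c060a06060406020402
  bd := 0x414484406444004164606404600061e4e060e46164a061606
  jt := 0x141414141414141414141414141414141414141414141414141414141414141414141414101009090910101009090909090909101009100909100910100909090909100909090909090909090908090908090908090909080908090908090908090808090809090808090909141410101010101010101010101010101010101010101010100f1010100f140f0f100f0f18151515151515151515151515150e15150e150e150e150e0e0e150e0e0e150e0e0e0e0e0f0f08080808080808080808080808080808080808080808080c0808080f0f0c0c080f0f0c0c0c0c0c0c0c0c0c0c0c0c0c0c0c0c0c0c0c0c0c0c0c0c0c0c0c0c0c0c0c0c0c0c0c0c10100909090809090f090f0f0a10100a0909080f09090a0a08080a0a0a0a0f10080a070a15151717171111171111150e1111151106111111061106061111060606110e110406041115111111111311111111111111110e111104130e11041104040411040504110e0405050414101010100f0f100f0f10100f0f140f100f0f0f100f10020f0f1002020f100f0202020f08080a080a0a080a0c0a070a070c0a0c0a070a0c07080807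070a070a0c070c0707070a07130d0d0d0d0d0d0d120d0d0d0d12050d0d030d030d030d0505050d0503030d0303030503090909090808090a0a080809070a0907080a0a080708090a070908070807070a0a07070a11111111110b0b110b0d11060d0d110d040d0b0b050d06060d0b0404040d050b0605050b1717171616161611111111111111110b11110b110b0b0b110b0b040b0b0b04060b040b06161611111313111111130b110d0b0b0b0b0d0d0b0d0b0b0b0d040b0d0b040304040b0404110b0b0b0d0d0b0d0d0d0b0b0d0d040b0d050d040d030b0405040b0304030b050503030510101009090909100a0a10100a0a100a100a0a0a0a0a0a100a0a020a0a0a02090a020a090f0a0a0a0a07070a070c0a0a0c070f070a0707070a0c0a0207070a01020c0a0702010107100909080808080a0a0a0a0a0a0a0f080a0f080f0807080f070709070707090207010702080807070c0c0707070c07070c070707070c0c070c0707070c01070c07010801010701010e060604040404060505060605050e04060404040405040e050506050505060405000504040404030303030505050505050505030505030503030305030304030303040003040300020202010101010201010202010102010201010101010102010102010101020101020101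

def rE6b : List (List ℕ) := [
  [18141506186, 2267688201, 283461000, 178833657356, 178833657355, 2794276234, 2794276233, 4429062, 43660552, 43660551, 553605, 95492, 5457543, 5457542, 69124, 92805, 11907, 682118, 92804, 682117, 4412039, 11524, 4412038, 1410, 11523, 1411, 641, 551430, 551429, 1410, 5378, 1, 69125, 0, 69124, 0],
  [74307511357071, 9288438919566, 74307511356687, 19149683831181, 150025927274895, 154389614047631, 154389614047630, 35419400, 572290313, 9204999, 4427399, 816390, 71536264, 1150598, 553350, 92805, 102021, 8941959, 21124, 143749, 10883, 11524, 2690, 12676, 2563, 1411, 641, 1282, 257, 514, 5378, 1, 129, 0, 0, 0],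
  [156330632, 144470525323, 1136895748236, 11445354058382, 11445354058381, 178833681036, 178833681035, 4412038, 7135652490, 156330632, 35296519, 92804, 961637001, 693201545, 514, 22112903, 682117, 682118, 22112902, 682117, 1413698185, 27140, 1413698184, 0, 514, 3587, 257, 2178, 0, 2563, 0, 1, 385, 0, 257, 0],
  [1392448325260, 174056040587, 172026607275279, 9298886364430, 3938767179020, 227915435276, 31289118919950, 150036374719759, 1739743923468, 75269584030990, 553605, 19331929967885, 68229, 1150598, 69124, 8942214, 10883, 8452, 2690, 143749, 11907, 1117701, 2690, 1282, 257, 3587, 641, 1410, 257, 69124, 0, 8579, 129, 0, 0, 1410],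
  [36663552650, 9089027696782, 1136895748237, 1225579765197455, 150025927274895, 4653625554645392, 1200179790885263, 35416712, 5173892362, 156330632, 283333897, 813702, 646736521, 693201545, 514, 92805, 6509831, 1712645, 21124, 26755, 10883, 139780, 2690, 0, 514, 29059, 257, 2178, 0, 2563, 0, 1, 4483, 0, 257, 0],
  [56259340939, 1137215344140, 1136130212877, 9408698003854, 37703716363, 56259340939, 894528136, 3343977994, 4585515657, 55667335, 350438409, 10883, 24818838154, 4719733386, 3587, 4719733385, 83332, 82949, 592538248, 92292, 869765, 8707, 2690, 1282, 0, 3587, 641, 4408838, 0, 257, 0, 513, 385, 69124, 551429, 514],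
  [175129838988, 11208309697166, 181268000012, 1398604369421, 1398604369420, 21853193611, 21853193610, 21124, 11208309673486, 175129838988, 514, 2690, 1549519373709, 181268000012, 38148, 217733, 0, 1555657534733, 514, 11208309697166, 27267, 234757, 0, 5378, 21124, 3587, 5378, 29955, 2690, 38148, 0, 1, 385, 641, 5378, 0],
  [2687215817357, 2221123721, 142016057740, 1162360795533, 292952304268, 89121553410191, 73640072, 7034965513, 68229, 342075529, 5312006, 10883, 592514568, 18754546839950, 544261, 55643655, 5911814, 82949, 2690, 92292, 27267, 544261, 2690, 1282, 0, 3587, 641, 2178, 0, 666885, 0, 513, 4483, 0, 257, 514],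
  [354068617, 44279944, 572867976, 7015318921, 657072520, 1288326, 1717509, 592514568, 119158023, 10309126, 69124, 144644, 553350, 2442630, 553605, 10250886, 12676, 4427399, 514, 10831239, 1410, 1281285, 5378, 102021, 4739, 347653, 0, 11907, 21763, 22089222, 0, 2761093, 43139, 641, 5378, 345476],
  [13976967, 42759431, 668037, 1266054, 567685, 143748, 871941, 21124, 656028936, 13976966, 514, 2690, 585320072, 15346950, 38148, 1862277, 0, 10250374, 514, 10699782, 43139, 1864965, 0, 5378, 21124, 29059, 5378, 292101, 2690, 38148, 0, 1, 4483, 641, 5378, 0],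
  [1398604369421, 99169239919247, 292936828299, 879052169, 387593481, 879052169, 5911814, 89198087, 5587975, 584165512, 3587, 10883, 9257991, 73745800, 1117701, 8707, 90476483850, 585450889, 0, 73745800, 43139, 158213, 0, 83332, 2690, 3587, 22089222, 1413697929, 1413698184, 514, 0, 513, 385, 641, 5378, 514],
  [17764034699, 99102969916046, 73018005213582, 41375059467, 2345946671756, 712933772579215, 5911814, 75754442251, 5587975, 341485704, 71650823, 10883, 80029037835, 22660394251, 4541958, 71650823, 144644, 43659656, 0, 299696721419, 43139, 544261, 0, 52049160, 592538248, 3587, 0, 302061408651, 2690, 592514568, 0, 513, 4483, 641, 5378, 514],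
  [292952304268, 2720245897, 2719625610, 2219004298, 42505479, 2220526857, 83588, 73015815, 21124, 53095688, 42496392, 1918341, 424742409, 385, 8452, 544261, 157828, 17412, 38148, 26755, 85252, 158213, 641, 1539, 257, 160132, 2563, 167173, 514, 257, 0, 667141, 2434, 83332, 514, 666885],
  [2719656074, 712940215027344, 31244311736974, 41375059467, 4408967, 194524172684, 214660, 43826630155, 27183498890, 21891466635, 2399311377676, 148194696, 345093, 108676, 35999240, 4541958, 1539, 26752012682, 5378, 214014579083, 31289119110414, 158213, 514, 2416491246220, 1196518025, 2444805, 9258374, 167173, 641, 5378, 0, 74067463, 43395, 4740114953, 514, 592514568],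
  [22112902, 3343977994, 26751822347, 21854635019, 21758166027, 56125123210, 22112902, 2732803082, 9484462729, 122776199, 350438409, 641, 1196518024, 894528136, 0, 156330631, 5378, 214020, 7034989193, 0, 2434, 36099, 2178, 0, 385, 4482, 257, 129, 385, 3330, 0, 513, 1282, 1410, 3330, 26755],
  [42052833930, 417997193, 3343977738, 26751821963, 2719621642, 9130374, 592538248, 341451273, 391187977, 342049801, 43655688, 641, 3129502218, 44254216, 10628, 4711599625, 5378, 5456902, 176902535, 0, 43139, 682502, 2178, 0, 10627, 85509, 257, 129, 4483, 85252, 0, 513, 1282, 12676, 36100, 682117],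
  [1141381, 36627426570, 4483, 12676, 514, 47531016, 1141381, 1539, 380248457, 9127558, 0, 641, 73614983, 0, 1117701, 9202310, 0, 149564679, 385, 44254216, 129, 19541254, 385, 682117, 6505479, 4482, 1410, 85252, 92292, 2764037, 0, 513, 90476483850, 11523, 90476672267, 15346950],
  [5335687, 21496601864718, 9245093816974, 73960750532239, 9127096052237, 1392551422604, 5335686, 1155636750860, 9484462601, 42681991, 28815217764749, 641, 1450143976717, 0, 5312007, 1549519375885, 0, 5457415, 1157509, 894528136, 129, 682502, 4483, 6509831, 2346034162188, 73747975, 12676, 52078728, 813190, 26649177355, 0, 513, 144644, 101637, 19331930158349, 181268000012],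
  [47531016, 194687223436, 3129502346, 200288122124, 111813000, 24336093579, 18051, 7156033674, 1437250909453, 1157253, 391187720, 13652125692557, 1464963672205, 21763, 1602304977292, 22890057355, 214014579339, 391211529, 385, 2740021897, 13696932877581, 6114823, 18376363530, 109217005538574, 869765, 6958599, 1176087250444, 1706515714444, 101657863097998, 764293, 26751822346, 21920174730, 9408698003853, 101657863288078, 12707232910989, 48901383],
  [109865607, 1464866016525, 42052643467, 41998707339, 299750681228, 2687915738765, 2398005449357, 299696745100, 19180590155406, 2397573960333, 4355334, 153444721242767, 278742024, 34837767, 91561526511119, 5482630, 2229617673, 1430648875533, 278702472, 11445190813838, 43821191, 9095843703309, 17836941706, 178831109388, 1431474563213, 1402878965004, 350569864, 1136980462860, 22366792971, 640232486155, 13733126, 11223031720333, 11223031715085, 142695533835, 640329951371, 80041243914],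
  [0, 641, 5378, 43139, 43395, 345092, 347652, 345476, 1141253, 1117445, 1117701, 142596, 142852, 139652, 0, 19971, 17795, 1, 17411, 513, 2434, 130, 2178, 514, 4482, 1283, 257, 1539, 4483, 36099, 0, 10628, 10756, 12676, 36100, 288900],
  [641, 90476481802, 6509831, 52078728, 52078984, 416629769, 416632329, 416630153, 3333038474, 3333041674, 0, 26664308235, 1, 513, 350438409, 130, 514, 43804808, 4482, 44254216, 1539, 5475591, 4483, 5531783, 6505479, 3601902220556, 12676, 691462, 813190, 80041243914, 0, 28815217764749, 28815217759501, 101637, 640232486155, 640329951371],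
  [214661, 73060113330830, 7031400585, 4653589888976528, 378301065, 174056096779, 341455497, 4673564650344080, 37692776843, 5728673048703632, 193690158475, 350569480, 5338374, 21854660747, 72712899291663, 150139616913551, 92676, 581698736122511, 21854766475, 73024447664527, 1141564270732, 7031574026, 217476, 581698899366543, 89509422238991, 89116701167118, 1136139051404, 174825122188, 19180590158478, 716083699602063, 47287560, 1201116935308816, 4653591194930832, 174838131980, 2731832586, 1398705032461],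
  [139909, 36655416331, 282137864, 1155633162381, 35301767, 11208430741646, 514, 2720220810, 73960522391950, 2259299850, 21853193610, 1156542696973, 9127096028429, 738821, 11444096690830, 1401036293517, 6505479, 73968908980622, 143748, 1548512613005, 11189640259726, 4582100490, 47255944, 1450265045517, 416632329, 144454274571, 1398584722829, 1156596846989, 5728669595292304, 2731832586, 340027529, 73016768227854, 12388100902542, 11188677782798, 1398705032461, 716083699602063],
  [0, 641, 5378, 43139, 43395, 345092, 347652, 345476, 2761093, 2764293, 2764037, 22089222, 22088966, 22112774, 22112902, 176711815, 176712199, 176712327, 176902535, 176902791, 1413694984, 1413695112, 1413697928, 1413698184, 1415220872, 11309561097, 11309560201, 11309560457, 11309584009, 11321767177, 90476481802, 90476489098, 90476483850, 90476482186, 90476672266, 90574137482]]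

def kE6b : List (List (ℕ × ℕ × ℕ)) := [[(7, 1048576, 17), (8, 256, 19), (9, 4112, 23), (15, 0, 21), (20, 0, 24)], [(1, 0, 3)], [(8, 256, 22)], [(1, 0, 3), (8, 2236433, 11), (9, 0, 22), (10, 0, 13), (12, 0, 18)], [], [], [], [], [], [], [], [], [], []]

theorem basE6b : tE6b.bas (cT 2 6) = true := by decide +kernel

theorem rowsE6b : tE6b.rows rE6b 0 = true := by
  delta Tb.rows Tb.row Tb.ent Tb.aA
  rewrite [Tb.aw_eq63]
  decide +kernel

theorem clsE6b : aL tE6b.cls tE6b.K = true := by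
  delta Tb.cls Tb.zr Tb.aS Tb.aD Tb.aP Tb.aA
  rewrite [Tb.aw_eq63]
  decide +kernel

theorem allE6b : tE6b.all kE6b = true := by decide +kernel

end Cfsg.Agent.OM.Cu.Eng
end

-- part: OM/Cu/EngX
section
/-!
# OM / Cu : `G₂ F₄ E₆` and triality (helper55)
-/

set_option autoImplicit false

namespace Cfsg.Agent.OM.Cu

open Cfsg.Agent.BZ.TA Cfsg.Agent.BZ.TA.Cl Eng

theorem tsG2 : Ts 2 (c2 (-1) (-3)) := fun l π h => autG2 π h ▸ Tb.cu_of (T := tG2) (π := 1) basG2 (by decide +kernel)
  (fun _ _ => rfl) carG2 (fun i hi => Tb.rows_ok rowsG2 i (Nat.zero_le i) hi) clsG2 allG2 l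

theorem tsF4 : Ts 4 (cF (-1) (-2)) := fun l π h => autF4 π h ▸ Tb.cu_of (T := tF4) (π := 1) basF4 (by decide +kernel)
  (fun _ _ => rfl) carF4 (fun i hi => Tb.rows_ok rowsF4 i (Nat.zero_le i) hi) clsF4 allF4 l

theorem tsE6 : Ts 6 (cT 2 6) := fun l π h => by
  rcases autE6 π h with rfl | rfl
  · exact Tb.cu_of (T := tE6a) basE6a (by decide +kernel) h carE6 (fun i hi => Tb.rows_ok rowsE6a i (Nat.zero_le i) hi)
      clsE6a allE6a l
  · exact Tb.cu_of (T := tE6b) basE6b (by decide +kernel) h carE6 (fun i hi => Tb.rows_ok rowsE6b i (Nat.zero_le i) hi)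
      clsE6b allE6b l

/-- **[D4]** -/
theorem boxD4 : BoxD4 := fun l π h3 h1 h => by
  rcases autD4 π h3 h1 h with rfl | rfl
  · exact Tb.cu_of (T := tD4a) basD4a (by decide +kernel) h carD4 (fun i hi => Tb.rows_ok rowsD4a i (Nat.zero_le i) hi)
      clsD4a allD4a l
  · exact Tb.cu_of (T := tD4b) basD4b (by decide +kernel) h carD4 (fun i hi => Tb.rows_ok rowsD4b i (Nat.zero_le i) hi)
      clsD4b allD4b l

/-- **[X]** from `E₇`, `E₈` -/
theorem boxX_of (h7 : Ts 7 (cT 2 7)) (h8 : Ts 8 (cT 2 8)) : BoxX := ⟨tsG2, tsF4, tsE6, h7, h8⟩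

end Cfsg.Agent.OM.Cu
end
end

-- part: OM/Cu/Ext
section
prune_inst 0x4010000
set_option linter.all false
open scoped Cfsg.Agent.FastGrp

/-!
# OM / Cu : the sum of the characteristic polynomials over the reflections (helper12)

If the sum of `1 - ρ` over the reflections is the scalar `h`, the coefficients of the characteristic polynomial are eigenfunctions
of the sum of the reflections.
-/

set_option autoImplicit false
set_option linter.unusedSectionVars false

namespace Cfsg.Agent.OM.Cu.Ext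

open Cfsg Matrix Cfsg.Agent.HZ.L Cfsg.Agent.BZ.TA Cfsg.Agent.BZ.TA.Cl Finset Polynomial

variable {R ι : Type} [Fintype R] [DecidableEq R]

/-- the formula of Jacobi -/
theorem jacobi (A : Mat R) : trace (charmatrix A).adjugate = derivative A.charpoly := by
  rw [charpoly, det_apply, map_sum, trace]
  have k : ∀ i, (charmatrix A).adjugate.diag i = ((charmatrix A).updateCol i (Pi.single i 1)).det := fun i => by
    rw [← cramer_apply, cramer_eq_adjugate_mulVec, mulVec_single_one]
    rfl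
  simp only [k, det_apply]
  rw [sum_comm]
  refine sum_congr rfl fun σ _ => ?_
  rw [Units.smul_def, map_zsmul, derivative_prod_finset, smul_sum]
  refine sum_congr rfl fun i _ => ?_
  rw [Units.smul_def, ← mul_prod_erase _ _ (mem_univ i), updateCol_self, mul_comm]
  congr 2
  · exact prod_congr rfl fun j hj => updateCol_ne (ne_of_mem_erase hj)
  · by_cases h : σ i = i <;> simp [h]

theorem cp_rf (a : Vec R × Vec R) (A : Mat R) :
    (rfm a * A).charpoly = A.charpoly + trace (((1 - rfm a) * A).map C * (charmatrix A).adjugate) := by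
  have h0 : A.charpoly ≠ 0 := A.charpoly_monic.ne_zero
  have h1 := Lie.UL.det_upd (charmatrix A) _ _ h0 (mul_adjugate _) (-(C ∘ a.2)) (C ∘ (a.1 ᵥ* A))
  have h2 : (1 - rfm a) * A = vecMulVec a.2 (a.1 ᵥ* A) := by rw [rfm, sub_sub_cancel, vecMulVec_mul]
  have h3 : (vecMulVec a.2 (a.1 ᵥ* A)).map C = vecMulVec (C ∘ a.2) (C ∘ (a.1 ᵥ* A)) := by
    ext i j : 2
    simp [vecMulVec_apply]
  have h4 : charmatrix (rfm a * A) = charmatrix A - vecMulVec (-(C ∘ a.2)) (C ∘ (a.1 ᵥ* A)) := by
    rw [neg_vecMulVec, ← h3, ← h2, charmatrix, charmatrix, sub_mul, one_mul, RingHom.mapMatrix_apply, RingHom.mapMatrix_apply,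
      Matrix.map_sub _ (map_sub C)]
    abel
  rw [charpoly, h4, mul_left_cancel₀ h0 h1, h2, h3, vecMulVec_mul, trace_vecMulVec, mulVec_neg, dotProduct_neg, sub_neg_eq_add,
    dotProduct_mulVec, dotProduct_comm]

/-- **the sum over the reflections** -/
theorem sum_cp (S : Finset ι) (ρ : ι → Mat R) (hS : ∀ t ∈ S, ∃ a, ρ t = rfm a) {h : ℤ} (hK : ∑ t ∈ S, (1 - ρ t) = h • 1)
    (A : Mat R) : ∑ t ∈ S, (ρ t * A).charpoly =
      C (S.card - h * Fintype.card R) * A.charpoly + C h * (X * derivative A.charpoly) := by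
  have h1 : ∑ t ∈ S, trace (((1 - ρ t) * A).map C * (charmatrix A).adjugate) = C h * trace (A.map C * (charmatrix A).adjugate) := by
    rw [← trace_sum, ← sum_mul, ← smul_eq_mul (C h), ← trace_smul, ← smul_mul_assoc]
    congr 2
    have := map_sum (C : ℤ →+* ℤ[X]).mapMatrix (fun t => (1 - ρ t) * A) S
    rw [← sum_mul, hK, smul_mul_assoc, one_mul] at this
    exact this.symm.trans (Matrix.ext fun i j => map_mul C h (A i j))
  have h2 : A.map C = (X : ℤ[X]) • 1 - charmatrix A := by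
    rw [charmatrix, RingHom.mapMatrix_apply, scalar_apply, ← smul_one_eq_diagonal, sub_sub_cancel]
  rw [sum_congr rfl fun t ht => (by obtain ⟨a, e⟩ := hS t ht; rw [e, cp_rf, ← e] :
    (ρ t * A).charpoly = A.charpoly + trace (((1 - ρ t) * A).map C * (charmatrix A).adjugate)), sum_add_distrib, h1, h2, sub_mul,
    mul_adjugate, smul_mul_assoc, one_mul, trace_sub, trace_smul, trace_smul, jacobi, trace_one, sum_const, ← charpoly]
  simp only [nsmul_eq_mul, smul_eq_mul, map_sub, map_mul, map_natCast]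
  ring

/-- the coefficients are eigenfunctions -/
theorem sum_coeff (S : Finset ι) (ρ : ι → Mat R) (hS : ∀ t ∈ S, ∃ a, ρ t = rfm a) {h : ℤ} (hK : ∑ t ∈ S, (1 - ρ t) = h • 1)
    (A : Mat R) (j : ℕ) : ∑ t ∈ S, (ρ t * A).charpoly.coeff j = (S.card - h * (Fintype.card R - j)) * A.charpoly.coeff j := by
  rw [← finsetSum_coeff, sum_cp S ρ hS hK, coeff_add, coeff_C_mul, coeff_C_mul]
  cases j with
  | zero => simp
  | succ j => rw [coeff_X_mul, coeff_derivative]; push_cast; ring

/-- the sum of the translations is self adjoint -/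
theorem adj {Ω : Type} [Fintype Ω] (S : Finset ι) (m : ι → Ω → Ω) (hm : ∀ t ∈ S, Function.Involutive (m t)) (y g : Ω → ℂ) :
    ∑ w, (∑ t ∈ S, y (m t w)) * g w = ∑ w, y w * ∑ t ∈ S, g (m t w) := by
  simp only [sum_mul, mul_sum]
  rw [sum_comm, sum_comm (s := univ)]
  refine sum_congr rfl fun t ht => ?_
  rw [← Equiv.sum_comp (hm t ht).toPerm]
  exact sum_congr rfl fun w _ => by rw [Function.Involutive.coe_toPerm, hm t ht]

/-- **orthogonality**, any index type -/
theorem sum_zero {Ω : Type} [Fintype Ω] (S : Finset ι) (ρ : ι → Mat R) (hS : ∀ t ∈ S, ∃ a, ρ t = rfm a) {h : ℤ}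
    (hK : ∑ t ∈ S, (1 - ρ t) = h • 1) (m : ι → Ω → Ω) (hm : ∀ t ∈ S, Function.Involutive (m t)) (M : Ω → Mat R)
    (hM : ∀ t ∈ S, ∀ w, M (m t w) = ρ t * M w) {y : Ω → ℂ} {κ : ℂ} (hy : ∀ w, ∑ t ∈ S, y (m t w) = κ * y w) (j : ℕ) :
    (S.card - h * (Fintype.card R - j) - κ) * ∑ w, y w * ((M w).charpoly.coeff j : ℤ) = 0 := by
  have h1 := adj S m hm y fun w => ((M w).charpoly.coeff j : ℤ)
  have h2 : ∀ w, ∑ t ∈ S, (((M (m t w)).charpoly.coeff j : ℤ) : ℂ) =
      (S.card - h * (Fintype.card R - j)) * ((M w).charpoly.coeff j : ℤ) := fun w => by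
    rw [sum_congr rfl fun t ht => by rw [hM t ht], ← Int.cast_sum, sum_coeff S ρ hS hK]
    push_cast
    rfl
  simp only [hy, h2, mul_assoc, mul_left_comm (y _), ← mul_sum] at h1
  rw [sub_mul, h1, sub_self]

/-- `N` reflections, the sum of `1 - ρ` is the scalar `h` -/
def KS (Z : RS R) (N : ℕ) (h : ℤ) : Prop := ∃ S : Finset (Mat R), (S : Set (Mat R)) = rfm '' Z ∧ S.card = N ∧ ∑ ρ ∈ S, (1 - ρ) = h • 1

/-- **orthogonality**, finite sets of matrices -/
theorem KS.zero {Z : RS R} {N : ℕ} {h : ℤ} (H : KS Z N h) (h2 : ∀ a ∈ Z, a.1 ⬝ᵥ a.2 = 2) (T : Finset (Mat R))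
    (hT : ∀ a ∈ Z, ∀ A ∈ T, rfm a * A ∈ T) {y : Mat R → ℂ} {κ : ℂ} (hy : ∀ A ∈ T, ∑ᶠ ρ ∈ rfm '' Z, y (ρ * A) = κ * y A) (j : ℕ) :
    (N - h * (Fintype.card R - j) - κ) * ∑ A ∈ T, y A * (A.charpoly.coeff j : ℤ) = 0 := by
  obtain ⟨S, h3, rfl, h4⟩ := H
  have h5 : ∀ t ∈ S, ∃ a ∈ Z, rfm a = t := fun t ht => by
    have : t ∈ rfm '' Z := h3 ▸ mem_coe.2 ht
    exact this
  have h6 : ∀ t : S, ∀ A ∈ T, t.1 * A ∈ T := fun t A hA => by
    obtain ⟨a, ha, e⟩ := h5 t t.2
    exact e ▸ hT a ha A hA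
  have := sum_zero (Ω := T) univ (fun t : S => t.1) (fun t _ => let ⟨a, _, e⟩ := h5 t t.2; ⟨a, e.symm⟩)
    ((sum_coe_sort S fun t => 1 - t).trans h4) (fun t A => ⟨t.1 * A.1, h6 t A A.2⟩) (fun t _ A => Subtype.ext (by
      obtain ⟨a, ha, e⟩ := h5 t t.2
      show t.1 * (t.1 * A.1) = A.1
      rw [← mul_assoc, ← e, rfm_sq (h2 a ha), one_mul])) Subtype.val (fun _ _ _ => rfl) (y := fun A => y A) (κ := κ) (fun A => by
      rw [← hy A A.2, ← h3, finsum_mem_coe_finset]
      exact sum_coe_sort S fun t => y (t * A)) j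
  rwa [card_univ, Fintype.card_coe, sum_coe_sort T fun A => y A * (A.charpoly.coeff j : ℤ)] at this

section Tab

open Eng Eng.Tb

variable {T : Tb} {c : ℕ → ℕ → ℤ} {d : Fin T.n → ℤ}

/-- the reflections of a subsystem, by numbers -/
theorem rf_image (H : T.Bs c) (hR : Rs (cm T.n c) d) (p : Vec (Fin T.n) → Prop) (hp : ∀ v, p (-v) ↔ p v) [DecidablePred p] :
    rfm '' {a | a ∈ Rc (cm T.n c) ∧ p a.2} = (fun t => rfm (T.rr t)) '' ((range T.R).filter fun t => p (T.rr t).2 : Finset ℕ) := by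
  ext ρ
  constructor
  · rintro ⟨a, ⟨h1, h2⟩, rfl⟩
    obtain ⟨t, ht, rfl | rfl⟩ := H.rr_all hR h1
    · exact ⟨t, mem_coe.2 (mem_filter.2 ⟨mem_range.2 ht, h2⟩), rfl⟩
    · exact ⟨t, mem_coe.2 (mem_filter.2 ⟨mem_range.2 ht, (hp _).1 h2⟩), (rfm_neg _).symm⟩
  · rintro ⟨t, ht, rfl⟩
    have := mem_filter.1 (mem_coe.1 ht)
    exact ⟨_, ⟨H.rr_mem hR t (mem_range.1 this.1), this.2⟩, rfl⟩

/-- the numbering of the reflections is injective -/
theorem rf_inj (H : T.Bs c) (hR : Rs (cm T.n c) d) (hi : ∀ t < T.R, ∀ t' < T.R, (∀ j < T.n, T.co t j = T.co t' j) → t = t')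
    {t t' : ℕ} (ht : t < T.R) (ht' : t' < T.R) (e : rfm (T.rr t) = rfm (T.rr t')) : t = t' := by
  refine hi t ht t' ht' fun j hj => ?_
  rcases hR.rf _ (H.rr_mem hR t ht) _ (H.rr_mem hR t' ht') e with k | k
  · exact Int.natCast_inj.1 (congrFun (congrArg Prod.snd k) ⟨j, hj⟩).symm
  · have : (T.co t' j : ℤ) = -T.co t j := congrFun (congrArg Prod.snd k) ⟨j, hj⟩
    omega

end Tab

end Cfsg.Agent.OM.Cu.Ext
end

-- part: OM/On/E6/Eng
section
set_option linter.all false
open scoped Cfsg.Agent.FastGrp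

/-!
# OM/On/E6: functions on the cosets of reflection subgroups of `W(E₆)` killed by the sum of the reflections; the checker (helper66)
-/

set_option autoImplicit false
set_option linter.unusedSectionVars false
set_option maxRecDepth 100000

namespace Cfsg.Agent.OM.On.E6

open Cfsg Matrix Cfsg.Agent.HZ.L Cfsg.Agent.BZ.TA Cfsg.Agent.OM.Cu Finset Polynomial

section Gen

variable {R : Type} [Fintype R] [DecidableEq R]

/-- the hypotheses on `f` -/
structure Hz (Ψ Z : RS R) (B : Mat R) (f : Mat R → ℂ) : Prop where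
  cj : ∀ u ∈ WW Z, ∀ A, Co Ψ B A → f (u * A) = f (A * u)
  cas : ∀ A, Co Ψ B A → ∑ᶠ ρ ∈ rfm '' Z, f (ρ * A) = 0
  nm : ∀ A, Co Ψ B A → f A ≠ 0 → Nm A Z

/-- `f` misses the eigenvalue -/
def Ms (Ψ : RS R) (B : Mat R) (f : Mat R → ℂ) (μ : ℂ) : Prop := ∀ A, Co Ψ B A → Eig Ψ A μ → f A = 0

theorem eig_all {A : Mat R} {d : ℕ} {v : Vec R} (hd : 0 < d) (hv : v ≠ 0) (h : aeval A (cyclotomic d ℤ) *ᵥ v = 0) {μ : ℂ}
    (hμ : IsPrimitiveRoot μ d) : ∃ y, y ≠ 0 ∧ IsE A μ y := by
  obtain ⟨ν, y, h1, h2, h3⟩ := eig_wit A d v hd hv h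
  obtain ⟨g, hg⟩ := minpoly.isIntegrallyClosed_dvd (h1.isIntegral hd) (Eg.root_iff.2 ⟨y, h2, h3⟩)
  refine Eg.root_iff.1 ?_
  rw [hg, map_mul, ← cyclotomic_eq_minpoly h1 hd, cyclotomic_eq_minpoly hμ hd, minpoly.aeval, zero_mul]

end Gen

/-- the Cartan matrix -/
abbrev C6 : Mat (Fin 6) := cm 6 (cT 2 6)

theorem rs6 : Rs C6 ![1, 1, 1, 1, 1, 1] := boxRs _ _ Eng.carE6

def RT : ℕ := 0x2305070b0d1011131516173c191a1b381c361d1e33321f30202e2d2c212a22282726252447292b2f31343537393a3b183d3e3f14401241420f0e430c440a0908450646040302010029220208090c0e0f123e14163b183919371b35341c1d311e2f2e1f202b2a4728272125240546262c2d303233361a383a173c153d133f111040410d420b0a434407062304034501002b2621030106410a3f0e3d11123a141537171834331a31302f1c2d2c471e292820461f2407024527252a1d2e1b32193536163839133b3c100f3e0d0c0b40090823420504442243002f2c2720430401403f090a0d3b3a0f38121335341532183047191a462b2a291e45261d240b0803441f28251c1b2d2e311716331436371110390e3c0c233d3e220706054221024100312d25441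f42030006083d0b0c3a39103736351433324717182e461a2b1b29281d26451c0d090120431e27242a2c192f30161534131211380f0e233b3c0a223e073f05044102214034302a28431e4140013e3d3c090a390d0e360f47111314462f16172c2b45294427261b24100c06041f421d1c251a19182d2e153132123323353738220b3a3b080721052003023f003532452527421d40040200073b3a39380c36470f104631132f2e2d2c182a291b431a4419110e2101031e411c2826242b171615143012233334220d370b0a09083c06053f1f3e203d37332e442442411c3f3e033c3b060838470b0c0e4610311112452d152b16292819262543130f0a20001e1d401b1a2718172a2c14232f303222340d3536210939073a05043d02011f393645442a2528401b3e3d3c02004707084635340b3231300f2e2d131443294127174216151221200601041c3f1a19182624232b2c2211102f0e0d0c330a0937381f051d033b1e3a3a46322d2c4226403f1a3d05044700380636350a334531302f1044432b1318172741251516220e09081e021c1b3e1929282324142a12112e0f210d0c0b34201f07373c3b031d01393b38452e434224273f3e193c470402463707350933320c0d2f44102c122a2916401525411714210a1f1e00031b1a3d1823282622132b112d0f0e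30310b2034083606053a1c39011d473a35312f422b403f293d183b463904370045340632440a430c2d2c410f3e14272625122316110d0b1e071c1b05193c17221528132421102a0e202e1f3009081d331a38030201363d463644302d41402628473c173a390503450034333231430a0b422c2b2a143e133f2511192212200c091d1c020423183b161529272124100f0e0d1f2e2f1e080706381a371b01353e3c4544432e412a244728463b163938373602343307083009420b0d0e40293d2711253f1a1821201f0a1d0600230422173a1514131226100f2b2c0c2d1e2f31321c05190335011b3f4638334342412c4724263c3b3a154537050401443206302f2e2d402b0d1211273d103e1b22140f1f1e1d08230002181716392113292825200e2a0c0b0a091c073136350319341a473d3944343141402b3e4628293a451437363543030042302f082d0a3f2a3b3c0f26250e23191520100d1d1c071a2204051621381312111f27241e0c0b2c092e1b0617183302013240464536433230472c2a3d3c273a393813443534054200412f072d3f0a3e0f283b26250d1c2221121f0e0c23080619180316151437201110291e241d0b2b091b2e1a330417020131473f3b374342412f463e2b24453a29384412353433043101402e062c3d09390e27260c3c231b171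31f1e1d0b221a070021160514203611100f280d251c0a2a08192d15320302301841463c44433347303f3e3d45242628383736113442050340012e2d2c2b2a0e390d3a0b3b1d2218201f0f230c1b1a192100020414131235101e29271c250a09080706321531162f1742464544384733323f2e2d3c3b3a25433736351041403105043e3d2c06070c0b272639241e22212014230f0e1b0a09181716011f131211341d1c0d29281a19082a2b302f0302150047404539433534462f3e3d2a3b3a4427293642410f3231303f02002c2b3c3728380a2509231c21151f1110220b1a19061716200305121e1d330e0d0c1b26240807181304142e012d47413e44433746343f453d3c3b2b392442282940330e31302f2e03013a2a353609260838231d1a201f1322101b211918170715001e04051c0f320d0c0b0a2725160611122d022c144346453c473841403f3e30443b2c2a422436273433320d3d2f2e053a01390928352607371f22211823141d1c1b1a0c201708061e001203100f0e31190b0a291625152d0411022b13474245443b4637353f3e312e433a39384125402933323d0c2f3c2d042b02340827063624231e2120172213111b1a0d0a1f1615141d011c050f0e19300b1809280726102c032a1200444645473c424136333e3d432e2d3938374025283f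3231300b3b3a05032a08340726352420222123181e1d120f1a191f0a091514131c01041b0e0d0c2f17162927062c102b0211004746403d433a41453f3444302f42392c2b36353e2632313c3b0a2d38372a29282733000123221c191f161d211b10200c0b1e15080712111a020e0d18172e091413060504030f24254743453e463b41403f44343c422f3938372a353d242729303a2e092c2b36312832010233231f211a22171d1c1b2010181e0b1514130611190003050c160a2d0807120d040e25260f474445463e42413937433d3c3b31402e3f36353433253a2829382d082b2a2f3002033224232021221a1e1d15131f1918170d1c0a1b1211100f0116040514092c07060b0c26270e004546474443423c40383e36413b32393f2e3d352a333a253027372d2c073402282f053124212223201f1e181c141a121d170e151b0a1911060f16010c031309082b1026040b290d00474642443f45413a43373d333b4031383e2d352b3c3239262f2e362c340629030430252423221e201b211d161f13190f171c0d141a091107180e15020b0a1208102a0527280c010046474544434241403f3c3d3e383a363b3339323037352d342c2e312f262a0528272b2524222321201f1e1d1c1b18191a141612170f150e0c13110910080a0d0b020629040307010047464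54243443f40413b3a383e3d353c3732392f3336312c342e2d302b2729042a2625242322211e1f201b1c1d1716141a191118130e150b0f120d08100a090c0703052806020100474644454142433d3f3e403c373a39333b363134382d35302b2e32262f28292a032c2524232220211d1e1f191b1a1c181316150f17120d101409110c070a0e020b040506270801004745464443423e403b41393c3f353d3837363a342e32312a2f33252729302b282c022d24232122201f1e1a1c171d15181b111914131216100a0e0d060b0f0103050c07040826090047464341453f4440423e3d3c3b3a343837302f39332c2b3635242632312a2928272d012e23221f1d211b201c1e1a191817161014130c0b150f0807121100020e0d0605040309250a4746454440423d433a394136353f3e32313c3b342d3837302f25332c2b2a292827262e00232221201c1e191f16151d12111b1a0e0d1817100914130c0b010f080706050403020a24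

def RV : ℕ := 0x121012221012221112222112221122232112222122221123232122222222222123322222232222232123222223332222233222322223232223222233333222332223233223322233232233333322333223332233233233322333233333323333332333333233333323333332545654445654445554444554445544434554444544445543434544444444444543344444434444434543444443334444433444344443434443444433333444334443433443344433434433333344333443334433433433344333433333343333334333333433333343333334

/-- the coroot with the number `u` -/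
def rt (u : ℕ) (j : Fin 6) : ℤ := ((RV >>> (4 * (6 * u + j)) % 16 : ℕ) : ℤ) - 3

/-- the pair -/
def pr (u : ℕ) : Vec (Fin 6) × Vec (Fin 6) := (rt u ᵥ* C6, rt u)

/-- the reflection `t` on the numbers -/
def a1 (t u : ℕ) : ℕ := RT >>> (8 * (72 * (t % 36) + u)) % 256

/-- the reflection `t` -/
def ro (t : ℕ) : Mat (Fin 6) := rfm (pr (t % 36))

def ac (w : List ℕ) (u : ℕ) : ℕ := w.foldr a1 u

def mt (w : List ℕ) : Mat (Fin 6) := (w.map ro).prod

def ip (x y : Fin 6 → ℤ) : ℤ := (2 * x 0 - x 1) * y 0 + (2 * x 1 - x 0 - x 2) * y 1 + (2 * x 2 - x 1 - x 3 - x 5) * y 2 +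
  (2 * x 3 - x 2 - x 4) * y 3 + (2 * x 4 - x 3) * y 4 + (2 * x 5 - x 2) * y 5

theorem ip_eq (x y : Fin 6 → ℤ) : (x ᵥ* C6) ⬝ᵥ y = ip x y := by
  simp [vecMul, dotProduct, Fin.sum_univ_six, cm, cT, ip]
  ring

private noncomputable def _root_.Cfsg.Agent.KOd797159.k0 : ((x0 : Prop) → ((@Decidable @x0) → @Bool)) := @(fun (x0 : Prop) (x1 : @Decidable @x0) => @Decidable.rec.{1} @x0 @(fun (x2 : @Decidable @x0) => @Bool) @(fun (x2 : @Not @x0) => @Bool.false) @(fun (x2 : x0) => @Bool.true) @x1)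
private theorem _root_.Cfsg.Agent.KOd797159.e0 : @Decidable.decide = @_root_.Cfsg.Agent.KOd797159.k0 := by delta _root_.Cfsg.Agent.KOd797159.k0; rfl'
private noncomputable def _root_.Cfsg.Agent.KOd797159.k1 : (by first | exact type_of% @Cfsg.Agent.OM.On.E6.a1 | exact Unit : Sort _) := by first | (refine @Subtype.val _ (fun g => @Cfsg.Agent.OM.On.E6.a1 = @g) (@Subtype.mk _ _ (@(fun (x0 : @Nat) (x1 : @Nat) => @Nat.mod (@Nat.shiftRight @Cfsg.Agent.OM.On.E6.RT (@Nat.mul (nat_lit 8) (@Nat.add (@Nat.mul (nat_lit 72) (@Nat.mod @x0 (nat_lit 36))) @x1))) (nat_lit 256))) ?_); (try delta Cfsg.Agent.OM.On.E6.a1); (try generalize @Cfsg.Agent.OM.On.E6.RT = g0); rfl') | exact @Cfsg.Agent.OM.On.E6.a1 | exact ()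
private theorem _root_.Cfsg.Agent.KOd797159.e1 : (by first | exact @Cfsg.Agent.OM.On.E6.a1 = @_root_.Cfsg.Agent.KOd797159.k1 | exact True : Prop) := by first | (delta _root_.Cfsg.Agent.KOd797159.k1; exact @Subtype.property _ (fun g => @Cfsg.Agent.OM.On.E6.a1 = @g) _) | rfl | trivial
private noncomputable def _root_.Cfsg.Agent.KOd797159.k2 : ((@Int) → ((@Int) → @Int)) := @(fun (x0 : @Int) (x1 : @Int) => @Int.rec.{1} @(fun (x2 : @Int) => @Int) @(fun (x2 : @Nat) => @Int.rec.{1} @(fun (x3 : @Int) => @Int) @(fun (x3 : @Nat) => @Int.ofNat (@Nat.add @x2 @x3)) @(fun (x3 : @Nat) => @Nat.rec.{1} @(fun (x4 : @Nat) => @Int) (@Int.ofNat (@Nat.sub @x2 (@Nat.succ @x3))) @(fun (x4 : @Nat) (x5 : @Int) => @Int.negSucc @x4) (@Nat.sub (@Nat.succ @x3) @x2)) @x1) @(fun (x2 : @Nat) => @Int.rec.{1} @(fun (x3 : @Int) => @Int) @(fun (x3 : @Nat) => @Nat.rec.{1} @(fun (x4 : @Nat) => @Int) (@Int.ofNat (@Nat.sub @x3 (@Nat.succ @x2))) @(fun (x4 : @Nat) (x5 : @Int) => @Int.negSucc @x4) (@Nat.sub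 (@Nat.succ @x2) @x3)) @(fun (x3 : @Nat) => @Int.negSucc (@Nat.succ (@Nat.add @x2 @x3))) @x1) @x0)
private theorem _root_.Cfsg.Agent.KOd797159.e2 : @Int.add = @_root_.Cfsg.Agent.KOd797159.k2 := by delta _root_.Cfsg.Agent.KOd797159.k2; rfl'
private noncomputable def _root_.Cfsg.Agent.KOd797159.k3 : (by first | exact type_of% @Cfsg.Agent.OM.On.E6.rt | exact Unit : Sort _) := by first | (refine @Subtype.val _ (fun g => @Cfsg.Agent.OM.On.E6.rt = @g) (@Subtype.mk _ _ (@(fun (x0 : @Nat) (x1 : @Fin (@OfNat.ofNat.{0} @Nat (nat_lit 6) (@instOfNatNat (nat_lit 6)))) => @Cfsg.Agent.KOd797159.k2 (@Int.ofNat (@Nat.mod (@Nat.shiftRight @Cfsg.Agent.OM.On.E6.RV (@Nat.mul (nat_lit 4) (@Nat.add (@Nat.mul (nat_lit 6) @x0) (@Fin.val (nat_lit 6) @x1)))) (nat_lit 16))) (@Nat.rec.{1} @(fun (x2 : @Nat) => @Int) (@Int.ofNat (nat_lit 0)) @(fun (x2 : @Nat) (x3 : @Int) => @Int.negSucc @x2) (nat_lit 3)))) ?_); rewrite [← Cfsg.Agent.KOd797159.e2]; (try delta Cfsg.Agent.OM.On.E6.rt); (try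 generalize @Cfsg.Agent.OM.On.E6.RV = g0); rfl') | exact @Cfsg.Agent.OM.On.E6.rt | exact ()
private theorem _root_.Cfsg.Agent.KOd797159.e3 : (by first | exact @Cfsg.Agent.OM.On.E6.rt = @_root_.Cfsg.Agent.KOd797159.k3 | exact True : Prop) := by first | (delta _root_.Cfsg.Agent.KOd797159.k3; exact @Subtype.property _ (fun g => @Cfsg.Agent.OM.On.E6.rt = @g) _) | rfl | trivial
private noncomputable def _root_.Cfsg.Agent.KOd797159.k5l (n : Nat) (P : ∀ k, k < n → Prop) (H : ∀ k h, Decidable (P k h)) (m : Nat) : m ≤ n → Bool := @Nat.rec (fun m => m ≤ n → Bool) (fun _ => true) (fun k ih h => @Decidable.rec (P k h) (fun _ => Bool) (fun _ => false) (fun _ => ih (Nat.le_of_succ_le h)) (H k h)) m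
private theorem _root_.Cfsg.Agent.KOd797159.k5ls (n : Nat) (P : ∀ k, k < n → Prop) (H : ∀ k h, Decidable (P k h)) (m : Nat) : ∀ h : m ≤ n, _root_.Cfsg.Agent.KOd797159.k5l n P H m h = true ↔ ∀ k (g : k < m), P k (Nat.lt_of_lt_of_le g h) := by induction m with | zero => exact fun _ => ⟨fun _ _ g => absurd g (Nat.not_lt_zero _), fun _ => rfl⟩ | succ m ih => intro h; show @Decidable.rec (P m h) (fun _ => Bool) (fun _ => false) (fun _ => _root_.Cfsg.Agent.KOd797159.k5l n P H m (Nat.le_of_succ_le h)) (H m h) = true ↔ _; cases H m h with | isFalse q => exact ⟨fun g => absurd g Bool.false_ne_true, fun g => absurd (g m (Nat.lt_succ_self m)) q⟩ | isTrue q => exact ⟨fun g k hk => (Nat.lt_succ_iff_lt_or_eq.1 hk).elim ((ih _).1 g k) fun e => by subst e; exact q, fun g => (ih _).2 fun k hk => g k (Nat.lt_succ_of_lt hk)⟩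
private noncomputable def _root_.Cfsg.Agent.KOd797159.k5 (n : Nat) (P : ∀ k, k < n → Prop) (H : ∀ k h, Decidable (P k h)) : Decidable (∀ k h, P k h) := @Bool.rec (fun b => _root_.Cfsg.Agent.KOd797159.k5l n P H n (Nat.le_refl n) = b → Decidable (∀ k h, P k h)) (fun g => isFalse fun q => Bool.false_ne_true (g.symm.trans ((_root_.Cfsg.Agent.KOd797159.k5ls n P H n _).2 fun k h => q k h))) (fun g => isTrue fun k h => (_root_.Cfsg.Agent.KOd797159.k5ls n P H n _).1 g k h) (_root_.Cfsg.Agent.KOd797159.k5l n P H n (Nat.le_refl n)) rfl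
private theorem _root_.Cfsg.Agent.KOd797159.e5 : @Nat.decidableBallLT = @_root_.Cfsg.Agent.KOd797159.k5 := funext fun _ => funext fun _ => funext fun _ => Subsingleton.elim _ _
private noncomputable def _root_.Cfsg.Agent.KOd797159.k6 : ((x0 : Prop) → ((x1 : Prop) → ((@Decidable @x0) → ((@Decidable @x1) → @Decidable (@And @x0 @x1))))) := @(fun (x0 : Prop) (x1 : Prop) (x2 : @Decidable @x0) (x3 : @Decidable @x1) => @Decidable.rec.{1} @x0 @(fun (x4 : @Decidable @x0) => @Decidable (@And @x0 @x1)) @(fun (x4 : @Not @x0) => @Decidable.isFalse (@And @x0 @x1) (@instDecidableAnd._proof_2 @x0 @x1 @x4)) @(fun (x4 : x0) => @Decidable.rec.{1} @x1 @(fun (x5 : @Decidable @x1) => @Decidable (@And @x0 @x1)) @(fun (x5 : @Not @x1) => @Decidable.isFalse (@And @x0 @x1) (@instDecidableAnd._proof_1 @x0 @x1 @x5)) @(fun (x5 : x1) => @Decidable.isTrue (@And @x0 @x1) (@And.intro @x0 @x1 @x4 @x5)) @x3) @x2)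
private theorem _root_.Cfsg.Agent.KOd797159.e6 : @instDecidableAnd = @_root_.Cfsg.Agent.KOd797159.k6 := by delta _root_.Cfsg.Agent.KOd797159.k6; rfl'
private noncomputable def _root_.Cfsg.Agent.KOd797159.k7.{ku0} : ((x0 : Sort ku0) → ((x1 : @Bool) → ((x2 : @Bool) → ((@Eq.{1} @Bool @x1 @x2) → @Bool.noConfusionType.{ku0} @x0 @x1 @x2)))) := @(fun (x0 : Sort ku0) (x1 : @Bool) (x2 : @Bool) (x3 : @Eq.{1} @Bool @x1 @x2) => @Eq.rec.{ku0, 1} @Bool @x1 @(fun (x4 : @Bool) (x5 : @Eq.{1} @Bool @x1 @x4) => @Bool.noConfusionType.{ku0} @x0 @x1 @x4) (@Bool.rec.{ku0} @(fun (x4 : @Bool) => @Bool.noConfusionType.{ku0} @x0 @x4 @x4) @(fun (x4 : x0) => x4) @(fun (x4 : x0) => x4) @x1) @x2 @x3)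
private theorem _root_.Cfsg.Agent.KOd797159.e7.{ku0} : @Bool.noConfusion.{ku0} = @_root_.Cfsg.Agent.KOd797159.k7.{ku0} := by delta _root_.Cfsg.Agent.KOd797159.k7; rfl'
private noncomputable def _root_.Cfsg.Agent.KOd797159.k8 : ((x0 : @Bool) → ((x1 : @Bool) → @Decidable (@Eq.{1} @Bool @x0 @x1))) := @(fun (x0 : @Bool) (x1 : @Bool) => @Bool.rec.{1} @(fun (x2 : @Bool) => @Decidable (@Eq.{1} @Bool @x2 @x1)) (@Bool.rec.{1} @(fun (x2 : @Bool) => @Decidable (@Eq.{1} @Bool @Bool.false @x2)) (@Decidable.isTrue (@Eq.{1} @Bool @Bool.false @Bool.false) (@rfl.{1} @Bool @Bool.false)) (@Decidable.isFalse (@Eq.{1} @Bool @Bool.false @Bool.true) @(fun (x2 : @Eq.{1} @Bool @Bool.false @Bool.true) => @Cfsg.Agent.KOd797159.k7.{0} @False @Bool.false @Bool.true @x2)) @x1) (@Bool.rec.{1} @(fun (x2 : @Bool) => @Decidable (@Eq.{1} @Bool @Bool.true @x2)) (@Decidable.isFalse (@Eq.{1} @Bool @Bool.true @Bool.false) @(fun (x2 : @Eq.{1} @Bool @Bool.true @Bool.false) => @Cfsg.Agent.KOd797159.k7.{0}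 @False @Bool.true @Bool.false @x2)) (@Decidable.isTrue (@Eq.{1} @Bool @Bool.true @Bool.true) (@rfl.{1} @Bool @Bool.true)) @x1) @x0)
private theorem _root_.Cfsg.Agent.KOd797159.e8 : @Bool.decEq = @_root_.Cfsg.Agent.KOd797159.k8 := by delta _root_.Cfsg.Agent.KOd797159.k8; rewrite [← Cfsg.Agent.KOd797159.e7.{0}]; rfl'
private noncomputable def _root_.Cfsg.Agent.KOd797159.k9 : ((x0 : @Nat) → ((x1 : @Nat) → @Decidable (@LE.le.{0} @Nat @instLENat @x0 @x1))) := @(fun (x0 : @Nat) (x1 : @Nat) => @Decidable.rec.{1} (@Eq.{1} @Bool (@Nat.ble @x0 @x1) @Bool.true) @(fun (x2 : @Decidable (@Eq.{1} @Bool (@Nat.ble @x0 @x1) @Bool.true)) => @Decidable (@LE.le.{0} @Nat @instLENat @x0 @x1)) @(fun (x2 : @Not (@Eq.{1} @Bool (@Nat.ble @x0 @x1) @Bool.true)) => @Decidable.isFalse (@LE.le.{0} @Nat @instLENat @x0 @x1) (@Nat.not_le_of_not_ble_eq_true @x0 @x1 @x2)) @(fun (x2 : @Eq.{1} @Bool (@Nat.ble @x0 @x1) @Bool.true) => @Decidable.isTrue (@LE.le.{0} @Nat @instLENat @x0 @x1) (@Nat.le_of_ble_eq_true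 @x0 @x1 @x2)) (@Cfsg.Agent.KOd797159.k8 (@Nat.ble @x0 @x1) @Bool.true))
private theorem _root_.Cfsg.Agent.KOd797159.e9 : @Nat.decLe = @_root_.Cfsg.Agent.KOd797159.k9 := by delta _root_.Cfsg.Agent.KOd797159.k9; rewrite [← Cfsg.Agent.KOd797159.e8]; rfl'
private noncomputable def _root_.Cfsg.Agent.KOd797159.k10 : ((x0 : @Nat) → ((x1 : @Nat) → @Decidable (@LT.lt.{0} @Nat @instLTNat @x0 @x1))) := @(fun (x0 : @Nat) (x1 : @Nat) => @Cfsg.Agent.KOd797159.k9 (@Nat.succ @x0) @x1)
private theorem _root_.Cfsg.Agent.KOd797159.e10 : @Nat.decLt = @_root_.Cfsg.Agent.KOd797159.k10 := by delta _root_.Cfsg.Agent.KOd797159.k10; rewrite [← Cfsg.Agent.KOd797159.e9]; rfl'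
private noncomputable def _root_.Cfsg.Agent.KOd797159.k11 : ((x0 : @Nat) → ((x1 : ((@Fin @x0) → Prop)) → ((@DecidablePred.{1} (@Fin @x0) @x1) → @Decidable ((x3 : @Fin @x0) → @x1 @x3)))) := @(fun (x0 : @Nat) (x1 : ((@Fin @x0) → Prop)) (x2 : @DecidablePred.{1} (@Fin @x0) @x1) => @Decidable.rec.{1} ((x3 : @Nat) → ((x4 : @LT.lt.{0} @Nat @instLTNat @x3 @x0) → @x1 (@Fin.mk @x0 @x3 @x4))) @(fun (x3 : @Decidable ((x3 : @Nat) → ((x4 : @LT.lt.{0} @Nat @instLTNat @x3 @x0) → @x1 (@Fin.mk @x0 @x3 @x4)))) => @Decidable ((x4 : @Fin @x0) → @x1 @x4)) @(fun (x3 : @Not ((x3 : @Nat) → ((x4 : @LT.lt.{0} @Nat @instLTNat @x3 @x0) → @x1 (@Fin.mk @x0 @x3 @x4)))) => @Decidable.isFalse ((x4 : @Fin @x0) → @x1 @x4) (@decidable_of_decidable_of_iff._proof_1 ((x4 : @Nat) → ((x5 : @LT.lt.{0} @Nat @instLTNat @x4 @x0) → @x1 (@Fin.mk @x0 @x4 @x5))) ((x4 : @Fin @x0) → @x1 @x4) (@Nat.decidableForallFin._proof_1 @x0 @x1) @x3)) @(fun (x3 : ((x3 : @Nat) → ((x4 : @LT.lt.{0} @Nat @instLTNat @x3 @x0)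 → @x1 (@Fin.mk @x0 @x3 @x4)))) => @Decidable.isTrue ((x4 : @Fin @x0) → @x1 @x4) (@Iff.mp ((x4 : @Nat) → ((x5 : @LT.lt.{0} @Nat @instLTNat @x4 @x0) → @x1 (@Fin.mk @x0 @x4 @x5))) ((x4 : @Fin @x0) → @x1 @x4) (@Nat.decidableForallFin._proof_1 @x0 @x1) @x3)) (@Cfsg.Agent.KOd797159.k5 @x0 @(fun (x3 : @Nat) (x4 : @LT.lt.{0} @Nat @instLTNat @x3 @x0) => @x1 (@Fin.mk @x0 @x3 @x4)) @(fun (x3 : @Nat) (x4 : @LT.lt.{0} @Nat @instLTNat @x3 @x0) => @x2 (@Fin.mk @x0 @x3 @x4))))
private theorem _root_.Cfsg.Agent.KOd797159.e11 : @Nat.decidableForallFin = @_root_.Cfsg.Agent.KOd797159.k11 := by delta _root_.Cfsg.Agent.KOd797159.k11; rewrite [← Cfsg.Agent.KOd797159.e5]; rfl'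
private noncomputable def _root_.Cfsg.Agent.KOd797159.k12 : ((x0 : @Nat) → ((x1 : @Nat) → @Decidable (@Eq.{1} @Nat @x0 @x1))) := @(fun (x0 : @Nat) (x1 : @Nat) => @Bool.rec.{1} @(fun (x2 : @Bool) => ((@Eq.{1} @Bool (@Nat.beq @x0 @x1) @x2) → @Decidable (@Eq.{1} @Nat @x0 @x1))) @(fun (x2 : @Eq.{1} @Bool (@Nat.beq @x0 @x1) @Bool.false) => @Decidable.isFalse (@Eq.{1} @Nat @x0 @x1) (@Nat.ne_of_beq_eq_false @x0 @x1 @x2)) @(fun (x2 : @Eq.{1} @Bool (@Nat.beq @x0 @x1) @Bool.true) => @Decidable.isTrue (@Eq.{1} @Nat @x0 @x1) (@Nat.eq_of_beq_eq_true @x0 @x1 @x2)) (@Nat.beq @x0 @x1) (@Eq.refl.{1} @Bool (@Nat.beq @x0 @x1)))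
private theorem _root_.Cfsg.Agent.KOd797159.e12 : @Nat.decEq = @_root_.Cfsg.Agent.KOd797159.k12 := by delta _root_.Cfsg.Agent.KOd797159.k12; rfl'
private noncomputable def _root_.Cfsg.Agent.KOd797159.k13 : ((x0 : @Int) → ((x1 : @Int) → @Decidable (@Eq.{1} @Int @x0 @x1))) := @(fun (x0 : @Int) (x1 : @Int) => @Int.rec.{1} @(fun (x2 : @Int) => @Decidable (@Eq.{1} @Int @x2 @x1)) @(fun (x2 : @Nat) => @Int.rec.{1} @(fun (x3 : @Int) => @Decidable (@Eq.{1} @Int (@Int.ofNat @x2) @x3)) @(fun (x3 : @Nat) => @Decidable.rec.{1} (@Eq.{1} @Nat @x2 @x3) @(fun (x4 : @Decidable (@Eq.{1} @Nat @x2 @x3)) => @Decidable (@Eq.{1} @Int (@Int.ofNat @x2) (@Int.ofNat @x3))) @(fun (x4 : @Not (@Eq.{1} @Nat @x2 @x3)) => @Decidable.isFalse (@Eq.{1} @Int (@Int.ofNat @x2) (@Int.ofNat @x3)) (@Int.decEq._proof_2 @x2 @x3 @x4)) @(fun (x4 : @Eq.{1} @Nat @x2 @x3) => @Decidable.isTrue (@Eq.{1} @Int (@Int.ofNat @x2) (@Int.ofNat @x3)) (@Int.decEq._proof_1 @x2 @x3 @x4)) (@Cfsg.Agent.KOd797159.k12 @x2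 @x3)) @(fun (x3 : @Nat) => @Decidable.isFalse (@Eq.{1} @Int (@Int.ofNat @x2) (@Int.negSucc @x3)) (@Int.decEq._proof_3 @x2 @x3)) @x1) @(fun (x2 : @Nat) => @Int.rec.{1} @(fun (x3 : @Int) => @Decidable (@Eq.{1} @Int (@Int.negSucc @x2) @x3)) @(fun (x3 : @Nat) => @Decidable.isFalse (@Eq.{1} @Int (@Int.negSucc @x2) (@Int.ofNat @x3)) (@Int.decEq._proof_4 @x2 @x3)) @(fun (x3 : @Nat) => @Decidable.rec.{1} (@Eq.{1} @Nat @x2 @x3) @(fun (x4 : @Decidable (@Eq.{1} @Nat @x2 @x3)) => @Decidable (@Eq.{1} @Int (@Int.negSucc @x2) (@Int.negSucc @x3))) @(fun (x4 : @Not (@Eq.{1} @Nat @x2 @x3)) => @Decidable.isFalse (@Eq.{1} @Int (@Int.negSucc @x2) (@Int.negSucc @x3)) (@Int.decEq._proof_6 @x2 @x3 @x4)) @(fun (x4 : @Eq.{1} @Nat @x2 @x3) => @Decidable.isTrue (@Eq.{1} @Int (@Int.negSucc @x2) (@Int.negSucc @x3)) (@Int.decEq._proof_5 @x2 @x3 @x4)) (@Cfsg.Agent.KOd797159.k12 @x2 @x3)) @x1) @x0)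
private theorem _root_.Cfsg.Agent.KOd797159.e13 : @Int.decEq = @_root_.Cfsg.Agent.KOd797159.k13 := by delta _root_.Cfsg.Agent.KOd797159.k13; rewrite [← Cfsg.Agent.KOd797159.e12]; rfl'
private noncomputable def _root_.Cfsg.Agent.KOd797159.k14 : @DecidableEq.{1} @Int := @Cfsg.Agent.KOd797159.k13
private theorem _root_.Cfsg.Agent.KOd797159.e14 : @Int.instDecidableEq = @_root_.Cfsg.Agent.KOd797159.k14 := by delta _root_.Cfsg.Agent.KOd797159.k14; rewrite [← Cfsg.Agent.KOd797159.e13]; rfl'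

private noncomputable def _root_.Cfsg.Agent.LsF.f3ad45b_0 : {f // @Cfsg.Agent.OM.On.E6.ip = f} := ⟨_, by first | (delta Cfsg.Agent.OM.On.E6.ip; rewrite [Cfsg.Agent.LsF.iadd_pat, Cfsg.Agent.LsF.imul_pat, Cfsg.Agent.LsF.isub_pat]; exact rfl) | exact rfl⟩
theorem b1 : ∀ t < 36, ∀ u < 72, a1 t u < 72 ∧ ∀ j, rt (a1 t u) j = rt u j - ip (rt t) (rt u) * rt t j := by (refine of_decide_eq_true ?_; rewrite [Cfsg.Agent.KOd797159.e0, Cfsg.Agent.KOd797159.e1, Cfsg.Agent.KOd797159.e3, Cfsg.Agent.KOd797159.e5, Cfsg.Agent.KOd797159.e6, Cfsg.Agent.KOd797159.e10, Cfsg.Agent.KOd797159.e11, Cfsg.Agent.KOd797159.e14]; ((try (rewrite [Cfsg.Agent.LsF.f3ad45b_0.2, Cfsg.Agent.LsF.imul_pat, Cfsg.Agent.LsF.isub_pat])); decide +kernel))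

private noncomputable def _root_.Cfsg.Agent.KOd797159.k15.{ku0} : ((x0 : Sort ku0) → ((x1 : Prop) → ((@Decidable @x1) → (x0 → (x0 → x0))))) := @(fun (x0 : Sort ku0) (x1 : Prop) (x2 : @Decidable @x1) (x3 : x0) (x4 : x0) => @Decidable.rec.{ku0} @x1 @(fun (x5 : @Decidable @x1) => x0) @(fun (x5 : @Not @x1) => x4) @(fun (x5 : x1) => x3) @x2)
private theorem _root_.Cfsg.Agent.KOd797159.e15.{ku0} : @ite.{ku0} = @_root_.Cfsg.Agent.KOd797159.k15.{ku0} := by delta _root_.Cfsg.Agent.KOd797159.k15; rfl'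
private noncomputable def _root_.Cfsg.Agent.KOd797159.k16 : ((x0 : @Nat) → @DecidableEq.{1} (@Fin @x0)) := @(fun (x0 : @Nat) (x1 : @Fin @x0) (x2 : @Fin @x0) => @Decidable.rec.{1} (@Eq.{1} @Nat (@Fin.val @x0 @x1) (@Fin.val @x0 @x2)) @(fun (x3 : @Decidable (@Eq.{1} @Nat (@Fin.val @x0 @x1) (@Fin.val @x0 @x2))) => @Decidable (@Eq.{1} (@Fin @x0) @x1 @x2)) @(fun (x3 : @Not (@Eq.{1} @Nat (@Fin.val @x0 @x1) (@Fin.val @x0 @x2))) => @Decidable.isFalse (@Eq.{1} (@Fin @x0) @x1 @x2) (@instDecidableEqFin._proof_1 @x0 @x1 @x2 @x3)) @(fun (x3 : @Eq.{1} @Nat (@Fin.val @x0 @x1) (@Fin.val @x0 @x2)) => @Decidable.isTrue (@Eq.{1} (@Fin @x0) @x1 @x2) (@Fin.eq_of_val_eq @x0 @x1 @x2 @x3)) (@Cfsg.Agent.KOd797159.k12 (@Fin.val @x0 @x1) (@Fin.val @x0 @x2)))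
private theorem _root_.Cfsg.Agent.KOd797159.e16 : @instDecidableEqFin = @_root_.Cfsg.Agent.KOd797159.k16 := by delta _root_.Cfsg.Agent.KOd797159.k16; rewrite [← Cfsg.Agent.KOd797159.e12]; rfl'
private noncomputable def _root_.Cfsg.Agent.KOd797159.k17 : ((x0 : Prop) → ((x1 : Prop) → ((@Decidable @x0) → ((@Decidable @x1) → @Decidable (@Or @x0 @x1))))) := @(fun (x0 : Prop) (x1 : Prop) (x2 : @Decidable @x0) (x3 : @Decidable @x1) => @Decidable.rec.{1} @x0 @(fun (x4 : @Decidable @x0) => @Decidable (@Or @x0 @x1)) @(fun (x4 : @Not @x0) => @Decidable.rec.{1} @x1 @(fun (x5 : @Decidable @x1) => @Decidable (@Or @x0 @x1)) @(fun (x5 : @Not @x1) => @Decidable.isFalse (@Or @x0 @x1) (@instDecidableOr._proof_1 @x0 @x1 @x4 @x5)) @(fun (x5 : x1) => @Decidable.isTrue (@Or @x0 @x1) (@Or.inr @x0 @x1 @x5)) @x3) @(fun (x4 : x0) => @Decidable.isTrue (@Or @x0 @x1) (@Or.inl @x0 @x1 @x4)) @x2)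
private theorem _root_.Cfsg.Agent.KOd797159.e17 : @instDecidableOr = @_root_.Cfsg.Agent.KOd797159.k17 := by delta _root_.Cfsg.Agent.KOd797159.k17; rfl'
private theorem _root_.Cfsg.Agent.KOd797159.e18.{ku} {M : Nat → Sort ku} (φ : ∀ n, M n) {z : M Nat.zero} {s : ∀ n, M n → M (Nat.succ n)} (h0 : φ Nat.zero = z) (hs : ∀ n, φ (Nat.succ n) = s n (φ n)) (n : Nat) : φ n = @Nat.rec M z s n := Nat.rec h0 (fun n ih => (hs n).trans (congrArg (s n) ih)) n
private noncomputable def _root_.Cfsg.Agent.KOd797159.k19 : ((x0 : (@Nat → Prop)) → ((@DecidablePred.{1} @Nat @x0) → @DecidablePred.{1} @Nat @(fun (x2 : @Nat) => @_root_.Exists.{1} @Nat @(fun (x3 : @Nat) => @And (@LT.lt.{0} @Nat @instLTNat @x3 @x2) (@x0 @x3))))) := @(fun (x0 : (@Nat → Prop)) (x1 : @DecidablePred.{1} @Nat @x0) (x2 : @Nat) => @Nat.rec.{1} @(fun (x3 : @Nat) => @Decidable (@_root_.Exists.{1} @Nat @(fun (x4 : @Nat) => @And (@LT.lt.{0} @Nat @instLTNat @x4 @x3) (@x0 @x4)))) (@Decidable.isFalse (@_root_.Exists.{1}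 @Nat @(fun (x3 : @Nat) => @And (@LT.lt.{0} @Nat @instLTNat @x3 (@OfNat.ofNat.{0} @Nat (nat_lit 0) (@instOfNatNat (nat_lit 0)))) (@x0 @x3))) (@Nat.decidableExistsLT._proof_5 @x0)) @(fun (x3 : @Nat) (x4 : @Decidable (@_root_.Exists.{1} @Nat @(fun (x4 : @Nat) => @And (@LT.lt.{0} @Nat @instLTNat @x4 @x3) (@x0 @x4)))) => @Decidable.rec.{1} (@Or (@_root_.Exists.{1} @Nat @(fun (x5 : @Nat) => @And (@LT.lt.{0} @Nat @instLTNat @x5 @x3) (@x0 @x5))) (@x0 @x3)) @(fun (x5 : @Decidable (@Or (@_root_.Exists.{1} @Nat @(fun (x5 : @Nat) => @And (@LT.lt.{0} @Nat @instLTNat @x5 @x3) (@x0 @x5))) (@x0 @x3))) => @Decidable (@_root_.Exists.{1} @Nat @(fun (x6 : @Nat) => @And (@LT.lt.{0} @Nat @instLTNat @x6 (@HAdd.hAdd.{0, 0, 0} @Nat @Nat @Nat (@instHAdd.{0} @Nat @instAddNat) @x3 (@OfNat.ofNat.{0} @Nat (nat_lit 1) (@instOfNatNat (nat_lit 1))))) (@x0 @x6)))) @(fun (x5 : @Not (@Or (@_root_.Exists.{1} @Nat @(fun (x5 : @Nat) => @And (@LT.lt.{0} @Nat @instLTNat @x5 @x3) (@x0 @x5))) (@x0 @x3)))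 => @Decidable.isFalse (@_root_.Exists.{1} @Nat @(fun (x6 : @Nat) => @And (@LT.lt.{0} @Nat @instLTNat @x6 (@HAdd.hAdd.{0, 0, 0} @Nat @Nat @Nat (@instHAdd.{0} @Nat @instAddNat) @x3 (@OfNat.ofNat.{0} @Nat (nat_lit 1) (@instOfNatNat (nat_lit 1))))) (@x0 @x6))) (@decidable_of_decidable_of_iff._proof_1 (@Or (@_root_.Exists.{1} @Nat @(fun (x6 : @Nat) => @And (@LT.lt.{0} @Nat @instLTNat @x6 @x3) (@x0 @x6))) (@x0 @x3)) (@_root_.Exists.{1} @Nat @(fun (x6 : @Nat) => @And (@LT.lt.{0} @Nat @instLTNat @x6 (@HAdd.hAdd.{0, 0, 0} @Nat @Nat @Nat (@instHAdd.{0} @Nat @instAddNat) @x3 (@OfNat.ofNat.{0} @Nat (nat_lit 1) (@instOfNatNat (nat_lit 1))))) (@x0 @x6))) (@Nat.decidableExistsLT._proof_10 @x0 @x3) @x5)) @(fun (x5 : @Or (@_root_.Exists.{1} @Nat @(fun (x5 : @Nat) => @And (@LT.lt.{0} @Nat @instLTNat @x5 @x3) (@x0 @x5))) (@x0 @x3)) => @Decidable.isTrue (@_root_.Exists.{1} @Nat @(fun (x6 : @Nat) => @And (@LT.lt.{0} @Nat @instLTNat @x6 (@HAdd.hAdd.{0, 0, 0} @Nat @Nat @Nat (@instHAdd.{0}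 @Nat @instAddNat) @x3 (@OfNat.ofNat.{0} @Nat (nat_lit 1) (@instOfNatNat (nat_lit 1))))) (@x0 @x6))) (@Iff.mp (@Or (@_root_.Exists.{1} @Nat @(fun (x6 : @Nat) => @And (@LT.lt.{0} @Nat @instLTNat @x6 @x3) (@x0 @x6))) (@x0 @x3)) (@_root_.Exists.{1} @Nat @(fun (x6 : @Nat) => @And (@LT.lt.{0} @Nat @instLTNat @x6 (@HAdd.hAdd.{0, 0, 0} @Nat @Nat @Nat (@instHAdd.{0} @Nat @instAddNat) @x3 (@OfNat.ofNat.{0} @Nat (nat_lit 1) (@instOfNatNat (nat_lit 1))))) (@x0 @x6))) (@Nat.decidableExistsLT._proof_10 @x0 @x3) @x5)) (@Cfsg.Agent.KOd797159.k17 (@_root_.Exists.{1} @Nat @(fun (x5 : @Nat) => @And (@LT.lt.{0} @Nat @instLTNat @x5 @x3) (@x0 @x5))) (@x0 @x3) @x4 (@x1 @x3))) @x2)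
private theorem _root_.Cfsg.Agent.KOd797159.e19 : @Nat.decidableExistsLT = @_root_.Cfsg.Agent.KOd797159.k19 := by delta _root_.Cfsg.Agent.KOd797159.k19; rewrite [← Cfsg.Agent.KOd797159.e17]; funext a0 a1 a2; refine (_root_.Cfsg.Agent.KOd797159.e18 (fun a2 => @Nat.decidableExistsLT a0 a1 a2) ?_ (fun c0 => ?_) a2 :) <;> (rfl')
private noncomputable def _root_.Cfsg.Agent.KOd797159.k20 : @DecidableEq.{1} @Nat := @Cfsg.Agent.KOd797159.k12
private theorem _root_.Cfsg.Agent.KOd797159.e20 : @instDecidableEqNat = @_root_.Cfsg.Agent.KOd797159.k20 := by delta _root_.Cfsg.Agent.KOd797159.k20; rewrite [← Cfsg.Agent.KOd797159.e12]; rfl'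
private noncomputable def _root_.Cfsg.Agent.KOd797159.k21 : ((x0 : Prop) → ((x1 : (x0 → Prop)) → ((@Decidable @x0) → (((x3 : x0) → @Decidable (@x1 @x3)) → @Decidable ((x4 : x0) → @x1 @x4))))) := @(fun (x0 : Prop) (x1 : (x0 → Prop)) (x2 : @Decidable @x0) (x3 : ((x3 : x0) → @Decidable (@x1 @x3))) => @Decidable.rec.{1} @x0 @(fun (x4 : @Decidable @x0) => @Decidable ((x5 : x0) → @x1 @x5)) @(fun (x4 : @Not @x0) => @Decidable.isTrue ((x5 : x0) → @x1 @x5) (@forall_prop_decidable._proof_2 @x0 @x1 @x4)) @(fun (x4 : x0) => @Decidable.rec.{1} (@x1 @x4) @(fun (x5 : @Decidable (@x1 @x4)) => @Decidable ((x6 : x0) → @x1 @x6)) @(fun (x5 : @Not (@x1 @x4)) => @Decidable.isFalse ((x6 : x0) → @x1 @x6) (@decidable_of_decidable_of_iff._proof_1 (@x1 @x4) ((x6 : x0) → @x1 @x6) (@forall_prop_decidable._proof_1 @x0 @x1 @x4) @x5)) @(fun (x5 : @x1 @x4) => @Decidable.isTrue ((x6 : x0) → @x1 @x6) (@Iff.mp (@x1 @x4) ((x6 : x0) → @x1 @x6) (@forall_prop_decidable._proof_1 @x0 @x1 @x4) @x5))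 (@x3 @x4)) @x2)
private theorem _root_.Cfsg.Agent.KOd797159.e21 : @forall_prop_decidable = @_root_.Cfsg.Agent.KOd797159.k21 := by delta _root_.Cfsg.Agent.KOd797159.k21; rfl'

theorem b2 : (∀ i j : Fin 6, rt i j = if j = i then 1 else 0) ∧ (∀ u < 72, u < 6 ∨ ∃ t < u, t < 36 ∧ ∃ v < u, a1 t v = u) ∧
    (∀ u < 72, ∀ v < 72, (∀ j, rt u j = rt v j) → u = v) ∧ (∀ t < 36, ∀ j, rt (t + 36) j = -rt t j) ∧
    ∀ t < 36, ∀ t' < 36, a1 t t = a1 t' t → t = t' := by (first | (refine of_decide_eq_true ?_; rewrite [Cfsg.Agent.KOd797159.e0, Cfsg.Agent.KOd797159.e3, Cfsg.Agent.KOd797159.e15.{1}, Cfsg.Agent.KOd797159.e16, Cfsg.Agent.KOd797159.e1, Cfsg.Agent.KOd797159.e6, Cfsg.Agent.KOd797159.e11, Cfsg.Agent.KOd797159.e14, Cfsg.Agent.KOd797159.e5, Cfsg.Agent.KOd797159.e17, Cfsg.Agent.KOd797159.e10, Cfsg.Agent.KOd797159.e19, Cfsg.Agent.KOd797159.e20, Cfsg.Agent.KOd797159.e21]; decide +kernel) | decide +kernel)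

theorem rt_single (i : Fin 6) : rt i = Pi.single i 1 := funext fun j => (b2.1 i j).trans (Pi.single_apply i (1 : ℤ) j).symm

theorem pr_sp (i : Fin 6) : pr i = sp C6 i := by
  refine Prod.ext (funext fun j => ?_) (rt_single i)
  show (rt i ᵥ* C6) j = C6 j i
  rw [rt_single, single_one_vecMul]
  revert i j
  decide +kernel

theorem ro_rt (t : ℕ) {u : ℕ} (hu : u < 72) : a1 t u < 72 ∧ ro t *ᵥ rt u = rt (a1 t u) := by
  have h := b1 (t % 36) (Nat.mod_lt _ (by decide)) u hu
  rw [show a1 (t % 36) u = a1 t u by rw [a1, a1, Nat.mod_mod]] at h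
  exact ⟨h.1, funext fun j => by rw [ro, rfm_mulVec, h.2 j, pr, ip_eq]; rfl⟩

theorem mt_cons (t : ℕ) (w : List ℕ) : mt (t :: w) = ro t * mt w := List.prod_cons

theorem mt_append (w w' : List ℕ) : mt (w ++ w') = mt w * mt w' := by rw [mt, List.map_append, List.prod_append]; rfl

theorem mt_rt (w : List ℕ) {u : ℕ} (hu : u < 72) : ac w u < 72 ∧ mt w *ᵥ rt u = rt (ac w u) := by
  induction w with
  | nil => exact ⟨hu, one_mulVec _⟩
  | cons t w ih => exact ⟨(ro_rt t ih.1).1, by rw [mt_cons, ← mulVec_mulVec, ih.2]; exact (ro_rt t ih.1).2⟩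

/-- equal words -/
def eqw (w w' : List ℕ) : Prop := ∀ i < 6, ac w i = ac w' i

instance (w w' : List ℕ) : Decidable (eqw w w') := Nat.decidableBallLT _ _

theorem eqw.mt {w w' : List ℕ} (h : eqw w w') : mt w = mt w' := ext_of_mulVec_single fun i => by
  rw [← rt_single, (mt_rt w (i.2.trans (by decide))).2, (mt_rt w' (i.2.trans (by decide))).2, h i i.2]

theorem fst_eq {a : Vec (Fin 6) × Vec (Fin 6)} (ha : a ∈ Rc C6) : a.1 = a.2 ᵥ* C6 := by
  obtain ⟨w, hw, i, h1, h2⟩ := ha
  obtain ⟨u, -, -, h3⟩ := rs6.inv w hw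
  have h4 : ∀ β γ, fm C6 ![1, 1, 1, 1, 1, 1] β γ = (β ᵥ* C6) ⬝ᵥ γ := fun β γ => by
    rw [rs6.comm, dotProduct_comm]
    simp [fm, dotProduct, Fin.sum_univ_six]
  refine dotProduct_eq_iff.1 fun v => ?_
  rw [← one_mulVec v, ← h3, ← mulVec_mulVec, ← h4, ← h1, rs6.iso w hw, h4, dotProduct_mulVec, h2, ← pr_sp]
  rfl

theorem eq_pr {a : Vec (Fin 6) × Vec (Fin 6)} (ha : a ∈ Rc C6) {u : ℕ} (h : a.2 = rt u) : a = pr u :=
  Prod.ext ((fst_eq ha).trans (congrArg (· ᵥ* C6) h)) h

theorem pr_mem {u : ℕ} (hu : u < 72) : pr u ∈ Rc C6 := by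
  induction u using Nat.strong_induction_on with
  | _ u ih =>
    rcases b2.2.1 u hu with h | ⟨t, h1, h2, v, h3, rfl⟩
    · exact (pr_sp ⟨u, h⟩).symm ▸ rs6.mem _
    · obtain ⟨b, hb, h4, -⟩ := rs6.nm _ (rs6.ww ▸ rfm_mem (ih t h1 (h1.trans hu))) _ (ih v h3 (h3.trans hu))
      have h5 := (ro_rt t (h3.trans hu)).2
      rw [ro, Nat.mod_eq_of_lt h2] at h5
      exact eq_pr hb (h4.symm.trans h5) ▸ hb

theorem ro_mem (t : ℕ) : ro t ∈ WW (Rc C6) := rfm_mem (pr_mem ((Nat.mod_lt _ (by decide)).trans (by decide)))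

theorem mt_mem (w : List ℕ) : mt w ∈ WW (Rc C6) := list_prod_mem fun _ h => let ⟨t, _, e⟩ := List.mem_map.1 h; e ▸ ro_mem t

theorem ro_sp (i : Fin 6) : ro i = rfm (sp C6 i) := by rw [ro, Nat.mod_eq_of_lt (i.2.trans (by decide)), pr_sp]

theorem mem_Rc {a : Vec (Fin 6) × Vec (Fin 6)} (ha : a ∈ Rc C6) : ∃ u < 72, a = pr u := by
  have key : ∀ w ∈ Wc C6, ∀ u < 72, ∃ v < 72, w *ᵥ rt u = rt v := fun w hw => by
    induction hw using Submonoid.closure_induction with
    | mem x hx =>
      obtain ⟨_, ⟨i, rfl⟩, rfl⟩ := hx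
      exact fun u hu => ⟨_, (ro_rt i hu).1, ro_sp i ▸ (ro_rt i hu).2⟩
    | one => exact fun u hu => ⟨u, hu, one_mulVec _⟩
    | mul x y _ _ hx hy =>
      intro u hu
      obtain ⟨v, h1, h2⟩ := hy u hu
      rw [← mulVec_mulVec, h2]
      exact hx v h1
  obtain ⟨w, hw, i, h1, -⟩ := id ha
  obtain ⟨v, h2, h3⟩ := key w hw i (i.2.trans (by decide))
  exact ⟨v, h2, eq_pr ha (h1.symm.trans ((congrArg _ (rt_single i).symm).trans h3))⟩

theorem rfm_pr {u : ℕ} (hu : u < 72) : rfm (pr u) = ro u := by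
  rcases lt_or_ge u 36 with h | h
  · rw [ro, Nat.mod_eq_of_lt h]
  · obtain ⟨t, rfl⟩ := Nat.exists_eq_add_of_le' h
    have h1 : rt (t + 36) = -rt t := funext (b2.2.2.2.1 t (by omega))
    rw [ro, Nat.add_mod_right, Nat.mod_eq_of_lt (by omega), ← rfm_neg (pr t), pr, h1, neg_vecMul]
    rfl

/-- the subsystem of a list of positive roots -/
def Zs (zl : List ℕ) : RS (Fin 6) := {a | ∃ u < 72, u % 36 ∈ zl ∧ a = pr u}

/-- a closed list -/
def ZOk (zl : List ℕ) : Prop := zl.Nodup ∧ ∀ t ∈ zl, t < 36 ∧ ∀ u < 72, u % 36 ∈ zl → a1 t u % 36 ∈ zl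

instance (zl : List ℕ) : Decidable (ZOk zl) := by unfold ZOk; infer_instance

theorem Zs_sub (zl : List ℕ) : Zs zl ⊆ Rc C6 := fun _ ⟨_, h, _, e⟩ => e ▸ pr_mem h

variable {zl : List ℕ}

theorem ro_Z {t : ℕ} (h : t % 36 ∈ zl) : ro t ∈ WW (Zs zl) :=
  rfm_mem ⟨_, (Nat.mod_lt _ (by decide)).trans (by decide), by rwa [Nat.mod_mod], rfl⟩

theorem ZOk.mod (h : ZOk zl) {t : ℕ} (ht : t ∈ zl) : t % 36 ∈ zl := by rwa [Nat.mod_eq_of_lt (h.2 t ht).1]

theorem ZOk.mt (h : ZOk zl) {w : List ℕ} (hw : ∀ t ∈ w, t ∈ zl) : mt w ∈ WW (Zs zl) :=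
  list_prod_mem fun _ k => let ⟨t, ht, e⟩ := List.mem_map.1 k; e ▸ ro_Z (h.mod (hw t ht))

theorem ZOk.nm (h : ZOk zl) {w : Mat (Fin 6)} (hw : w ∈ WW (Zs zl)) : Nm w (Zs zl) := by
  refine Nm.of_WW ?_ hw
  rintro _ ⟨t, ht, h1, rfl⟩ _ ⟨u, hu, h2, rfl⟩
  obtain ⟨b, hb, h3, h4⟩ := rs6.nm _ (rs6.ww ▸ rfm_mem (pr_mem ht)) _ (pr_mem hu)
  refine ⟨b, ⟨_, (ro_rt t hu).1, ?_, eq_pr hb (h3.symm.trans (rfm_pr ht ▸ (ro_rt t hu).2))⟩, h3, h4⟩
  have h5 := (h.2 _ h1).2 u hu h2
  rwa [a1, Nat.mod_mod] at h5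

theorem two_Z {a : Vec (Fin 6) × Vec (Fin 6)} (ha : a ∈ Zs zl) : a.1 ⬝ᵥ a.2 = 2 := rs6.two a (Zs_sub zl ha)

theorem ZOk.sum (h : ZOk zl) (g : Mat (Fin 6) → ℂ) : ∑ᶠ ρ ∈ rfm '' Zs zl, g ρ = (zl.map fun t => g (ro t)).sum := by
  have h1 : rfm '' Zs zl = ro '' (zl.toFinset : Set ℕ) := by
    ext ρ
    constructor
    · rintro ⟨_, ⟨u, hu, h1, rfl⟩, rfl⟩
      exact ⟨u % 36, mem_coe.2 (List.mem_toFinset.2 h1), by rw [rfm_pr hu, ro, ro, Nat.mod_mod]⟩
    · rintro ⟨t, ht, rfl⟩
      exact ⟨_, ⟨_, (Nat.mod_lt _ (by decide)).trans (by decide), by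
        rw [Nat.mod_mod]; exact h.mod (List.mem_toFinset.1 (mem_coe.1 ht)), rfl⟩, rfl⟩
  rw [h1, finsum_mem_image, finsum_mem_coe_finset, List.sum_toFinset _ h.1]
  intro t ht t' ht' e
  have h2 := (h.2 t (List.mem_toFinset.1 (mem_coe.1 ht))).1
  have h3 := (h.2 t' (List.mem_toFinset.1 (mem_coe.1 ht'))).1
  have h4 : t < 72 := h2.trans (by decide)
  exact b2.2.2.2.2 t h2 t' h3 (b2.2.2.1 _ (ro_rt t h4).1 _ (ro_rt t' h4).1
    (congrFun ((ro_rt t h4).2.symm.trans (e ▸ (ro_rt t' h4).2))))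

theorem co_one {A : Mat (Fin 6)} (h : A ∈ WW (Rc C6)) : Co (Rc C6) 1 A := ⟨A, h, (mul_one _).symm⟩

theorem Hz.conj {f : Mat (Fin 6) → ℂ} (h : Hz (Rc C6) (Zs zl) 1 f) {u X A : Mat (Fin 6)} (hu : u ∈ WW (Zs zl))
    (hX : X ∈ WW (Rc C6)) (e : X * u = u * A) : f X = f A := by
  obtain ⟨v, hv, a1, a2⟩ := WW_inv (fun _ => two_Z) hu
  have := h.cj u hu (v * X) (co_one (mul_mem (WW_mono (Zs_sub zl) hv) hX))
  rwa [← mul_assoc, a2, one_mul, mul_assoc, e, ← mul_assoc, a1, one_mul] at this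

/-! ### the tables -/

def dec : ℕ → ℕ → List ℕ
  | 0, _ => []
  | f + 1, w => if w = 0 then [] else (w % 64 - 1) :: dec f (w / 64)

/-- the word with the code `w` -/
def dc (w : ℕ) : List ℕ := dec 12 w

def vx (x : ℕ) (j : Fin 6) : ℤ := ((x >>> (8 * (j : ℕ)) % 256 : ℕ) : ℤ) - 128

def av (w : List ℕ) (x : Fin 6 → ℤ) (j : Fin 6) : ℤ := ∑ i : Fin 6, x i * rt (ac w i) j

theorem av_eq (w : List ℕ) (x : Fin 6 → ℤ) : mt w *ᵥ x = av w x := _root_.funext fun j => by
  show ∑ i, mt w j i * x i = _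
  refine sum_congr rfl fun i _ => ?_
  rw [← congrFun (mt_rt w (i.2.trans (by decide))).2 j, rt_single, mulVec_single_one, mul_comm]
  rfl

/-- `x` is killed by the cyclotomic polynomial of index `3 ^ k` -/
def Wit (k : ℕ) (w : List ℕ) (x : Fin 6 → ℤ) : Prop := (∃ j, x j ≠ 0) ∧ (k = 0 ∧ (∀ j, av w x j - x j = 0) ∨
  k = 1 ∧ (∀ j, x j + av w x j + av (w ++ w) x j = 0) ∨
  k = 2 ∧ ∀ j, x j + av (w ++ w ++ w) x j + av (w ++ w ++ w ++ (w ++ w ++ w)) x j = 0)

instance (k : ℕ) (w : List ℕ) (x : Fin 6 → ℤ) : Decidable (Wit k w x) := by unfold Wit; infer_instance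

theorem Wit.eig {k : ℕ} {w : List ℕ} {x : Fin 6 → ℤ} (h : Wit k w x) {μ : ℂ} (hμ : IsPrimitiveRoot μ (3 ^ k)) :
    Eig (Rc C6) (mt w) μ := by
  obtain ⟨y, h0, h1⟩ := eig_all (A := mt w) (v := x) (by positivity) (Function.ne_iff.2 h.1) (by
    rcases h.2 with ⟨rfl, h'⟩ | ⟨rfl, h'⟩ | ⟨rfl, h'⟩
    · rw [pow_zero, cyclotomic_one, map_sub, aeval_X, map_one, sub_mulVec, one_mulVec, av_eq]
      exact _root_.funext h'
    · rw [show 3 ^ 1 = 3 ^ (0 + 1) from rfl, cyclotomic_prime_pow_eq_geom_sum Nat.prime_three]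
      simp only [sum_range_succ, range_zero, sum_empty, zero_add, pow_zero, pow_one, map_add, map_one, sq, map_mul, aeval_X,
        add_mulVec, one_mulVec, ← mt_append, av_eq]
      exact _root_.funext h'
    · rw [show 3 ^ 2 = 3 ^ (1 + 1) from rfl, cyclotomic_prime_pow_eq_geom_sum Nat.prime_three]
      simp only [sum_range_succ, range_zero, sum_empty, zero_add, pow_zero, pow_one, map_add, map_one, pow_succ, one_mul, map_mul,
        aeval_X, add_mulVec, one_mulVec, ← mt_append, av_eq]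
      exact _root_.funext h') hμ
  exact ⟨y, h1, by_contra fun e => h0 (rs6.topC y fun a ha => by_contra fun e' => e ⟨a, ha, e'⟩)⟩

/-- the classes of one coset -/
structure Tb where
  K : ℕ
  cw : List ℕ
  rows : List (List ℕ)
  wt : List (List ℕ)
  ce : List (List (List (ℕ × ℤ)))

namespace Tb

variable (T : Tb)

def a (i : ℕ) : List ℕ := dc (T.cw.getD i 0)

def w (k i : ℕ) : ℕ := (T.wt.getD k []).getD i 0

def ent (zl : List ℕ) (i t x : ℕ) : Prop :=
  x % 32 < T.K ∧ (∀ s ∈ dc (x / 32), s ∈ zl) ∧ eqw (dc (x / 32) ++ t :: T.a i) (T.a (x % 32) ++ dc (x / 32))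

instance (zl : List ℕ) (i t x : ℕ) : Decidable (T.ent zl i t x) := by unfold ent; infer_instance

def cnt (i j : ℕ) : ℕ := ((T.rows.getD i []).map (· % 32)).count j

def cf (c : List (ℕ × ℤ)) (j : ℕ) : ℤ := (c.map fun (p : ℕ × ℤ) => p.2 * (T.cnt p.1 j : ℤ)).sum

/-- the classes which miss the two eigenvalues different from `3 ^ m` are killed -/
def CeOk (m : ℕ) : Prop := ∀ g < T.K, (∃ k < 3, k ≠ m ∧ T.w k g ≠ 0) ∨
  (∀ p ∈ (T.ce.getD m []).getD g [], p.1 < T.K) ∧ T.cf ((T.ce.getD m []).getD g []) g ≠ 0 ∧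
    ∀ j < T.K, j = g ∨ (∃ k < 3, k ≠ m ∧ T.w k j ≠ 0) ∨ T.cf ((T.ce.getD m []).getD g []) j = 0

instance (m : ℕ) : Decidable (T.CeOk m) := by unfold CeOk; infer_instance

def Ok (zl : List ℕ) : Prop := 0 < T.K ∧ (∀ i < T.K, List.Forall₂ (T.ent zl i) zl (T.rows.getD i [])) ∧
  (∀ k < 3, ∀ i < T.K, T.w k i = 0 ∨ Wit k (T.a i) (vx (T.w k i))) ∧ ∀ m < 3, T.CeOk m

instance (zl : List ℕ) : Decidable (T.Ok zl) := by unfold Ok; infer_instance

variable {T} {f : Mat (Fin 6) → ℂ}

theorem ent.eq {i t x : ℕ} (h : T.ent zl i t x) : mt (T.a (x % 32)) * mt (dc (x / 32)) = mt (dc (x / 32)) * (ro t * mt (T.a i)) := by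
  rw [← mt_append, ← h.2.2.mt, mt_append, mt_cons]

theorem closure (hZ : ZOk zl) (H : T.Ok zl) {w : Mat (Fin 6)} (hw : w ∈ WW (Zs zl)) :
    ∃ i < T.K, ∃ g ∈ WW (Zs zl), mt (T.a i) * g = g * (w * mt (T.a 0)) := by
  induction hw using Submonoid.closure_induction_left with
  | one => exact ⟨0, H.1, 1, one_mem _, by rw [mul_one, one_mul, one_mul]⟩
  | mul_left x hx w _ ih =>
    obtain ⟨a, ha, rfl⟩ := hx
    obtain ⟨i, hi, g, hg, e⟩ := ih
    obtain ⟨_, ⟨t, ht, h1, rfl⟩, e1, e2⟩ := hZ.nm hg a ha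
    obtain ⟨s, hs, e3⟩ := List.getElem_of_mem h1
    have h2 := List.forall₂_iff_get.1 (H.2.1 i hi)
    have h3 := h2.2 s hs (h2.1 ▸ hs)
    rw [List.get_eq_getElem, e3] at h3
    refine ⟨_, h3.1, _ * g, mul_mem (hZ.mt h3.2.1) hg, ?_⟩
    rw [← mul_assoc, h3.eq, mul_assoc, mul_assoc, e, show ro (t % 36) = rfm (pr t) by rw [rfm_pr ht, ro, ro, Nat.mod_mod],
      ← mul_assoc (rfm (pr t)), ← mul_rfm e1 e2]
    simp only [mul_assoc]

theorem row (hZ : ZOk zl) (H : T.Ok zl) (h : Hz (Rc C6) (Zs zl) 1 f) {i : ℕ} (hi : i < T.K) :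
    ∑ j ∈ range T.K, (T.cnt i j : ℂ) * f (mt (T.a j)) = 0 := by
  have h1 := h.cas _ (co_one (mt_mem (T.a i)))
  rw [hZ.sum fun ρ => f (ρ * mt (T.a i))] at h1
  rw [← h1]
  have key : ∀ l₀ l, List.Forall₂ (T.ent zl i) l₀ l → ∑ j ∈ range T.K, (((l.map (· % 32)).count j : ℕ) : ℂ) * f (mt (T.a j)) =
      (l₀.map fun t => f (ro t * mt (T.a i))).sum := fun l₀ l h2 => by
    induction h2 with
    | nil => simp
    | cons h3 _ ih =>
      rw [List.map_cons, List.map_cons, List.sum_cons, ← ih, ← h.conj (hZ.mt h3.2.1) (mt_mem _) h3.eq]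
      simp only [List.count_cons, beq_iff_eq, Nat.cast_add, add_mul, sum_add_distrib, Nat.cast_ite, Nat.cast_one, Nat.cast_zero,
        ite_mul, one_mul, zero_mul, sum_ite_eq, mem_range, h3.1, if_true]
      rw [add_comm]
  exact key _ _ (H.2.1 i hi)

theorem zero (hZ : ZOk zl) (H : T.Ok zl) (h : Hz (Rc C6) (Zs zl) 1 f) {m : ℕ} (hm : m < 3)
    (hs : ∀ k < 3, k ≠ m → ∃ μ, IsPrimitiveRoot μ (3 ^ k) ∧ Ms (Rc C6) 1 f μ) {w : Mat (Fin 6)} (hw : w ∈ WW (Zs zl)) :
    f (w * mt (T.a 0)) = 0 := by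
  have h1 : ∀ j < T.K, (∃ k < 3, k ≠ m ∧ T.w k j ≠ 0) → f (mt (T.a j)) = 0 := fun j hj ⟨k, h1, h2, h3⟩ =>
    let ⟨_, h4, h5⟩ := hs k h1 h2
    h5 _ (co_one (mt_mem _)) (((H.2.2.1 k h1 j hj).resolve_left h3).eig h4)
  obtain ⟨g, hg, u, hu, e⟩ := closure hZ H hw
  rw [← h.conj hu (mt_mem _) e]
  refine (H.2.2.2 m hm g hg).elim (h1 g hg) ?_
  generalize (T.ce.getD m []).getD g [] = c
  rintro ⟨h2, h3, h4⟩
  have h5 : ∑ j ∈ range T.K, (T.cf c j : ℂ) * f (mt (T.a j)) = 0 := by
    clear h3 h4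
    induction c with
    | nil => simp [cf]
    | cons p c ih =>
      have h6 := row hZ H h (h2 p List.mem_cons_self)
      have h7 := ih fun q hq => h2 q (List.mem_cons_of_mem _ hq)
      simp only [cf, List.map_cons, List.sum_cons, Int.cast_add, Int.cast_mul, Int.cast_natCast, add_mul, sum_add_distrib,
        mul_assoc, ← mul_sum] at h7 ⊢
      rw [h6, h7, mul_zero, add_zero]
  rw [sum_eq_single_of_mem g (mem_range.2 hg) fun j hj e => by
    rcases (h4 j (mem_range.1 hj)).resolve_left e with h6 | h6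
    · rw [h1 j (mem_range.1 hj) h6, mul_zero]
    · rw [h6, Int.cast_zero, zero_mul]] at h5
  exact (mul_eq_zero.1 h5).resolve_left (Int.cast_ne_zero.2 h3)

end Tb

/-- the cosets of one subsystem -/
structure Nd where
  zl : List ℕ
  M : ℕ
  gw : List ℕ
  ge : List (List ℕ)
  tabs : List Tb

namespace Nd

variable (N : Nd)

def g (k : ℕ) : List ℕ := dc (N.gw.getD k 0)

def ent (k i x : ℕ) : Prop := x % 256 < N.M ∧ (∀ s ∈ dc (x / 256), s ∈ N.zl) ∧ eqw (N.g k ++ [i]) (dc (x / 256) ++ N.g (x % 256))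

instance (k i x : ℕ) : Decidable (N.ent k i x) := by unfold ent; infer_instance

def Ok : Prop := ZOk N.zl ∧ 0 < N.M ∧ N.g 0 = [] ∧ (∀ k < N.M, ∀ i < 6, N.ent k i ((N.ge.getD k []).getD i 0)) ∧
  ∀ k < N.M, (∃ t ∈ N.zl, ac (N.g k) t % 36 ∉ N.zl) ∨ ∃ T ∈ N.tabs, T.a 0 = N.g k

instance : Decidable N.Ok := by unfold Ok; infer_instance

variable {N} {f : Mat (Fin 6) → ℂ}

theorem cos (H : N.Ok) {w : Mat (Fin 6)} (hw : w ∈ Wc C6) : ∃ k < N.M, ∃ u ∈ WW (Zs N.zl), w = u * mt (N.g k) := by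
  induction hw using Submonoid.closure_induction_right with
  | one => exact ⟨0, H.2.1, 1, one_mem _, by rw [H.2.2.1, one_mul]; rfl⟩
  | mul_right x _ y hy ih =>
    obtain ⟨_, ⟨i, rfl⟩, rfl⟩ := hy
    obtain ⟨k, hk, u, hu, rfl⟩ := ih
    obtain ⟨h1, h2, h3⟩ := H.2.2.2.1 k hk i i.2
    have h4 := h3.mt
    rw [mt_append, mt_append, mt_cons, ro_sp, show mt [] = 1 from rfl, mul_one] at h4
    exact ⟨_, h1, _, mul_mem hu (H.1.mt h2), by rw [mul_assoc, h4, mul_assoc]⟩

/-- **soundness** -/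
theorem zero (H : N.Ok) (HT : ∀ T ∈ N.tabs, T.Ok N.zl) (h : Hz (Rc C6) (Zs N.zl) 1 f) {m : ℕ} (hm : m < 3)
    (hs : ∀ k < 3, k ≠ m → ∃ μ, IsPrimitiveRoot μ (3 ^ k) ∧ Ms (Rc C6) 1 f μ) {A : Mat (Fin 6)} (hA : Co (Rc C6) 1 A) :
    f A = 0 := by
  by_contra h0
  have h1 := h.nm A hA h0
  obtain ⟨w, hw, rfl⟩ := hA
  rw [mul_one] at h0 h1
  obtain ⟨k, hk, u, hu, rfl⟩ := cos H (rs6.ww ▸ hw)
  rcases H.2.2.2.2 k hk with ⟨t, h2, h3⟩ | ⟨T, h2, h3⟩
  · obtain ⟨v, hv, h4, -⟩ := WW_inv (fun _ => two_Z) hu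
    have h5 := Nm.mul (H.1.nm hv) h1
    have h6 : t < 72 := (H.1.2 t h2).1.trans (by decide)
    rw [← mul_assoc, h4, one_mul] at h5
    obtain ⟨_, ⟨s, h7, h8, rfl⟩, h9, -⟩ := h5 _ ⟨t, h6, H.1.mod h2, rfl⟩
    exact h3 (b2.2.2.1 _ h7 _ (mt_rt _ h6).1 (congrFun (h9.symm.trans (mt_rt _ h6).2)) ▸ h8)
  · exact h0 (h3 ▸ Tb.zero H.1 (HT T h2) h hm hs hu)

end Nd

end Cfsg.Agent.OM.On.E6

private theorem dce_fd9403179302 : _root_.True := by
  try have : _root_.True := by simp only [_root_.Cfsg.Agent.BZ.TA.cT.eq_1]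
  try have : _root_.True := by simp only [_root_.Cfsg.Agent.OM.On.E6.Tb.cf.eq_1]
  try have : _root_.True := by simp only [_root_.Cfsg.Agent.OM.On.E6.ip.eq_1]
  try have : _root_.True := by simp only [_root_.Cfsg.Agent.OM.On.E6.ro.eq_1]
  try have : _root_.True := by simp only [_root_.Cfsg.Agent.OM.On.E6.pr.eq_1]
  try have : _root_.True := by simp only [_root_.Cfsg.Agent.OM.Cu.cm.eq_1]
  try have : _root_.True := by simp only [_root_.Cfsg.Agent.OM.On.E6.mt.eq_1]
  try have : _root_.True := by simp only [_root_.Cfsg.Agent.OM.On.E6.a1.eq_1]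
  exact _root_.True.intro
end

-- part: OM/Au/Gr
section
prune_inst 0x2004014000000018001070201e42ca0000b2004b080080a0084404418c40a1870e610420151212100851003100481100002002280000000008000000000008000400c0890100000000000002010000000000000000000000000000000000004010000
set_option linter.all false
open scoped Cfsg.Agent.FastGrp

/-!
# OM, Lie type: the total multiplicities and the Green functions (helper4)

* `Cp.det`, `Cp.sg`, `Cp.ordT`, `Cp.detB` : what depends on the characteristic polynomial only;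
* `dG f a` : the function with `∑ w, a w * Yt f χ w = |G|⁻¹ ∑ g, χ g * dG f a g`; it lives on the unipotent elements;
* `dG_aut`, `dG_reg`, `dG_range` : automorphisms and regular embeddings.
-/

set_option autoImplicit false
set_option linter.unusedSectionVars false

namespace Cfsg.Agent.OM.Au

open Cfsg Cfsg.Agent.DL Cfsg.Agent.DL.PP Cfsg.Agent.DL.Uni Cfsg.Agent.DL.Asm Cfsg.Agent.Nodes.Reps Matrix
  Cfsg.Agent.Characters.Core Cfsg.Agent.KZ.Lie Cfsg.Agent.HZ.L Polynomial
open scoped ComplexConjugate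

section mat

variable {R R' : Type} [Fintype R] [DecidableEq R] [Fintype R'] [DecidableEq R']

theorem cp_of_comm {X Z A : Matrix R R ℤ} (hA : A.det ≠ 0) (h : X * A = A * Z) : X.charpoly = Z.charpoly := by
  have h1 : X.charmatrix * A.map C = A.map C * Z.charmatrix := by
    rw [charmatrix, charmatrix, sub_mul, mul_sub, RingHom.mapMatrix_apply, RingHom.mapMatrix_apply, ← Matrix.map_mul,
      ← Matrix.map_mul, h, (scalar_commute _ (fun _ => Commute.all _ _) _).eq]
  have h2 := congrArg det h1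
  rw [det_mul, det_mul, mul_comm] at h2
  refine mul_left_cancel₀ ?_ h2
  rw [← RingHom.mapMatrix_apply, ← RingHom.map_det]
  exact C_ne_zero.2 hA

/-- a determinant identity for a block decomposition -/
theorem det_blk {K : Type} [CommRing K] {X' : Matrix R' R' K} {X : Matrix R R K} {J : Matrix R' R K} (Q : Matrix R R' K)
    (h : X' * J = J * X) : (X' - J * Q).det * X.det = X'.det * (X - Q * J).det := by
  have h1 : fromBlocks 1 J 0 1 * fromBlocks (X' - J * Q) 0 Q X * fromBlocks 1 (-J) 0 1 = fromBlocks X' 0 Q (X - Q * J) := by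
    simp [fromBlocks_multiply, h, sub_eq_neg_add]
  have h2 := congrArg det h1
  simpa only [det_mul, det_fromBlocks_zero₂₁, det_fromBlocks_zero₁₂, det_one, one_mul, mul_one] using h2

theorem cp_blk {M' : Matrix R' R' ℤ} {M : Matrix R R ℤ} {J : Matrix R' R ℤ} (Q : Matrix R R' ℤ) (h : M' * J = J * M) :
    (M' + J * Q).charpoly * M.charpoly = M'.charpoly * (M + Q * J).charpoly := by
  have h1 := det_blk (X' := M'.charmatrix) (X := M.charmatrix) (J := J.map C) (Q.map C) (by
    rw [charmatrix, charmatrix, Matrix.sub_mul, Matrix.mul_sub, RingHom.mapMatrix_apply, RingHom.mapMatrix_apply,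
      ← Matrix.map_mul, ← Matrix.map_mul, h]
    congr 1
    ext i j
    simp [scalar_apply, mul_comm])
  rw [charpoly, charpoly, charpoly, charpoly]
  convert h1 using 3
  · rw [charmatrix, charmatrix, map_add, RingHom.mapMatrix_apply C (J * Q), Matrix.map_mul, sub_sub]
  · rw [charmatrix, charmatrix, map_add, RingHom.mapMatrix_apply C (Q * J), Matrix.map_mul, sub_sub]

theorem exists_P {Ψ : RS R'} {J : Matrix R' R ℤ} (hJ : ∀ a ∈ Ψ, ∃ v, a.2 = J *ᵥ v) {A : Mat R'} (hA : A ∈ WW Ψ) :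
    ∃ P : Matrix R R' ℤ, A = 1 + J * P := by
  induction hA using Submonoid.closure_induction with
  | mem x hx =>
    obtain ⟨a, ha, rfl⟩ := hx
    obtain ⟨v, hv⟩ := hJ a ha
    exact ⟨-vecMulVec v a.1, by rw [rfm, hv, Matrix.mul_neg, mul_vecMulVec, sub_eq_add_neg]⟩
  | one => exact ⟨0, by simp⟩
  | mul x y _ _ a b =>
    obtain ⟨P, rfl⟩ := a
    obtain ⟨Q, rfl⟩ := b
    exact ⟨P + Q + P * J * Q, by simp only [add_mul, mul_add, one_mul, mul_one, Matrix.mul_add, Matrix.mul_assoc]; abel⟩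

theorem det_eval (A : Matrix R R ℤ) (x : ℂ) :
    (x • (1 : Matrix R R ℂ) - A.map (Int.cast : ℤ → ℂ)).det = (A.charpoly.map (Int.castRingHom ℂ)).eval x := by
  rw [← charpoly_map, eval_charpoly, scalar_apply, ← smul_one_eq_diagonal]
  rfl

theorem det_of_cp {A A' : Matrix R R ℤ} (h : A.charpoly = A'.charpoly) (x y : ℂ) :
    (x • A.map (Int.cast : ℤ → ℂ) - y • 1).det = (x • A'.map (Int.cast : ℤ → ℂ) - y • 1).det := by
  rcases eq_or_ne x 0 with rfl | hx
  · rw [zero_smul, zero_smul]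
  have key : ∀ A : Matrix R R ℤ, x • A.map (Int.cast : ℤ → ℂ) - y • 1 = (-x) • ((y / x) • 1 - A.map (Int.cast : ℤ → ℂ)) :=
    fun A => by rw [smul_sub, smul_smul, neg_mul, mul_div_cancel₀ _ hx, neg_smul, neg_smul, sub_neg_eq_add, neg_add_eq_sub]
  rw [key, key, det_smul, det_smul, det_eval, det_eval, h]

end mat

variable {p : ℕ} [Fact p.Prime] {k : Type} [Field k] [CharP k p] [IsAlgClosed k] {Y : Type} [Group Y] {N : Type}
  [Fintype N] [DecidableEq N] {ρ : Y →* GL N k} {F : MulAut Y} {G : Subgroup Y} {D : Datum p ρ F G} {w u : D.W}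

theorem Cp.det (h : Cp D w u) (x y : ℂ) : (x • (D.Wm w * D.Mx).map (Int.cast : ℤ → ℂ) - y • 1).det =
    (x • (D.Wm u * D.Mx).map (Int.cast : ℤ → ℂ) - y • 1).det := det_of_cp h x y

theorem Cp.sg (h : Cp D w u) : sg D w = sg D u := by
  have h1 : (D.Wm w * D.Mx).det = (D.Wm u * D.Mx).det := by
    rw [det_eq_sign_charpoly_coeff, det_eq_sign_charpoly_coeff, h]
  rw [det_mul, det_mul] at h1
  rw [KZ.Lie.sg, KZ.Lie.sg, mul_right_cancel₀ D.det_Mx_ne_zero h1]

theorem Cp.ordT (h : Cp D w u) : ordT D w = ordT D u := by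
  have h1 := h.det 1 1
  have key : ∀ w, (1 : ℂ) • (D.Wm w * D.Mx).map (Int.cast : ℤ → ℂ) - (1 : ℂ) • 1 =
      (Int.castRingHom ℂ).mapMatrix (D.Wm w * D.Mx - 1) := fun w => by
    rw [one_smul, one_smul, map_sub, map_one]
    rfl
  rw [key, key, ← RingHom.map_det, ← RingHom.map_det] at h1
  rw [KZ.Lie.ordT, KZ.Lie.ordT, Int.cast_injective (α := ℂ) h1]

variable [Fintype ↥(GF F G)] (f : Fr D)

/-- the Green function -/
noncomputable def Gr (w : D.W) (g : ↥(GF F G)) : ℂ := uniI p (g : Y) * RW f w 1 g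

theorem RW_uni {c : Lbl D} (hc : Fx D w c) {g : ↥(GF F G)} (hg : IsUni p (g : Y)) : RW f w c g = RW f w 1 g := by
  have S := sys' D
  have hT := KZ.Lie.mem_tori (yw_mem D w) (yw_rp D w)
  have key : ∀ c, Fx D w c → RW f w c g = R D (Tw D w) 1 g := fun c hc => by
    rw [RW, res_apply]
    exact (S.R_uni hT _ g.2 hg).trans (by rw [(th_spec f hc).1.one, one_mul]; rfl)
  rw [key c hc, key 1 (fx_one w)]

theorem ordT_ne (w : D.W) : (ordT D w : ℂ) ≠ 0 := by
  have := (sys' D).finT (cj (yw D w) D.T)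
  rw [KZ.Lie.ordT, ← D.card_cj_TF (yw_mem D w) (yw_rp D w)]
  exact Nat.cast_ne_zero.2 Nat.card_pos.ne'

theorem Yt_eq (χ : ↥(GF F G) → ℂ) (w : D.W) : Yt f χ w = ordT D w * classInner χ (Gr f w) := by
  have S := sys' D
  have hy := yw_mem D w
  have hw := yw_rp D w
  have := S.finT (cj (yw D w) D.T)
  have := finite_hom (cj (yw D w) D.T ⊓ GF F G)
  have := Fintype.ofFinite (↥(cj (yw D w) D.T ⊓ GF F G) →* ℂˣ)
  have hT := KZ.Lie.mem_tori hy hw
  have h0 := ordT_ne w
  have h1 : Gr f w = ∑ θ : ↥(cj (yw D w) D.T ⊓ GF F G) →* ℂˣ,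
      (ordT D w : ℂ)⁻¹ • res (GF F G) (R D (cj (yw D w) D.T) (lin θ)) := funext fun g => by
    rw [Gr, ← R_eq_RW f hy hw (lab_one f _), S.uniI_mul_R hT _ g.2, S.R_eq_sum_lin hT _ _ g.2, Finset.sum_apply,
      Finset.sum_apply]
    refine Finset.sum_congr rfl fun θ _ => ?_
    rw [← ip_conj, ip_dl_right _ (one_mem _), (isLin_lin θ).one, mul_one, D.card_cj_TF hy hw, map_inv₀, map_natCast]
    rfl
  rw [Yt, ← sum_lab f hy hw (fun ψ => classInner χ ψ) (by simp [classInner]), h1, classInner_sum_right, Finset.mul_sum]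
  refine Finset.sum_congr rfl fun θ _ => ?_
  rw [classInner_smul_right, map_inv₀, map_natCast, mul_inv_cancel_left₀ h0]

/-- the test function -/
noncomputable def dG (a : D.W → ℂ) (g : ↥(GF F G)) : ℂ := ∑ᶠ w, a w * ordT D w * conj (Gr f w g)

theorem sum_Yt (a : D.W → ℂ) (χ : ↥(GF F G) → ℂ) :
    ∑ᶠ w, a w * Yt f χ w = (Nat.card (GF F G) : ℂ)⁻¹ * ∑ g, χ g * dG f a g := by
  have := Fintype.ofFinite D.W
  simp only [dG, finsum_eq_sum_of_fintype, Yt_eq, classInner_def, Finset.mul_sum]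
  rw [Finset.sum_comm]
  exact Finset.sum_congr rfl fun g _ => Finset.sum_congr rfl fun w _ => by ring

variable {f} {a : D.W → ℂ} {g : ↥(GF F G)}

theorem dG_supp (h : dG f a g ≠ 0) : IsUni p (g : Y) ∧ ∃ w, RW f w 1 g ≠ 0 := by
  obtain ⟨w, hw⟩ : ∃ w, Gr f w g ≠ 0 := by
    by_contra hn
    push Not at hn
    exact h (by simp [dG, hn])
  refine ⟨?_, w, right_ne_zero_of_mul hw⟩
  by_contra hn
  exact left_ne_zero_of_mul hw (uniI_of_not hn)

theorem uniI_eq {Y' : Type} [Group Y'] {x : Y} {y : Y'} (h : orderOf x = orderOf y) : uniI p x = uniI p y := by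
  by_cases h1 : IsUni p x
  · rw [uniI_of_uni h1, uniI_of_uni (h1.imp fun _ e => h ▸ e)]
  · rw [uniI_of_not h1, uniI_of_not fun h2 => h1 (h2.imp fun _ e => h ▸ e)]

theorem dG_conj (x g : ↥(GF F G)) : dG f a (x * g * x⁻¹) = dG f a g := finsum_congr fun w => by
  rw [Gr, Gr, LV.Blk.gen_cls (RW_gen f w 1) g x,
    uniI_eq (x := ((x * g * x⁻¹ : GF F G) : Y)) (y := (g : Y)) ((MulAut.conj (x : Y)).orderOf_eq g)]

theorem dG_aut (hq : D.QS) (ha : Iv D a) {α : MulAut Y} {A : Matrix D.R D.R ℤ} (h : Au D α A) (g : ↥(GF F G)) :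
    dG f a (h.aut g) = dG f a g := by
  obtain ⟨⟨e, he⟩, h1⟩ := (KZ.Mts.boxApi f hq).aut α A h
  rw [dG, ← finsum_comp_equiv e.toEquiv]
  refine finsum_congr fun w => ?_
  have h2 : Cp D (e w) w := cp_of_comm h.det_ne (h.wm_Mx (he w))
  show a (e w) * ordT D (e w) * conj (Gr f (e w) (h.aut g)) = _
  rw [ha _ _ h2, h2.ordT, Gr, Gr, (h1 w (e w) 1 1 (he w) (fun v => by rw [map_one, map_one]) (fx_one _)).2 g _ rfl,
    uniI_eq (x := (h.aut g : Y)) (y := (g : Y)) (α.orderOf_eq g)]

/-! ### regular embeddings -/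

variable {j : ℕ} {B : Mat D.R} (R : Reg D f j B)

attribute [local instance] Reg.gY Reg.fN Reg.dN Reg.fin

theorem reg_cp (hs : St D j B) (ss : ∀ v, Perp (rts D) v → v = 0) (w : D.W) :
    (R.D'.Wm (R.ω w) * R.D'.Mx).charpoly * D.Mx.charpoly = R.D'.Mx.charpoly * (D.Wm w * D.Mx).charpoly := by
  obtain ⟨P, hP⟩ := exists_P (J := R.J) (fun a ha => by
    obtain ⟨b, hb⟩ := R.e.surjective ⟨a, ha⟩
    exact ⟨_, (congrArg (fun x => x.1.2) hb).symm.trans (R.e₂ b)⟩) (Wm_mem (R.ω w))
  have hM : R.D'.Mx * R.J = R.J * D.Mx := by rw [R.st.mx, hs.mx, Matrix.smul_mul, Matrix.mul_smul, R.hB]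
  have hJ : ∀ v, R.J *ᵥ v = 0 → v = 0 := fun v hv => ss v fun a ha => by
    rw [← R.e₁ ⟨a, ha⟩, ← dotProduct_mulVec, hv, dotProduct_zero]
  have h1 : D.Wm w = 1 + P * R.J := by
    refine ext_of_mulVec_single fun i => sub_eq_zero.1 (hJ _ ?_)
    rw [mulVec_sub, mulVec_mulVec, mulVec_mulVec, ← R.hω, hP, Matrix.add_mul, Matrix.mul_add, Matrix.one_mul,
      Matrix.mul_one, Matrix.mul_assoc, sub_self]
  have h2 := cp_blk (P * R.D'.Mx) hM
  rwa [Matrix.mul_assoc, hM, ← Matrix.mul_assoc, ← Matrix.mul_assoc, ← one_add_mul, ← one_add_mul, ← hP, ← h1] at h2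

theorem reg_Cp (hs : St D j B) (ss : ∀ v, Perp (rts D) v → v = 0) (h : Cp D w u) : Cp R.D' (R.ω w) (R.ω u) :=
  mul_right_cancel₀ (charpoly_monic D.Mx).ne_zero (by rw [reg_cp R hs ss, reg_cp R hs ss, h])

theorem dG_reg (hs : St D j B) (ss : ∀ v, Perp (rts D) v → v = 0) {a' : R.D'.W → ℂ} (ha : Iv R.D' a') :
    ∃ a, Iv D a ∧ ∀ g, dG R.f' a' (R.ι g) = dG f a g := by
  refine ⟨fun w => a' (R.ω w) * ordT R.D' (R.ω w) / ordT D w, fun w u h => ?_, fun g => ?_⟩
  · have h1 := reg_Cp R hs ss h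
    show a' (R.ω w) * _ / _ = a' (R.ω u) * _ / _
    rw [ha _ _ h1, h1.ordT, h.ordT]
  · rw [dG, ← finsum_comp_equiv R.ω.toEquiv]
    refine finsum_congr fun w => ?_
    have h1 : pl R.J 1 = 1 := funext fun i => congrFun (rfl : _ = _) i |>.trans (map_one (chr fun j => R.J j i))
    show a' (R.ω w) * ordT R.D' (R.ω w) * conj (Gr R.f' (R.ω w) (R.ι g)) = _
    rw [div_mul_cancel₀ _ (ordT_ne w), Gr, Gr, R.res w 1 (fx_one _), h1,
      uniI_eq (x := (R.ι g : R.Y')) (y := (g : Y)) (by
        rw [Subgroup.orderOf_coe, Subgroup.orderOf_coe, orderOf_injective _ R.inj])]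

theorem dG_range {a' : R.D'.W → ℂ} {g : ↥(GF R.F' R.G')} (h : dG R.f' a' g ≠ 0) : g ∈ R.ι.range := by
  obtain ⟨h1, w, h2⟩ := dG_supp h
  have : R.ι.range.Normal := Subgroup.Normal.of_commutator_le _ R.comm
  by_contra hn
  let _ : CommGroup (↥(GF R.F' R.G') ⧸ R.ι.range) :=
    { (inferInstance : Group (↥(GF R.F' R.G') ⧸ R.ι.range)) with
      mul_comm := (Subgroup.Normal.quotient_commutative_iff_commutator_le.2 R.comm).is_comm.comm }
  obtain ⟨φ, hφ⟩ := CommGroup.exists_apply_ne_one_of_hasEnoughRootsOfUnity (↥(GF R.F' R.G') ⧸ R.ι.range) ℂ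
    (a := (g : ↥(GF R.F' R.G') ⧸ R.ι.range)) fun e => hn ((QuotientGroup.eq_one_iff _).1 e)
  obtain ⟨cl, -, c1, -, -, c2⟩ := R.lin (φ.comp (QuotientGroup.mk' _)) fun x => by
    rw [MonoidHom.comp_apply, QuotientGroup.mk'_apply, (QuotientGroup.eq_one_iff (N := R.ι.range) _).2 ⟨x, rfl⟩, map_one]
  have h3 := c2 w 1 g
  rw [one_mul, RW_uni R.f' (c1 w) h1, eq_comm, mul_eq_right₀ h2] at h3
  exact hφ (Units.ext h3)

end Cfsg.Agent.OM.Au

private theorem dce_19ac5bd30920 : _root_.True := by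
  try have : _root_.True := by simp only [_root_.Cfsg.Agent.OM.Au.Gr.congr_simp]
  try have : _root_.True := by simp only [_root_.Cfsg.Agent.OM.Au.dG.eq_1]
  try have : _root_.True := by simp only [_root_.Cfsg.Agent.OM.Au.Gr.eq_1]
  try have : _root_.True := by simp only [_root_.Cfsg.Agent.OM.Au.Yt.congr_simp]
  try have : _root_.True := by simp only [_root_.Cfsg.Agent.OM.Au.Yt.eq_1]
  exact _root_.True.intro
end
end
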