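import Cfsg.Agent.OM.Cu.Glue_mg_m3
import Cfsg.Agent.OM.Lie.UL0_m3
import Cfsg.Agent.HZ.L.SL.Defs_m3
import Cfsg.Agent.HZ.Gen.Sep_m3
import Cfsg.Agent.Prune
set_option linter.all false

section
prune_inst 0x7fbdbdfcffafa7ffffff7fb7fe9bfffc83a1efffefdef9437fe163bf0f9f13a109c57f858de030fc9ed6e2941038f853fb7eefffe86fd87ffffdbff41ffbee4fe5f63500119488240f302ff683f17f8a6f3ffffffffffffffffffffffffffffffffffbfeffff

-- part: OM/Cu/Orb_mg
section
prune_inst 0x4000000000000000000000000000000000000000200430000000000000000004080000600000000000000000000000000000000000000000000000000000000000000000000000000000010000000000000000000000000000000000000000000000000000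
set_option linter.all false
open scoped Cfsg.Agent.FastGrp

-- part: OM/Cu/Orb
section
/-!
# OM / Cu : reduction to one component (helper29)

`P` is the inclusion of one component, `Q` the projection, `io P Q` the inclusion of the Weyl groups.  The automorphism `A` permutes
the components, `A ^ a` is the first power which keeps the component, `X` is its restriction.
-/

set_option autoImplicit false
set_option linter.unusedSectionVars false
set_option linter.dupNamespace false

namespace Cfsg.Agent.OM.Cu

open Cfsg Matrix Cfsg.Agent.HZ.L Cfsg.Agent.BZ.TA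

namespace Orb

variable {I J K : Type} [Fintype I] [DecidableEq I] [Fintype J] [DecidableEq J] [Fintype K] [DecidableEq K]

/-! ### roots of one -/

theorem prim_pow {M : Type} [Monoid M] {x : M} {ν : ℂ} (h : IsPrimitiveRoot ν (orderOf x)) (a : ℕ) :
    IsPrimitiveRoot (ν ^ a) (orderOf (x ^ a)) := by
  have key : ∀ n : ℕ, (ν ^ a) ^ n = 1 ↔ (x ^ a) ^ n = 1 := fun n => by
    rw [← pow_mul, ← pow_mul, h.pow_eq_one_iff_dvd, orderOf_dvd_iff_pow_eq_one]
  exact ⟨(key _).2 (pow_orderOf_eq_one _), fun n hn => orderOf_dvd_iff_pow_eq_one.2 ((key n).1 hn)⟩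

theorem prim_lift {M : Type} [Monoid M] {x : M} (hx : 0 < orderOf x) (a : ℕ) {ν : ℂ} (h : IsPrimitiveRoot ν (orderOf (x ^ a))) :
    ∃ μ : ℂ, IsPrimitiveRoot μ (orderOf x) ∧ μ ^ a = ν := by
  have hζ := Complex.isPrimitiveRoot_exp _ hx.ne'
  have h1 := prim_pow hζ a
  have h2 : orderOf (x ^ a) ∣ orderOf x := orderOf_pow_dvd a
  have : NeZero (orderOf x) := ⟨hx.ne'⟩
  have : NeZero (orderOf (x ^ a)) := ⟨fun k => hx.ne' (eq_zero_of_zero_dvd (k ▸ h2))⟩
  obtain ⟨i, -, hi, rfl⟩ := h1.isPrimitiveRoot_iff.1 h
  obtain ⟨u, hu⟩ := ZMod.unitsMap_surjective h2 (ZMod.unitOfCoprime i hi)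
  refine ⟨_, hζ.pow_of_coprime _ (ZMod.val_coe_unit_coprime u), ?_⟩
  have h3 : (((u : ZMod (orderOf x)).val : ℕ) : ZMod (orderOf (x ^ a))) = (i : ℕ) := by
    rw [ZMod.natCast_val, ← ZMod.unitsMap_val h2, hu, ZMod.coe_unitOfCoprime]
  rw [← pow_mul, mul_comm _ a, pow_mul]
  exact pow_eq_pow_of_modEq ((ZMod.natCast_eq_natCast_iff _ _ _).1 h3) h1.pow_eq_one

theorem pq_pos {q : ℤ} {l d e : ℕ} (h : Pq q l d e) : 0 < d := by
  by_cases h2 : l = 2
  · subst h2
    rcases h.two.2 with k | k <;> omega
  · have := Fact.mk h.lp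
    rw [h.odd h2, ← h.oe, orderOf_pos_iff, isOfFinOrder_iff_isUnit, isUnit_iff_ne_zero]
    exact fun k => h.nd ((ZMod.intCast_zmod_eq_zero_iff_dvd _ _).1 k)

theorem pq_pow {q : ℤ} {l d e : ℕ} (h : Pq q l d e) (a : ℕ) :
    Pq (q ^ a) l (orderOf ((q : ZMod (if l = 2 then 4 else l)) ^ a)) (orderOf ((q : ZMod l) ^ a)) :=
  ⟨h.lp, fun k => h.nd ((Nat.prime_iff_prime_int.1 h.lp).dvd_of_dvd_pow k), by rw [Int.cast_pow], by rw [Int.cast_pow]⟩

/-! ### complex vectors -/

/-- the action on complex vectors -/
def ac (M : Matrix I J ℤ) (y : J → ℂ) : I → ℂ := M.map (Int.cast : ℤ → ℂ) *ᵥ y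

theorem ac_mul (M : Matrix I J ℤ) (N : Matrix J K ℤ) (y : K → ℂ) : ac (M * N) y = ac M (ac N y) := by
  rw [ac, ac, ac, mulVec_mulVec]
  exact congrArg (· *ᵥ y) (Matrix.map_mul (f := Int.castRingHom ℂ))

theorem ac_one (y : I → ℂ) : ac 1 y = y := by
  rw [ac, Matrix.map_one _ Int.cast_zero Int.cast_one, one_mulVec]

theorem ac_zero (y : J → ℂ) : ac (0 : Matrix I J ℤ) y = 0 := by
  rw [ac, Matrix.map_zero _ Int.cast_zero, zero_mulVec]

theorem ac_smul (M : Matrix I J ℤ) (z : ℂ) (y : J → ℂ) : ac M (z • y) = z • ac M y := mulVec_smul _ _ _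

theorem ac_sum (M : Matrix I J ℤ) (s : Finset ℕ) (y : ℕ → J → ℂ) : ac M (∑ k ∈ s, y k) = ∑ k ∈ s, ac M (y k) := mulVec_sum _ _ _

theorem ev_ac (a : Vec I) (M : Matrix I J ℤ) (y : J → ℂ) : ev a (ac M y) = ev (a ᵥ* M) y := by
  rw [ev, ev, ac, dotProduct_mulVec]
  congr 1
  funext i
  simp only [vecMul, dotProduct, _root_.Matrix.map_apply, _root_.Int.cast_sum, _root_.Int.cast_mul]

theorem ac_pow {A : Mat I} {μ : ℂ} {y : I → ℂ} (h : IsE A μ y) (n : ℕ) : ac (A ^ n) y = μ ^ n • y := by
  induction n with
  | zero => rw [pow_zero, pow_zero, ac_one, one_smul]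
  | succ n ih => rw [pow_succ, ac_mul, show ac A y = μ • y from h, ac_smul, ih, smul_smul, pow_succ']

/-! ### the inclusion -/

variable (P : Matrix I J ℤ) (Q : Matrix J I ℤ)

/-- the inclusion of the Weyl groups -/
def io (w : Mat J) : Mat I := 1 + P * (w - 1) * Q

/-- the inclusion of the pairs -/
def ex (c : Vec J × Vec J) : Vec I × Vec I := (c.1 ᵥ* Q, P *ᵥ c.2)

theorem io_one : io P Q 1 = 1 := by rw [io, sub_self, Matrix.mul_zero, Matrix.zero_mul, add_zero]

theorem io_rfm (c : Vec J × Vec J) : io P Q (rfm c) = rfm (ex P Q c) := mat_ext fun v => by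
  rw [io, add_mulVec, ← mulVec_mulVec, ← mulVec_mulVec, sub_mulVec, rfm_mulVec, rfm_mulVec, one_mulVec, one_mulVec, ex,
    sub_sub_cancel_left, mulVec_neg, mulVec_smul, dotProduct_mulVec, sub_eq_add_neg]

variable {P Q} {Ψ : RS I} {Φ : RS J} {a : ℕ} {A A' : Mat I} {X w u : Mat J}

theorem io_P (h : Q * P = 1) (w : Mat J) : io P Q w * P = P * w := by
  rw [io, Matrix.add_mul, Matrix.mul_assoc, h, Matrix.mul_one, Matrix.one_mul, Matrix.mul_sub, Matrix.mul_one, add_sub_cancel]

theorem Q_io (h : Q * P = 1) (w : Mat J) : Q * io P Q w = w * Q := by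
  rw [io, Matrix.mul_add, ← Matrix.mul_assoc, ← Matrix.mul_assoc, h, Matrix.mul_one, Matrix.one_mul, Matrix.sub_mul, Matrix.one_mul,
    add_sub_cancel]

theorem io_mul (h : Q * P = 1) (w u : Mat J) : io P Q (w * u) = io P Q w * io P Q u := by
  conv_rhs => rw [io.eq_1 P Q u, mul_add, ← Matrix.mul_assoc, ← Matrix.mul_assoc, io_P h, mul_one]
  simp only [io, Matrix.mul_sub, Matrix.sub_mul, Matrix.mul_one, Matrix.mul_assoc]
  abel

theorem io_ww (h : Q * P = 1) {S : RS I} (up : ∀ c ∈ Φ, ex P Q c ∈ S) (hw : w ∈ WW Φ) : io P Q w ∈ WW S := by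
  induction hw using Submonoid.closure_induction with
  | mem x hx => obtain ⟨c, hc, rfl⟩ := hx; exact io_rfm P Q c ▸ rfm_mem (up c hc)
  | one => exact (io_one P Q).symm ▸ one_mem _
  | mul x y _ _ hx hy => exact (io_mul h x y).symm ▸ mul_mem hx hy

theorem Q_ex (h : Q * P = 1) (c : Vec J × Vec J) : Q *ᵥ (ex P Q c).2 = c.2 := by rw [ex, mulVec_mulVec, h, one_mulVec]

theorem ex_P (h : Q * P = 1) (c : Vec J × Vec J) : (ex P Q c).1 ᵥ* P = c.1 := by rw [ex, vecMul_vecMul, h, vecMul_one]

variable (P Q) in
/-- `Φ` is a union of components of `Ψ` -/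
structure Fm (Ψ : RS I) (Φ : RS J) : Prop where
  qp : Q * P = 1
  up : ∀ c ∈ Φ, ex P Q c ∈ Ψ
  dich : ∀ b ∈ Ψ, (∃ c ∈ Φ, b = ex P Q c) ∨ (Q *ᵥ b.2 = 0 ∧ b.1 ᵥ* P = 0)
  fin : Ψ.Finite
  fin' : Φ.Finite
  ext : ∀ b ∈ Ψ, ∀ b' ∈ Ψ, b.2 = b'.2 → b = b'
  two : ∀ b ∈ Ψ, b.1 ⬝ᵥ b.2 = 2
  two' : ∀ c ∈ Φ, c.1 ⬝ᵥ c.2 = 2
  nm : ∀ b ∈ Ψ, Nm (rfm b) Ψ

variable (P Q) in
/-- `A ^ a` is the first power which keeps the component, `X` is the restriction -/
structure Cy (a : ℕ) (A : Mat I) (X : Mat J) : Prop where
  pos : 0 < a
  inv : IsUnit A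
  mid : ∀ k, 0 < k → k < a → Q * A ^ k * P = 0
  rt : A ^ a * P = P * X
  lf : Q * A ^ a = X * Q

theorem Cy.mul (h : Q * P = 1) (H : Cy P Q a A X) (hw : IsUnit (io P Q w)) : Cy P Q a (io P Q w * A) (w * X) := by
  have k0 : ∀ k, 0 < k → k < a → io P Q w * (A ^ k * P) = A ^ k * P := fun k k1 k2 => by
    rw [io, Matrix.add_mul, Matrix.one_mul, Matrix.mul_assoc, ← Matrix.mul_assoc Q, H.mid k k1 k2, Matrix.mul_zero, add_zero]
  have k1 : ∀ k, k < a → (io P Q w * A) ^ k * P = A ^ k * P := fun k => by
    induction k with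
    | zero => intro _; rw [pow_zero, pow_zero]
    | succ k ih =>
      intro hk
      rw [pow_succ', Matrix.mul_assoc, ih (by omega), Matrix.mul_assoc, ← Matrix.mul_assoc A, ← pow_succ', k0 _ (by omega) hk]
  have k2 : ∀ k, k < a → Q * (io P Q w * A) ^ (k + 1) = w * Q * A ^ (k + 1) := fun k => by
    induction k with
    | zero => intro _; rw [zero_add, pow_one, pow_one, ← Matrix.mul_assoc, Q_io h]
    | succ k ih =>
      intro hk
      rw [pow_succ, ← Matrix.mul_assoc, ih (by omega), ← Matrix.mul_assoc, io, Matrix.mul_add, Matrix.mul_one, ← Matrix.mul_assoc,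
        ← Matrix.mul_assoc, Matrix.mul_assoc w, Matrix.mul_assoc w, H.mid _ (by omega) hk, Matrix.mul_zero, Matrix.zero_mul,
        Matrix.zero_mul, add_zero, pow_succ A (k + 1), Matrix.mul_assoc, Matrix.mul_assoc, Matrix.mul_assoc]
  obtain ⟨m, rfl⟩ := Nat.exists_eq_succ_of_ne_zero H.pos.ne'
  refine ⟨H.pos, hw.mul H.inv, fun k k3 k4 => by rw [Matrix.mul_assoc, k1 k k4, ← Matrix.mul_assoc, H.mid k k3 k4], ?_, ?_⟩
  · rw [pow_succ', Matrix.mul_assoc, k1 m m.lt_succ_self, Matrix.mul_assoc, ← Matrix.mul_assoc A, ← pow_succ', H.rt,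
      ← Matrix.mul_assoc, io_P h, Matrix.mul_assoc]
  · rw [k2 m m.lt_succ_self, Matrix.mul_assoc, H.lf, Matrix.mul_assoc]

theorem Cy.unit (h : Q * P = 1) (H : Cy P Q a A X) : IsUnit X := by
  obtain ⟨A', e⟩ := (H.inv.pow a).exists_right_inv
  refine IsUnit.of_mul_eq_one (Q * A' * P) ?_
  rw [← Matrix.mul_assoc, ← Matrix.mul_assoc, ← H.lf, Matrix.mul_assoc Q, e, Matrix.mul_one, h]

theorem Cy.nm (F : Fm P Q Ψ Φ) (H : Cy P Q a A X) (hA : Nm A Ψ) : Nm X Φ := fun c hc => by
  obtain ⟨b, hb, b1, b2⟩ := Nm.pow hA a _ (F.up c hc)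
  rw [ex, mulVec_mulVec, H.rt, ← mulVec_mulVec] at b1
  rcases F.dich b hb with ⟨c', hc', rfl⟩ | ⟨-, k⟩
  · refine ⟨c', hc', by rw [← Q_ex F.qp c', ← b1, mulVec_mulVec, F.qp, one_mulVec], ?_⟩
    rw [← ex_P F.qp c, ← b2, vecMul_vecMul, H.rt, ← vecMul_vecMul, ex_P F.qp]
  · have := F.two b hb
    rw [← b1, dotProduct_mulVec, k, zero_dotProduct] at this
    exact absurd this (by decide)

/-- the eigenvectors go up -/
theorem Cy.eig (h : Q * P = 1) (H : Cy P Q a A X) {μ : ℂ} (h0 : μ ≠ 0) {z : J → ℂ} (hz : IsE X (μ ^ a) z) :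
    ∃ y, IsE A μ y ∧ ac Q y = z ∧ ∀ v : Vec I, (∀ k < a, v ᵥ* (A ^ k * P) = 0) → ev v y = 0 := by
  let g : ℕ → I → ℂ := fun k => μ⁻¹ ^ k • ac (A ^ k * P) z
  refine ⟨∑ k ∈ Finset.range a, g k, ?_, ?_, fun v hv => ?_⟩
  · change ac A _ = _
    have k1 : ∀ k, ac A (g k) = μ • g (k + 1) := fun k => by
      simp only [g]
      rw [ac_smul, ← ac_mul, ← Matrix.mul_assoc, ← pow_succ', smul_smul, pow_succ' μ⁻¹, ← mul_assoc, mul_inv_cancel₀ h0, one_mul]
    have k2 : g a = g 0 := by
      simp only [g]
      rw [H.rt, ac_mul, show ac X z = μ ^ a • z from hz, ac_smul, smul_smul, ← mul_pow, inv_mul_cancel₀ h0, one_pow, pow_zero,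
        pow_zero, Matrix.one_mul]
    rw [ac_sum, Finset.sum_congr rfl fun k _ => k1 k, ← Finset.smul_sum]
    congr 1
    rw [← sub_eq_zero, ← Finset.sum_sub_distrib, Finset.sum_range_sub, k2, sub_self]
  · rw [ac_sum, Finset.sum_eq_single 0 (fun k k1 k2 => ?_) fun k => absurd (Finset.mem_range.2 H.pos) k]
    · simp only [g]
      rw [pow_zero, pow_zero, one_smul, Matrix.one_mul, ← ac_mul, h, ac_one]
    · simp only [g]
      rw [ac_smul, ← ac_mul, ← Matrix.mul_assoc, H.mid k (Nat.pos_of_ne_zero k2) (Finset.mem_range.1 k1), ac_zero, smul_zero]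
  · rw [ev, dotProduct_sum]
    refine Finset.sum_eq_zero fun k hk => ?_
    simp only [g]
    rw [dotProduct_smul, ← ev, ev_ac, hv k (Finset.mem_range.1 hk)]
    simp only [ev, _root_.inv_pow, _root_.Pi.zero_apply, _root_.Int.cast_zero, _root_.zero_dotProduct', _root_.smul_eq_mul, _root_.MulZeroClass.mul_zero]

variable {q : ℤ} {l d e : ℕ} {f : Mat I → ℂ}

theorem f_pow (h : Hy Ψ A q l d f) (hn : Nm A Ψ) (hu : IsUnit A) (k : ℕ) :
    ∀ {v v' : Mat I}, v ∈ WW Ψ → v' * A ^ k = A ^ k * v → f (v' * A) = f (v * A) := by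
  induction k with
  | zero => intro v v' _ e; rw [pow_zero, mul_one, one_mul] at e; rw [e]
  | succ k ih =>
    intro v v' hv e
    obtain ⟨v1, h1, e1⟩ := Nm.ww hn hv
    rw [ih h1 (hu.mul_right_cancel (by rw [mul_assoc, ← pow_succ, e, pow_succ, mul_assoc, e1, mul_assoc])), ← e1,
      h.cj v hv A (Co.refl _ _)]

theorem Fm.surj (F : Fm P Q Ψ Φ) (h : Nm A Ψ) (hu : IsUnit A) {b : Vec I × Vec I} (hb : b ∈ Ψ) :
    ∃ b' ∈ Ψ, A *ᵥ b'.2 = b.2 ∧ b.1 ᵥ* A = b'.1 := by
  choose φ h1 h2 h3 using h
  have := F.fin.to_subtype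
  obtain ⟨c, hc⟩ := Finite.surjective_of_injective (f := fun c : Ψ => (⟨φ c c.2, h1 c c.2⟩ : Ψ)) (fun c c' e =>
    Subtype.ext (F.ext _ c.2 _ c'.2 (mulVec_injective_of_isUnit hu (by
      rw [h2 c c.2, h2 c' c'.2, show φ c c.2 = φ c' c'.2 from congrArg Subtype.val e])))) ⟨b, hb⟩
  have e : φ c c.2 = b := congrArg Subtype.val hc
  exact ⟨c, c.2, e ▸ h2 c c.2, e ▸ h3 c c.2⟩

/-- a pair is moved to the component or it is outside of the orbit -/
theorem Cy.orb (F : Fm P Q Ψ Φ) (H : Cy P Q a A X) (hA : Nm A Ψ) {b : Vec I × Vec I} (hb : b ∈ Ψ) :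
    (∃ j < a, ∃ c ∈ Φ, A ^ j *ᵥ b.2 = (ex P Q c).2 ∧ (ex P Q c).1 ᵥ* A ^ j = b.1) ∨ ∀ k < a, b.1 ᵥ* (A ^ k * P) = 0 := by
  refine or_iff_not_imp_left.2 fun h k hk => ?_
  have key : ∀ j < a, ∃ v : Vec I, v ᵥ* A ^ j = b.1 ∧ v ᵥ* P = 0 := fun j hj => by
    obtain ⟨b', hb', b1, b2⟩ := Nm.pow hA j b hb
    rcases F.dich b' hb' with ⟨c, hc, rfl⟩ | k
    exacts [absurd ⟨j, hj, c, hc, b1, b2⟩ h, ⟨_, b2, k.2⟩]
  rcases k.eq_zero_or_pos with rfl | h0
  · obtain ⟨v, v1, v2⟩ := key 0 hk
    rw [pow_zero, vecMul_one] at v1
    rw [pow_zero, Matrix.one_mul, ← v1, v2]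
  · obtain ⟨v, v1, v2⟩ := key (a - k) (by omega)
    rw [← v1, vecMul_vecMul, ← Matrix.mul_assoc, ← pow_add, Nat.sub_add_cancel hk.le, H.rt, ← vecMul_vecMul, v2, zero_vecMul]

/-- the label goes up -/
def ta (Q : Matrix J I ℤ) (a : ℕ) (A : Mat I) (q : ℤ) (τ : Vec J) : Vec I := ∑ k ∈ Finset.range a, q ^ k • (τ ᵥ* (Q * A ^ k))

theorem Cy.ta_dot (h : Q * P = 1) (H : Cy P Q a A X) (τ : Vec J) {j : ℕ} (hj : j < a) {v : Vec I} {z : Vec J}
    (e : A ^ j *ᵥ v = P *ᵥ z) : ta Q a A q τ ⬝ᵥ v = q ^ j * (τ ⬝ᵥ z) := by
  rw [ta, sum_dotProduct, Finset.sum_eq_single j (fun k k1 k2 => ?_) fun k => absurd (Finset.mem_range.2 hj) k, smul_dotProduct,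
    ← dotProduct_mulVec, ← mulVec_mulVec, e, mulVec_mulVec, h, one_mulVec, smul_eq_mul]
  have k3 := Finset.mem_range.1 k1
  have key : ∀ m, 0 < m → m < a → (Q * A ^ (m + j)) *ᵥ v = 0 := fun m m1 m2 => by
    rw [pow_add, ← Matrix.mul_assoc, ← mulVec_mulVec, e, mulVec_mulVec, H.mid m m1 m2, zero_mulVec]
  rw [smul_dotProduct, ← dotProduct_mulVec, show (Q * A ^ k) *ᵥ v = 0 from ?_, dotProduct_zero, smul_zero]
  rcases lt_or_gt_of_ne k2 with k4 | k4
  · refine mulVec_injective_of_isUnit (H.unit h) ?_
    rw [mulVec_mulVec, ← Matrix.mul_assoc, ← H.lf, Matrix.mul_assoc, ← pow_add, mulVec_zero, ← key (a + k - j) (by omega) (by omega),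
      Nat.sub_add_cancel (by omega)]
  · rw [← key (k - j) (by omega) (by omega), Nat.sub_add_cancel k4.le]

theorem Cy.ta_ft (F : Fm P Q Ψ Φ) (H : Cy P Q a A X) {τ : Vec J} (h : Ft Φ (q ^ a) l X τ) : Ft Ψ q l A (ta Q a A q τ) := by
  intro b hb
  have e : q • (ta Q a A q τ ᵥ* A) - ta Q a A q τ = (q ^ a • (τ ᵥ* X) - τ) ᵥ* Q := by
    rw [ta, sum_vecMul, Finset.smul_sum, ← Finset.sum_sub_distrib, Finset.sum_congr rfl fun k _ => show _ =
      q ^ (k + 1) • (τ ᵥ* (Q * A ^ (k + 1))) - q ^ k • (τ ᵥ* (Q * A ^ k)) by
        rw [smul_vecMul, vecMul_vecMul, smul_smul, Matrix.mul_assoc, ← pow_succ, ← pow_succ'],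
      Finset.sum_range_sub fun k => q ^ k • (τ ᵥ* (Q * A ^ k)), H.lf, pow_zero, pow_zero, one_smul, Matrix.mul_one, sub_vecMul,
      smul_vecMul, vecMul_vecMul]
  rw [e, ← dotProduct_mulVec]
  rcases F.dich b hb with ⟨c, hc, rfl⟩ | k
  · rw [Q_ex F.qp]
    exact h c hc
  · rw [k.1, dotProduct_zero]
    exact dvd_zero _

theorem Cy.cj (F : Fm P Q Ψ Φ) (H : Cy P Q a A X) (hA : Nm A Ψ) (h : Hy Ψ A q l d f) (hu : u ∈ WW Φ) (e : X * u = w * X) :
    f (io P Q w * A) = f (io P Q u * A) := by
  refine f_pow h hA H.inv a (io_ww F.qp F.up hu) ?_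
  rw [io, io, add_mul, mul_add, one_mul, mul_one, Matrix.mul_assoc, H.lf, ← Matrix.mul_assoc (A ^ a), ← Matrix.mul_assoc (A ^ a),
    H.rt, Matrix.mul_assoc P X, mul_sub, e, ← Matrix.mul_assoc, Matrix.mul_assoc P, sub_mul, one_mul, mul_one]

theorem Cy.bad (F : Fm P Q Ψ Φ) (H : Cy P Q a A X) (hq : Pq q l d e)
    (h : Bad Φ (orderOf ((q : ZMod (if l = 2 then 4 else l)) ^ a)) X) : ∃ μ y, IsPrimitiveRoot μ d ∧ IsE A μ y ∧
      (∃ b ∈ Ψ, ev b.1 y ≠ 0) ∧ ∀ v : Vec I, (∀ k < a, v ᵥ* (A ^ k * P) = 0) → ev v y = 0 := by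
  obtain ⟨ν, h1, z, h2, c, hc, h3⟩ := h
  obtain ⟨μ, h4, rfl⟩ := prim_lift (hq.od ▸ pq_pos hq) a h1
  rw [hq.od] at h4
  obtain ⟨y, y1, y2, y3⟩ := H.eig F.qp (h4.ne_zero (pq_pos hq).ne') h2
  exact ⟨μ, y, h4, y1, ⟨_, F.up c hc, by rwa [ex, ← ev_ac, y2]⟩, y3⟩

theorem rfm_ne {c : Vec J × Vec J} (h : c.1 ⬝ᵥ c.2 = 2) : rfm c ≠ 1 := fun e => by
  have := congrArg (fun M => c.1 ⬝ᵥ M *ᵥ c.2) e
  simp only [rfm_mulVec, one_mulVec, dotProduct_sub, dotProduct_smul, h] at this
  exact absurd this (by decide)

theorem Cy.rel (F : Fm P Q Ψ Φ) (H : Cy P Q a A X) (hA : Nm A Ψ) (hq : Pq q l d e) (h : Hy Ψ A q l d f)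
    (hb : Bad Φ (orderOf ((q : ZMod (if l = 2 then 4 else l)) ^ a)) X) {τ : Vec J} (hτ : Ft Φ (q ^ a) l X τ) :
    ∑ᶠ ρ ∈ rfm '' Zt Φ l τ, f (io P Q ρ * A) = 0 := by
  classical
  obtain ⟨μ, y, y1, y2, y3, y4⟩ := H.bad F hq hb
  obtain ⟨S, hS, h0⟩ := h.sum_eq F.fin (Co.refl _ _) ⟨μ, y1, y, y2, y3⟩ (H.ta_ft F hτ)
  have h1 : (rfm '' Zt Φ l τ).Finite := (F.fin'.subset fun _ h => h.1).image _
  rw [finsum_mem_eq_finite_toFinset_sum _ h1]
  have hp := Nat.prime_iff_prime_int.1 hq.lp
  have k0 : ∀ j < a, ∀ (b : Vec I × Vec I) (c : Vec J × Vec J), A ^ j *ᵥ b.2 = (ex P Q c).2 →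
      ((l : ℤ) ∣ ta Q a A q τ ⬝ᵥ b.2 ↔ (l : ℤ) ∣ τ ⬝ᵥ c.2) := fun j hj b c e => by
    rw [H.ta_dot F.qp τ hj e, hp.dvd_mul]
    exact or_iff_right fun k => hq.nd (hp.dvd_of_dvd_pow k)
  have k1 : ∀ p : ℕ × Mat J, ∃ M : Mat I, io P Q p.2 * A ^ p.1 = A ^ p.1 * M := fun p => by
    obtain ⟨A', e⟩ := (H.inv.pow p.1).exists_right_inv
    exact ⟨A' * (io P Q p.2 * A ^ p.1), by rw [← mul_assoc, e, one_mul]⟩
  choose g hg using k1
  have k2 : ∀ (j : ℕ) (b : Vec I × Vec I) (c : Vec J × Vec J), A ^ j *ᵥ b.2 = (ex P Q c).2 → (ex P Q c).1 ᵥ* A ^ j = b.1 →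
      g (j, rfm c) = rfm b := fun j b c e1 e2 => (H.inv.pow j).mul_left_cancel ((hg (j, rfm c)).symm.trans (by rw [mul_rfm e1 e2, ← io_rfm]))
  have k3 : ∀ p ∈ Finset.range a ×ˢ h1.toFinset, g p ∈ S := by
    rintro ⟨j, ρ⟩ hp
    obtain ⟨p1, p2⟩ := Finset.mem_product.1 hp
    obtain ⟨c, ⟨c1, c2⟩, rfl⟩ := h1.mem_toFinset.1 p2
    obtain ⟨b, b0, b1, b2⟩ := F.surj (Nm.pow hA j) (H.inv.pow j) (F.up c c1)
    exact (hS _).2 ⟨b, b0, (k0 j (Finset.mem_range.1 p1) b c b1).2 c2, (k2 j b c b1 b2).symm⟩
  have k4 : ∀ p ∈ Finset.range a ×ˢ h1.toFinset, ∀ p' ∈ Finset.range a ×ˢ h1.toFinset, g p = g p' → ¬ p.1 < p'.1 := by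
    rintro ⟨j, ρ⟩ - ⟨j', ρ'⟩ hp' e k
    obtain ⟨p1, p2⟩ := Finset.mem_product.1 hp'
    obtain ⟨c, ⟨c1, -⟩, rfl⟩ := h1.mem_toFinset.1 p2
    obtain ⟨m, rfl⟩ := Nat.exists_eq_add_of_lt k
    have e1 : io P Q (rfm c) * A ^ (m + 1) = A ^ (m + 1) * io P Q ρ := (H.inv.pow j).mul_right_cancel (by
      rw [mul_assoc, mul_assoc, hg (j, ρ), e, ← pow_add, ← mul_assoc, ← pow_add, add_comm (m + 1), ← add_assoc, hg (j + m + 1, rfm c)])
    obtain ⟨A', e2⟩ := (H.inv.pow (m + 1)).exists_right_inv
    have e3 := congrArg (fun M => Q * M * A' * P) e1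
    have p3 : j + m + 1 < a := Finset.mem_range.1 p1
    simp only [io.eq_1 P Q ρ] at e3
    rw [mul_add, Matrix.mul_add, ← Matrix.mul_assoc, ← Matrix.mul_assoc Q (A ^ (m + 1)) (_ * _), ← Matrix.mul_assoc _ (P * _),
      ← Matrix.mul_assoc _ P, H.mid _ (by omega) (by omega), Matrix.zero_mul, Matrix.zero_mul, add_zero, mul_one, Q_io F.qp,
      Matrix.mul_assoc _ _ A', Matrix.mul_assoc _ _ A', e2, Matrix.mul_one, Matrix.mul_one, Matrix.mul_assoc, F.qp, mul_one] at e3
    exact rfm_ne (F.two' c c1) e3
  have k5 : Set.InjOn g ↑(Finset.range a ×ˢ h1.toFinset) := by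
    rintro ⟨j, ρ⟩ hp ⟨j', ρ'⟩ hp' e
    obtain rfl : j = j' := le_antisymm (not_lt.1 (k4 _ hp' _ hp e.symm)) (not_lt.1 (k4 _ hp _ hp' e))
    have e1 : io P Q ρ = io P Q ρ' := (H.inv.pow j).mul_right_cancel (by rw [hg (j, ρ), hg (j, ρ'), e])
    have e2 := congrArg (fun M => Q * M * P) e1
    simp only [Q_io F.qp, Matrix.mul_assoc, F.qp, Matrix.mul_one] at e2
    rw [e2]
  rw [← Finset.sum_subset (s₁ := (Finset.range a ×ˢ h1.toFinset).image g) (fun x hx => by
      obtain ⟨p, hp, rfl⟩ := Finset.mem_image.1 hx
      exact k3 p hp) (fun x hx hx' => ?_), Finset.sum_image k5, Finset.sum_congr rfl (g := fun p => f (io P Q p.2 * A)) fun p hp => by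
      obtain ⟨b, b0, -, b1⟩ := (hS _).1 (k3 p hp)
      exact (f_pow h hA H.inv p.1 (b1 ▸ rfm_mem b0) (hg p)).symm, Finset.sum_product' _ _ fun _ ρ => f (io P Q ρ * A),
    Finset.sum_const, Finset.card_range, nsmul_eq_mul, mul_eq_zero, Nat.cast_eq_zero] at h0
  · exact h0.resolve_left H.pos.ne'
  obtain ⟨b, b0, b1, rfl⟩ := (hS _).1 hx
  rcases H.orb F hA b0 with ⟨j, hj, c, hc, e1, e2⟩ | k
  · exact absurd (Finset.mem_image.2 ⟨(j, rfm c), Finset.mem_product.2 ⟨Finset.mem_range.2 hj,
      h1.mem_toFinset.2 ⟨c, ⟨hc, (k0 j hj b c e1).1 b1⟩, rfl⟩⟩, k2 j b c e1 e2⟩) hx'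
  · exact h.bad _ ((Co.refl _ _).rf b0) ⟨μ, y1, y, isE_rf y2 (y4 _ k), y3⟩

/-- **the hypotheses go down** -/
theorem Cy.hy (F : Fm P Q Ψ Φ) (H : Cy P Q a A X) (hA : Nm A Ψ) (hq : Pq q l d e) (h : Hy Ψ A q l d f) {X' : Mat J}
    (hX : X * X' = 1) : Hy Φ X (q ^ a) l (orderOf ((q : ZMod (if l = 2 then 4 else l)) ^ a)) fun Y => f (io P Q (Y * X') * A) := by
  have k0 : ∀ w ∈ WW Φ, Cy P Q a (io P Q w * A) (w * X) ∧ Nm (io P Q w * A) Ψ ∧ Hy Ψ (io P Q w * A) q l d f := fun w hw => by
    have h1 := io_ww F.qp F.up hw
    obtain ⟨v, -, -, e⟩ := WW_inv F.two h1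
    exact ⟨H.mul F.qp (IsUnit.of_mul_eq_one v e), Nm.mul (Nm.of_WW F.nm h1) hA, h.mono ⟨_, h1, rfl⟩⟩
  have k1 : ∀ u w : Mat J, io P Q (u * (w * X) * X') * A = io P Q u * (io P Q w * A) := fun u w => by
    rw [mul_assoc u, mul_assoc w, hX, mul_one, io_mul F.qp, mul_assoc]
  refine ⟨?_, ?_, ?_⟩
  · rintro u hu _ ⟨w, hw, rfl⟩
    obtain ⟨H1, h1, h2⟩ := k0 w hw
    obtain ⟨v, -, e⟩ := Nm.ww (H1.nm F h1) hu
    simp only [e, k1]
    exact (H1.cj F h1 h2 hu e).symm
  · rintro _ ⟨w, hw, rfl⟩ hb
    obtain ⟨H1, -, h2⟩ := k0 w hw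
    obtain ⟨μ, y, y1, y2, y3, -⟩ := H1.bad F hq hb
    simpa only [mul_assoc w, hX, mul_one] using h2.bad _ (Co.refl _ _) ⟨μ, y1, y, y2, y3⟩
  · rintro _ ⟨w, hw, rfl⟩ hb τ hτ
    obtain ⟨H1, h1, h2⟩ := k0 w hw
    simpa only [k1] using H1.rel F h1 hq h2 hb hτ

/-! ### the components of a Cartan matrix -/

variable {C : Mat I} {D : I → ℤ} {i : I}

theorem cp_symm (h : Car C D) {i j : I} (e : Cp C i j) : Cp C j i := by
  induction e with
  | refl => exact .refl
  | @tail u v _ e ih =>
    refine .head (fun k => e ?_) ih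
    have := h.sym u v
    rw [k, mul_zero, mul_eq_zero] at this
    exact this.resolve_left (h.dpos v).ne'

theorem cp_iff (h : Car C D) {j k : I} (e : Cp C j k) : Cp C i j ↔ Cp C i k := ⟨fun a => a.trans e, fun a => a.trans (cp_symm h e)⟩

theorem cp_perm {π : Equiv.Perm I} (h : ∀ i j, C (π i) (π j) = C i j) {i j : I} : Cp C (π i) (π j) ↔ Cp C i j := by
  have key : ∀ σ : Equiv.Perm I, (∀ i j, C (σ i) (σ j) = C i j) → ∀ i j, Cp C i j → Cp C (σ i) (σ j) := fun σ h i j e =>
    e.lift σ fun a b k => (h a b).trans_ne k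
  refine ⟨fun e => ?_, key π h i j⟩
  simpa using key π.symm (fun a b => by rw [← h, π.apply_symm_apply, π.apply_symm_apply]) _ _ e

open Classical in
/-- the projection on a component -/
noncomputable def Ed (C : Mat I) (i : I) : Mat I := diagonal fun j => if Cp C i j then 1 else 0

theorem ed_of {M : Mat I} {i j : I} (h : ∀ x y, M x y ≠ 0 → (Cp C j x ↔ Cp C i y)) : M * Ed C i = Ed C j * M := by
  classical
  ext x y
  rw [Ed, Ed, mul_diagonal, diagonal_mul]
  by_cases k : M x y = 0
  · rw [k, zero_mul, mul_zero]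
  · rw [if_congr (h x y k) rfl rfl, mul_comm]

theorem ed_w (h : Car C D) {v : Mat I} (hv : v ∈ Wc C) (i : I) : v * Ed C i = Ed C i * v := by
  induction hv using Submonoid.closure_induction with
  | mem x hx =>
    obtain ⟨_, ⟨j, rfl⟩, rfl⟩ := hx
    refine ed_of fun x y k => ?_
    by_cases e : x = y
    · rw [e]
    · simp only [rfm, sp, Matrix.sub_apply, one_apply_ne e, vecMulVec_apply, zero_sub, neg_ne_zero, mul_ne_zero_iff] at k
      obtain rfl : x = j := by_contra fun e' => k.1 (Pi.single_eq_of_ne e' _)
      exact (cp_iff h (.single k.2)).symm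
  | one => rw [one_mul, mul_one]
  | mul x y _ _ hx hy => rw [mul_assoc, hy, ← mul_assoc, hx, mul_assoc]

theorem ed_pm {π : Equiv.Perm I} (h : ∀ i j, C (π i) (π j) = C i j) (i : I) : pm π * Ed C i = Ed C (π i) * pm π :=
  ed_of fun x y k => by
    obtain rfl : x = π y := by_contra fun e => k (if_neg e)
    exact cp_perm h

theorem ed_pow {π : Equiv.Perm I} (h : ∀ i, A * Ed C i = Ed C (π i) * A) (k : ℕ) (i : I) :
    A ^ k * Ed C i = Ed C ((π ^ k) i) * A ^ k := by
  induction k with
  | zero => rw [pow_zero, pow_zero, one_mul, mul_one, Equiv.Perm.one_apply]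
  | succ k ih => rw [pow_succ', mul_assoc, ih, ← mul_assoc, h, mul_assoc, pow_succ', Equiv.Perm.mul_apply]

/-- the component -/
abbrev Cm (C : Mat I) (i : I) : Type := {j // Cp C i j}

variable [Fintype (Cm C i)]

variable (C i) in
/-- the inclusion -/
def Pi' : Matrix I (Cm C i) ℤ := (1 : Mat I).submatrix id Subtype.val

variable (C i) in
/-- the projection -/
def Qi : Matrix (Cm C i) I ℤ := (1 : Mat I).submatrix Subtype.val id

theorem Qi_vec (v : Vec I) (j : Cm C i) : (Qi C i *ᵥ v) j = v j := by simp only [Qi, mulVec, dotProduct, one_apply, _root_.Matrix.submatrix_apply, _root_.id_eq, _root_.ite_mul, _root_.one_mul, _root_.MulZeroClass.zero_mul, _root_.Finset.sum_ite_eq, _root_.Finset.mem_univ, ↓ _root_.reduceIte]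

theorem vec_Pi (v : Vec I) (j : Cm C i) : (v ᵥ* Pi' C i) j = v j := by simp only [Pi', vecMul, dotProduct, one_apply, _root_.Matrix.submatrix_apply, _root_.id_eq, _root_.mul_ite, _root_.mul_one, _root_.MulZeroClass.mul_zero, _root_.Finset.sum_ite_eq', _root_.Finset.mem_univ, ↓ _root_.reduceIte]

theorem Qi_mul (M : Matrix I K ℤ) (j : Cm C i) (k : K) : (Qi C i * M) j k = M j k := by simp only [Qi, mul_apply, one_apply, _root_.Matrix.submatrix_apply, _root_.id_eq, _root_.ite_mul, _root_.one_mul, _root_.MulZeroClass.zero_mul, _root_.Finset.sum_ite_eq, _root_.Finset.mem_univ, ↓ _root_.reduceIte]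

theorem qp : Qi C i * Pi' C i = 1 := by
  ext j k
  rw [Qi_mul]
  simp [Pi', one_apply, Subtype.ext_iff]

theorem pq : Pi' C i * Qi C i = Ed C i := by
  ext j k
  rw [mul_apply, Ed, diagonal_apply]
  by_cases h : Cp C i j
  · rw [Finset.sum_eq_single ⟨j, h⟩ (fun x _ e => ?_) fun e => absurd (Finset.mem_univ _) e]
    · simp [Pi', Qi, one_apply, h]
    · rw [show Pi' C i j x = 0 from one_apply_ne fun e' => e (Subtype.ext e'.symm), zero_mul]
  · rw [if_neg h, ite_self]
    exact Finset.sum_eq_zero fun x _ => by rw [show Pi' C i j x = 0 from one_apply_ne fun e' => h ((show j = x from e') ▸ x.2), zero_mul]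

theorem com_P {M : Mat I} (h : M * Ed C i = Ed C i * M) : M * Pi' C i = Pi' C i * (Qi C i * M * Pi' C i) := by
  rw [← Matrix.mul_assoc, ← Matrix.mul_assoc, pq, ← h, ← pq, Matrix.mul_assoc, Matrix.mul_assoc, qp, Matrix.mul_one]

theorem com_Q {M : Mat I} (h : M * Ed C i = Ed C i * M) : Qi C i * M = Qi C i * M * Pi' C i * Qi C i := by
  rw [Matrix.mul_assoc, Matrix.mul_assoc, pq, h, ← pq, ← Matrix.mul_assoc, ← Matrix.mul_assoc, qp, Matrix.one_mul]

variable (C i) in
/-- the Cartan matrix of the component -/
def Ci : Mat (Cm C i) := C.submatrix Subtype.val Subtype.val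

theorem ex_sp (h : Car C D) (j : Cm C i) : ex (Pi' C i) (Qi C i) (sp (Ci C i) j) = sp C j := by
  have e : (sp (Ci C i) j).1 = (sp C j).1 ᵥ* Pi' C i := funext fun k => (vec_Pi (sp C j).1 k).symm
  refine Prod.ext (funext fun k => ?_) (funext fun k => ?_)
  · dsimp only [ex]
    rw [e, vecMul_vecMul, pq, Ed, vecMul_diagonal]
    by_cases k1 : C k j = 0
    · simp [sp, k1]
    · rw [if_pos ((cp_iff h (.single k1)).2 j.2), mul_one]
  · simp [ex, sp, Pi', one_apply, Pi.single_apply]

theorem car_Ci (h : Car C D) : Car (Ci C i) fun j => D j := by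
  refine ⟨fun j => h.diag j, fun j k e => h.off _ _ fun e' => e (Subtype.ext e'), fun j => h.dpos j, fun j k => h.sym j k,
    fun β hβ => ?_⟩
  have h1 := h.pos (β ᵥ* Qi C i) fun e => hβ (by rw [← vecMul_one β, ← qp, ← vecMul_vecMul, e, zero_vecMul])
  have h2 : ∀ v : Vec I, (β ᵥ* Qi C i) ⬝ᵥ v = ∑ j, β j * v j := fun v => by
    rw [← dotProduct_mulVec]
    exact Finset.sum_congr rfl fun j _ => by rw [Qi_vec]
  simp only [mul_assoc] at h1 ⊢
  refine h1.trans_eq ((h2 fun j => D j * (β ᵥ* Qi C i ᵥ* C) j).trans (Finset.sum_congr rfl fun j _ => ?_))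
  rw [show (β ᵥ* Qi C i ᵥ* C) j = (β ᵥ* Ci C i) j from h2 fun k => C k j]

theorem conn_Ci (h : Car C D) (j k : Cm C i) : Cp (Ci C i) j k := by
  have key : ∀ k, Cp C j k → ∀ hk : Cp C i k, Cp (Ci C i) j ⟨k, hk⟩ := fun k e => by
    induction e with
    | refl => exact fun _ => .refl
    | tail e1 e2 ih => exact fun _ => .tail (ih (j.2.trans e1)) e2
  exact key k ((cp_symm h j.2).trans k.2) k.2

theorem Qi_out {j : I} (hj : ¬ Cp C i j) : Qi C i *ᵥ (sp C j).2 = 0 := funext fun k => by
  rw [Qi_vec]
  exact Pi.single_eq_of_ne (fun e : k.1 = j => hj (e ▸ k.2)) _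

theorem res_w (h : Car C D) {v : Mat I} (hv : v ∈ Wc C) : Qi C i * v * Pi' C i ∈ Wc (Ci C i) := by
  induction hv using Submonoid.closure_induction with
  | mem x hx =>
    obtain ⟨_, ⟨j, rfl⟩, rfl⟩ := hx
    by_cases hj : Cp C i j
    · rw [← ex_sp h ⟨j, hj⟩, ← io_rfm, Q_io qp, Matrix.mul_assoc, qp, mul_one]
      exact rfm_mem ⟨_, rfl⟩
    · rw [show Qi C i * rfm (sp C j) * Pi' C i = 1 from mat_ext fun z => by
        rw [← mulVec_mulVec, ← mulVec_mulVec, rfm_mulVec, mulVec_sub, mulVec_smul, Qi_out hj, smul_zero, sub_zero, mulVec_mulVec, qp]]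
      exact one_mem _
  | one => rw [Matrix.mul_one, qp]; exact one_mem _
  | mul x y _ hy' hx hy =>
    rw [Matrix.mul_assoc, Matrix.mul_assoc, com_P (ed_w h hy' i), ← Matrix.mul_assoc, ← Matrix.mul_assoc]
    exact mul_mem hx hy

theorem fm_Ci (h : Car C D) (R : Rs C D) (R' : Rs (Ci C i) fun j => D j) : Fm (Pi' C i) (Qi C i) (Rc C) (Rc (Ci C i)) := by
  have up : ∀ c ∈ Rc (Ci C i), ex (Pi' C i) (Qi C i) c ∈ Rc C := by
    rintro c ⟨v, hv, j, e1, e2⟩
    refine ⟨_, io_ww qp ?_ hv, j, ?_, ?_⟩
    · rintro _ ⟨k, rfl⟩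
      exact ⟨k, (ex_sp h k).symm⟩
    · rw [← ex_sp h j, ex, ex, mulVec_mulVec, io_P qp, ← mulVec_mulVec, e1]
    · rw [← ex_sp h j, ex, ex, vecMul_vecMul, Q_io qp, ← vecMul_vecMul, e2]
  refine ⟨qp, up, fun b hb => ?_, R.fin, R'.fin, R.ext, R.two, R'.two, fun b hb => R.nm _ (R.ww ▸ rfm_mem hb)⟩
  obtain ⟨v, hv, j, e1, e2⟩ := id hb
  have h1 := res_w (i := i) h hv
  have h2 := com_P (ed_w h hv i)
  have h3 : b.1 ᵥ* Pi' C i ᵥ* (Qi C i * v * Pi' C i) = (sp C j).1 ᵥ* Pi' C i := by rw [vecMul_vecMul, ← h2, ← vecMul_vecMul, e2]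
  by_cases hj : Cp C i j
  · have h4 := ex_sp h ⟨j, hj⟩
    have h5 : (b.1 ᵥ* Pi' C i, (Qi C i * v * Pi' C i) *ᵥ (sp (Ci C i) ⟨j, hj⟩).2) ∈ Rc (Ci C i) :=
      ⟨_, h1, ⟨j, hj⟩, rfl, by rw [h3, ← h4, ex_P qp]⟩
    refine .inl ⟨_, h5, R.ext _ hb _ (up _ h5) ?_⟩
    rw [← e1, ← h4, ex, ex, mulVec_mulVec, mulVec_mulVec, h2]
  · refine .inr ⟨by rw [← e1, mulVec_mulVec, com_Q (ed_w h hv i), ← mulVec_mulVec, Qi_out hj, mulVec_zero], ?_⟩
    obtain ⟨z, -, -, e⟩ := R'.inv _ h1
    rw [← vecMul_one (b.1 ᵥ* Pi' C i), ← e, ← vecMul_vecMul, h3, show (sp C j).1 ᵥ* Pi' C i = 0 from funext fun k => ?_, zero_vecMul]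
    rw [vec_Pi]
    exact by_contra fun k1 => hj (k.2.tail k1)

theorem cy_Ci (h : Car C D) {π : Equiv.Perm I} (hu : IsUnit A) (hA : ∀ i, A * Ed C i = Ed C (π i) * A) :
    ∃ a, Cy (Pi' C i) (Qi C i) a A (Qi C i * A ^ a * Pi' C i) := by
  classical
  have h0 : ∃ a, 0 < a ∧ Cp C i ((π ^ a) i) := ⟨orderOf π, orderOf_pos π, by rw [pow_orderOf_eq_one]; exact .refl⟩
  have h1 := Nat.find_spec h0
  have h2 : A ^ Nat.find h0 * Ed C i = Ed C i * A ^ Nat.find h0 := by
    rw [ed_pow hA, ← one_mul (Ed C i), ed_of (j := (π ^ Nat.find h0) i) fun x y k => ?_, mul_one]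
    obtain rfl : x = y := by_contra fun e => k (one_apply_ne e)
    exact ⟨fun k => h1.2.trans k, fun k => (cp_symm h h1.2).trans k⟩
  refine ⟨Nat.find h0, h1.1, hu, fun k k1 k2 => ?_, com_P h2, com_Q h2⟩
  have h3 : Qi C i * Ed C ((π ^ k) i) = 0 := by
    ext x y
    rw [Qi_mul, Ed, diagonal_apply, if_neg fun e => Nat.find_min h0 k2 ⟨k1, x.2.trans (cp_symm h e)⟩, ite_self, Matrix.zero_apply]
  rw [← Matrix.mul_one (_ * Pi' C i), ← qp, ← Matrix.mul_assoc, Matrix.mul_assoc _ (Pi' C i), pq, Matrix.mul_assoc (Qi C i),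
    ed_pow hA, ← Matrix.mul_assoc, h3, Matrix.zero_mul, Matrix.zero_mul]

end Orb

open Orb

/-- **[Orb]** -/
theorem boxOrb (hR : BoxRs) (hCh : BoxCh) : BoxOrb := by
  intro l H I _ _ C D B hC hB q d e f hq hf A hA h0 μ ⟨j, hμ⟩ ⟨y, y1, c, _, y2⟩
  classical
  have R := hR C D hC
  have hn : Nm A (Rc C) := hA.nm (fun b hb => R.nm _ (R.ww ▸ rfm_mem hb)) hB
  obtain ⟨w, hw, π, hπ, e⟩ := hCh C D A hC hn
  obtain ⟨i, hi⟩ : ∃ i, y i ≠ 0 := Function.ne_iff.1 fun k => y2 (k ▸ dotProduct_zero' _)
  obtain ⟨w', -, -, e'⟩ := R.inv w hw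
  obtain ⟨a, Y⟩ := cy_Ci (i := i) (π := π) hC (e ▸ (IsUnit.of_mul_eq_one w' e').mul
    (IsUnit.of_mul_eq_one (pm π⁻¹) (by rw [← pm_mul, mul_inv_cancel, pm_one]))) fun k => by
      rw [e, mul_assoc, ed_pm hπ, ← mul_assoc, ed_w hC hw, mul_assoc]
  have hC' := car_Ci (i := i) hC
  have R' := hR _ _ hC'
  have F := fm_Ci hC R R'
  obtain ⟨X', hX⟩ := (Y.unit qp).exists_right_inv
  have : Nonempty (Cm C i) := ⟨⟨i, .refl⟩⟩
  refine H _ _ _ hC' (conn_Ci hC) (Y.nm F hn) _ _ _ _ (pq_pow hq a) (Y.hy F hn hq (hf.mono hA) hX) _ (Co.refl _ _)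
    (by rwa [hX, io_one, one_mul]) (μ ^ a) ⟨j, ?_⟩ ⟨ac (Qi C i) y, ?_, ?_⟩
  · rw [← pow_mul, mul_comm, pow_mul]
    exact prim_pow (hq.oe ▸ hμ) a
  · change ac _ _ = _
    rw [← ac_mul, ← Y.lf, ac_mul, ac_pow y1, ac_smul]
  · by_contra k
    have h1 := congrFun (R'.topC (ac (Qi C i) y) fun c hc => by_contra fun k' => k ⟨c, hc, k'⟩) ⟨i, .refl⟩
    exact hi (by simpa only [ac, Qi, mulVec, dotProduct, one_apply, _root_.Matrix.map_apply, _root_.Matrix.submatrix_apply, _root_.id_eq, _root_.Int.cast_ite, _root_.Int.cast_one, _root_.Int.cast_zero, _root_.ite_mul, _root_.one_mul, _root_.MulZeroClass.zero_mul, _root_.Finset.sum_ite_eq, _root_.Finset.mem_univ, ↓ _root_.reduceIte, _root_.Pi.zero_apply] using h1)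

end Cfsg.Agent.OM.Cu
end

-- part: OM/Cu/SA
section
/-!
# OM / Cu : the symmetric group (helper37)

`boxSA : BoxSA`.
-/

set_option autoImplicit false
set_option linter.unusedSectionVars false

namespace Cfsg.Agent.OM.Cu

open Cfsg Cfsg.Agent.HZ.L Equiv Equiv.Perm
open Matrix hiding swap swap_comm swap_mul_self

namespace SA

variable {I : Type} [Fintype I] [DecidableEq I]

/-- a non constant eigenvector -/
def Eg (ε μ : ℂ) (σ : Perm I) : Prop := ∃ y : I → ℂ, (∀ j, ε * y j = μ * y (σ j)) ∧ ∃ i j, y i ≠ y j

/-- the hypotheses, on permutations -/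
structure Hp (ε η : ℂ) (c : ℤ) (l : ℕ) (g : Perm I → ℂ) : Prop where
  cj : ∀ u σ, g (u * σ) = g (σ * u)
  bad : ∀ σ, Eg ε η σ → g σ = 0
  rel : ∀ σ, Eg ε η σ → ∀ τ : I → ℤ, (∀ j, (l : ℤ) ∣ c * τ (σ j) - τ j) → ∀ z : ℂ,
    (∀ i j, i ≠ j → (l : ℤ) ∣ τ i - τ j → g (swap i j * σ) = 0 ∨ g (swap i j * σ) = z) →
    ∀ i j, i ≠ j → (l : ℤ) ∣ τ i - τ j → g (swap i j * σ) = z → z = 0

variable {ε η : ℂ} {c : ℤ} {l : ℕ} {g : Perm I → ℂ}

theorem Hp.conj (H : Hp ε η c l g) {h σ : Perm I} (hc : Commute h σ) (a b : I) : g (swap (h a) (h b) * σ) = g (swap a b * σ) := by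
  rw [swap_apply_apply, mul_assoc, hc.inv_left.eq, mul_assoc, H.cj, mul_assoc, inv_mul_cancel_right]

theorem eg_set {σ : Perm I} (J : I → Prop) (h : ∀ j, J (σ j) ↔ J j) {a b : I} (ha : J a) (hb : ¬ J b) : Eg ε ε σ := by
  classical
  exact ⟨fun j => if J j then 1 else 0, fun j => by simp only [h], a, b, by simp [ha, hb]⟩

theorem eg_fix {σ : Perm I} {x b : I} (h : σ x = x) (hb : b ≠ x) : Eg ε ε σ :=
  eg_set (· = x) (fun j => by
    conv_lhs => rw [← h]
    exact σ.apply_eq_iff_eq) rfl hb

/-- the case of the trivial eigenvalue -/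
theorem Hp.one (H : Hp ε ε c l g) {x b : I} (hb : b ≠ x) (σ : Perm I) : g σ = 0 := by
  by_cases h0 : σ x = x
  · exact H.bad σ (eg_fix h0 hb)
  have h1 : (swap x (σ x) * σ) x = x := by rw [Perm.mul_apply, swap_apply_right]
  have h2 : swap x (σ x) * (swap x (σ x) * σ) = σ := swap_mul_self_mul _ _ _
  generalize swap x (σ x) * σ = σ' at h1 h2
  generalize σ x = w at h0 h2
  have key : ∀ j, j ≠ x → g (swap x j * σ') = 0 ∨ g (swap x j * σ') = g σ := fun j _ => by
    by_cases h3 : SameCycle σ' w j
    · obtain ⟨k, rfl⟩ := h3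
      have h4 := H.conj (Commute.zpow_self σ' k) x w
      rw [zpow_apply_eq_self_of_apply_eq_self h1, h2] at h4
      exact Or.inr h4
    · have h4 : ¬ SameCycle σ' w x := fun h => h0 (h.eq_of_right h1)
      refine Or.inl (H.bad _ (eg_set (SameCycle σ' w) (fun t => ?_) (SameCycle.refl _ _) h4))
      rw [← sameCycle_apply_right (y := t), Perm.mul_apply, swap_apply_def]
      split_ifs with e e
      · rw [e]; exact iff_of_false h3 h4
      · rw [e]; exact iff_of_false h4 h3
      · rfl
  refine H.rel σ' (eg_fix h1 hb) 0 (fun _ => by simp) _ (fun i j hij _ => ?_) x w (Ne.symm h0) (by simp) (by rw [h2])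
  by_cases hi : i = x
  · exact hi ▸ key j (hi ▸ hij.symm)
  by_cases hj : j = x
  · rw [hj, swap_comm]
    exact key i hi
  exact Or.inl (H.bad _ (eg_fix (by rw [Perm.mul_apply, h1, swap_apply_of_ne_of_ne (Ne.symm hi) (Ne.symm hj)]) hb))

theorem eg_two {σ : Perm I} {x x' : I} (hx : x ≠ x') (h : σ x = x') (h' : σ x' = x) : Eg ε (-ε) σ := by
  refine ⟨fun j => if j = x then 1 else if j = x' then -1 else 0, fun j => ?_, x, x', by
    simp only [if_true, if_neg hx.symm]; norm_num⟩
  by_cases h1 : j = x
  · simp [h1, h, hx.symm]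
  by_cases h2 : j = x'
  · simp [h2, h', hx.symm]
  have h3 : σ j ≠ x := fun e => h2 (σ.injective (e.trans h'.symm))
  have h4 : σ j ≠ x' := fun e => h1 (σ.injective (e.trans h.symm))
  simp [h1, h2, h3, h4]

theorem two_dvd {J : I → Prop} [DecidablePred J] {i j : I} :
    ((2 : ℕ) : ℤ) ∣ (if J i then 1 else 0) - (if J j then 1 else 0) ↔ (J i ↔ J j) := by
  by_cases h1 : J i <;> by_cases h2 : J j <;> simp [h1, h2]

theorem Hp.rel2 (H : Hp ε (-ε) c 2 g) (hc : Odd c) {σ : Perm I} {x x' : I} (hx : x ≠ x') (h : σ x = x') (h' : σ x' = x) (J : I → Prop)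
    (hJ : ∀ j, J (σ j) ↔ J j) {z : ℂ} (h1 : ∀ i j, i ≠ j → i = x ∨ i = x' → (J i ↔ J j) → g (swap i j * σ) = 0 ∨ g (swap i j * σ) = z)
    {j : I} (h2 : x ≠ j) (h3 : J x ↔ J j) (h4 : g (swap x j * σ) = z) : z = 0 := by
  classical
  refine H.rel σ (eg_two hx h h') (fun j => if J j then 1 else 0) (fun j => ?_) z (fun i j hij k => ?_) x j h2 (two_dvd.2 h3) h4
  · simp only [hJ]
    obtain ⟨m, rfl⟩ := hc
    exact ⟨m * if J j then 1 else 0, by push_cast; ring⟩
  · rw [two_dvd] at k
    by_cases hi : i = x ∨ i = x'
    · exact h1 i j hij hi k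
    by_cases hj : j = x ∨ j = x'
    · rw [swap_comm]
      exact h1 j i hij.symm hj k.symm
    rw [not_or] at hi hj
    exact Or.inl (H.bad _ (eg_two hx (by rw [Perm.mul_apply, h, swap_apply_of_ne_of_ne (Ne.symm hi.2) (Ne.symm hj.2)])
      (by rw [Perm.mul_apply, h', swap_apply_of_ne_of_ne (Ne.symm hi.1) (Ne.symm hj.1)])))

theorem inv_two {σ : Perm I} {x x' : I} (h : σ x = x') (h' : σ x' = x) (j : I) : σ j = x ∨ σ j = x' ↔ j = x ∨ j = x' := by
  conv_lhs => rw [← h', σ.apply_eq_iff_eq]
  conv_lhs => right; rw [← h, σ.apply_eq_iff_eq]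
  exact or_comm

theorem Hp.stepA (H : Hp ε (-ε) c 2 g) (hc : Odd c) {σ : Perm I} {x x' : I} (hx : x ≠ x') (h : σ x = x') (h' : σ x' = x) :
    g (swap x x' * σ) = 0 := by
  refine H.rel2 hc hx h h' (fun j => j = x ∨ j = x') (inv_two h h') (fun i j hij hi k => Or.inr ?_) hx (by simp) rfl
  rcases hi with rfl | rfl <;> rcases k.1 (by simp) with rfl | rfl
  · exact absurd rfl hij
  · rfl
  · rw [swap_comm]
  · exact absurd rfl hij

/-- the case of the eigenvalue minus one -/
theorem Hp.two (H : Hp ε (-ε) c 2 g) (hc : Odd c) {a b : I} (hb : b ≠ a) (σ : Perm I) : g σ = 0 := by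
  by_cases h0 : σ = 1
  · have := H.stepA hc hb (swap_apply_left b a) (swap_apply_right b a)
    rwa [swap_mul_self, ← h0] at this
  obtain ⟨x, hx⟩ : ∃ x, σ x ≠ x := not_forall.1 fun h => h0 (Equiv.ext h)
  by_cases h1 : σ (σ x) = x
  · exact H.bad σ (eg_two hx.symm rfl h1)
  have h2 : σ (σ x) ≠ σ x := σ.injective.ne hx
  have h3 : (swap x (σ (σ x)) * σ) x = σ x := by rw [Perm.mul_apply, swap_apply_of_ne_of_ne hx h2.symm]
  have h4 : (swap x (σ (σ x)) * σ) (σ x) = x := by rw [Perm.mul_apply, swap_apply_right]
  have h5 : swap x (σ (σ x)) * (swap x (σ (σ x)) * σ) = σ := swap_mul_self_mul _ _ _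
  generalize swap x (σ (σ x)) * σ = σ' at h3 h4 h5
  generalize σ (σ x) = w at h1 h2 h5
  generalize σ x = x' at hx h2 h3 h4
  have h6 : ∀ k : ℕ, (σ' ^ k) x = x ∨ (σ' ^ k) x = x' := fun k => by
    induction k with
    | zero => exact Or.inl rfl
    | succ k ih => rwa [pow_succ', Perm.mul_apply, inv_two h3 h4]
  have h7 : ∀ j, j ≠ x → j ≠ x' → g (swap x' j * σ') = g (swap x j * σ') := fun j k1 k2 => by
    have k3 := H.conj (h := swap x x') (σ := σ') (by rw [Commute, SemiconjBy, mul_swap_eq_swap_mul, h3, h4, swap_comm]) x j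
    rwa [swap_apply_left, swap_apply_of_ne_of_ne k1 k2] at k3
  refine H.rel2 hc hx.symm h3 h4 (fun j => (j = x ∨ j = x') ∨ SameCycle σ' w j)
    (fun j => or_congr (inv_two h3 h4 j) sameCycle_apply_right) (fun i j hij hi k => ?_) (Ne.symm h1)
    (iff_of_true (Or.inl (Or.inl rfl)) (Or.inr (SameCycle.refl _ _))) (by rw [h5])
  by_cases hj : j = x ∨ j = x'
  · refine Or.inl ?_
    rcases hi with rfl | rfl <;> rcases hj with rfl | rfl
    · exact absurd rfl hij
    · exact H.stepA hc hij h3 h4
    · exact H.stepA hc hij h4 h3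
    · exact absurd rfl hij
  obtain ⟨m, -, rfl⟩ := ((k.1 (Or.inl hi)).resolve_left hj).exists_pow_eq'
  rw [not_or] at hj
  have k1 := H.conj ((Commute.refl σ').pow_left m) x w
  rw [h5] at k1
  have k2 : g (swap x ((σ' ^ m) w) * σ') = g σ := by
    rcases h6 m with e | e <;> rw [e] at k1
    · exact k1
    · exact (h7 _ hj.1 hj.2).symm.trans k1
  rcases hi with rfl | rfl
  · exact Or.inr k2
  · exact Or.inr ((h7 _ hj.1 hj.2).trans k2)

/-! ### the matrices -/

theorem pm_mul (σ σ' : Perm I) : pm (σ * σ') = pm σ * pm σ' := by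
  ext i k
  simp only [pm, Matrix.mul_apply, of_apply, mul_ite, mul_one, mul_zero, Finset.sum_ite_eq', Finset.mem_univ, if_true, Perm.mul_apply]
  congr

theorem pm_one : pm (1 : Perm I) = 1 := by
  ext i k
  simp only [pm, Matrix.one_apply, of_apply, Perm.one_apply]
  congr

/-- the root -/
def rt (i j : I) : Vec I × Vec I := (Pi.single i 1 - Pi.single j 1, Pi.single i 1 - Pi.single j 1)

theorem mem_std {a : Vec I × Vec I} : a ∈ std .D (fun _ : I => 1) ↔ ∃ i j, i ≠ j ∧ a = rt i j := by
  simp only [std, rt, _root_.ne_eq, _root_.true_and, _root_.one_ne_zero, _root_.false_and, _root_.and_self, _root_.and_false, _root_.exists_const, _root_.exists_false, _root_.reduceCtorEq, _root_.or_self, _root_.or_false, _root_.Set.mem_ofPred_eq]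

theorem rfm_rt {i j : I} (h : i ≠ j) : rfm (rt i j) = pm (swap i j) := by
  ext a b
  simp only [rfm, rt, pm, Matrix.sub_apply, Matrix.one_apply, vecMulVec_apply, Pi.sub_apply, Pi.single_apply, of_apply, swap_apply_def]
  by_cases h1 : a = i <;> by_cases h2 : a = j <;> by_cases h3 : b = i <;> by_cases h4 : b = j <;> simp_all [eq_comm]

theorem mem_WW {w : Mat I} : w ∈ WW (std .D fun _ : I => 1) ↔ ∃ σ, w = pm σ := by
  constructor
  · intro h
    induction h using Submonoid.closure_induction with
    | mem x hx =>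
      obtain ⟨a, ha, rfl⟩ := hx
      obtain ⟨i, j, h, rfl⟩ := mem_std.1 ha
      exact ⟨_, rfm_rt h⟩
    | one => exact ⟨1, pm_one.symm⟩
    | mul x y _ _ hx hy =>
      obtain ⟨σ, rfl⟩ := hx
      obtain ⟨σ', rfl⟩ := hy
      exact ⟨_, (pm_mul σ σ').symm⟩
  · rintro ⟨σ, rfl⟩
    induction σ using swap_induction_on with
    | one => rw [pm_one]; exact one_mem _
    | swap_mul f x y h ih =>
      rw [pm_mul]
      exact mul_mem (Submonoid.subset_closure ⟨_, mem_std.2 ⟨x, y, h, rfl⟩, rfm_rt h⟩) ih

theorem dot_rt (v : Vec I) (i j : I) : v ⬝ᵥ (rt i j).2 = v i - v j := by simp only [rt, _root_.dotProduct_sub, _root_.dotProduct_single, _root_.mul_one]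

theorem eig_iff {s : ℤ} {μ : ℂ} {σ : Perm I} : Eig (std .D fun _ : I => 1) (pm σ * (s • 1)) μ ↔ Eg s μ σ := by
  refine exists_congr fun y => and_congr ?_ ?_
  · rw [IsE, funext_iff, ← σ.forall_congr_right]
    refine forall_congr' fun j => Eq.congr_left ?_
    rw [Matrix.mul_smul, mul_one]
    simp only [pm, mulVec, dotProduct, _root_.Matrix.smul_of, _root_.zsmul_eq_mul, _root_.Matrix.map_apply, _root_.Matrix.of_apply, _root_.Pi.mul_apply, _root_.Pi.intCast_apply, _root_.EmbeddingLike.apply_eq_iff_eq, _root_.Int.cast_eq, _root_.mul_ite, _root_.mul_one, _root_.MulZeroClass.mul_zero, _root_.Int.cast_ite, _root_.Int.cast_zero, _root_.ite_mul, _root_.MulZeroClass.zero_mul, _root_.Finset.sum_ite_eq, _root_.Finset.mem_univ, ↓ _root_.reduceIte]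
  · have e : ∀ i j : I, ev (rt i j).1 y = y i - y j := fun i j => by
      simp only [ev, rt, dotProduct, Pi.single_apply, sub_mul, Finset.sum_sub_distrib, _root_.Pi.sub_apply, _root_.Int.cast_sub, _root_.Int.cast_ite, _root_.Int.cast_one, _root_.Int.cast_zero, _root_.ite_mul, _root_.one_mul, _root_.MulZeroClass.zero_mul, _root_.Finset.sum_ite_eq', _root_.Finset.mem_univ, ↓ _root_.reduceIte]
    constructor
    · rintro ⟨a, ha, h⟩
      obtain ⟨i, j, -, rfl⟩ := mem_std.1 ha
      exact ⟨i, j, sub_ne_zero.1 (e i j ▸ h)⟩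
    · rintro ⟨i, j, h⟩
      exact ⟨_, mem_std.2 ⟨i, j, fun k => h (k ▸ rfl), rfl⟩, (e i j).symm ▸ sub_ne_zero.2 h⟩

theorem eq_zero_of_sum {α : Type} {S : Set α} (hS : S.Finite) {F : α → ℂ} (h : ∑ᶠ a ∈ S, F a = 0) {z : ℂ}
    (h1 : ∀ a ∈ S, F a = 0 ∨ F a = z) {a : α} (ha : a ∈ S) (h2 : F a = z) : z = 0 := by
  classical
  rw [finsum_mem_eq_finite_toFinset_sum _ hS, ← Finset.sum_filter_add_sum_filter_not _ (F · = z),
    Finset.sum_congr rfl fun a ha => (Finset.mem_filter.1 ha).2,
    Finset.sum_eq_zero fun a ha => (h1 a (hS.mem_toFinset.1 (Finset.mem_filter.1 ha).1)).resolve_right (Finset.mem_filter.1 ha).2,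
    add_zero, Finset.sum_const, nsmul_eq_mul, mul_eq_zero, Nat.cast_eq_zero, Finset.card_eq_zero] at h
  exact h.resolve_left (Finset.ne_empty_of_mem (Finset.mem_filter.2 ⟨hS.mem_toFinset.2 ha, h2⟩))

theorem hp_of {s q : ℤ} {d : ℕ} {f : Mat I → ℂ} (H : Hy (std .D fun _ : I => 1) (s • 1) q l d f) (hη : IsPrimitiveRoot η d) :
    Hp s η (q * s) l fun σ : Perm I => f (pm σ * (s • 1)) := by
  have co : ∀ σ : Perm I, Co (std .D fun _ : I => 1) (s • 1) (pm σ * (s • 1)) := fun σ => ⟨_, mem_WW.2 ⟨σ, rfl⟩, rfl⟩
  refine ⟨fun u σ => ?_, fun σ h => H.bad _ (co σ) ⟨η, hη, eig_iff.2 h⟩, fun σ h τ h1 z h2 i j hij h3 h4 => ?_⟩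
  · have := H.cj _ (mem_WW.2 ⟨u, rfl⟩) _ (co σ)
    rw [pm_mul, pm_mul, mul_assoc, this, mul_assoc, mul_assoc, Matrix.mul_smul, Matrix.smul_mul, mul_one, one_mul]
  · have e : ∀ j, (q • (τ ᵥ* (pm σ * (s • 1 : Mat I))) - τ : Vec I) j = q * s * τ (σ j) - τ j := fun j => by
      rw [Matrix.mul_smul, mul_one, vecMul_smul]
      simp only [pm, vecMul, dotProduct, mul_assoc, _root_.zsmul_eq_mul, _root_.Pi.sub_apply, _root_.Pi.mul_apply, _root_.Pi.intCast_apply, _root_.Int.cast_eq, _root_.Matrix.of_apply, _root_.mul_ite, _root_.mul_one, _root_.MulZeroClass.mul_zero, _root_.Finset.sum_ite_eq', _root_.Finset.mem_univ, ↓ _root_.reduceIte]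
    refine eq_zero_of_sum (Set.Finite.image _ ((Set.finite_range fun x : I × I => rt x.1 x.2).subset fun a ha => ?_))
      (H.rel _ (co σ) ⟨η, hη, eig_iff.2 h⟩ τ fun a ha => ?_) ?_
      ⟨_, ⟨mem_std.2 ⟨i, j, hij, rfl⟩, by rwa [dot_rt]⟩, rfm_rt hij⟩ (by rw [← h4, pm_mul, mul_assoc])
    · obtain ⟨i, j, -, rfl⟩ := mem_std.1 ha.1
      exact ⟨(i, j), rfl⟩
    · obtain ⟨i, j, -, rfl⟩ := mem_std.1 ha
      rw [dot_rt, e, e]
      exact dvd_sub (h1 i) (h1 j)
    · rintro _ ⟨a, ⟨ha, k⟩, rfl⟩
      obtain ⟨i, j, hij, rfl⟩ := mem_std.1 ha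
      rw [dot_rt] at k
      rw [rfm_rt hij, ← mul_assoc, ← pm_mul]
      exact h2 i j hij k

end SA

open SA in
/-- **[SA]** -/
theorem boxSA : BoxSA := by
  rintro l n ε q d e f P H _ ⟨_, hw, rfl⟩ hf μ ⟨j, hμ⟩ hE
  obtain ⟨σ, rfl⟩ := mem_WW.1 hw
  obtain ⟨y, h1, a, b, hab⟩ := eig_iff.1 hE
  have hne : a ≠ b := fun e => hab (e ▸ rfl)
  have hd := P.od
  by_cases h2 : l = 2
  · subst h2
    have hq : Odd q := Int.not_even_iff_odd.1 fun h => P.nd (even_iff_two_dvd.1 h)
    have hc : Odd (q * ε) := hq.mul (by rcases Int.units_eq_one_or ε with rfl | rfl <;> simp)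
    rw [if_pos rfl] at hd
    have h3 : d ∣ 2 := by
      obtain ⟨m, rfl⟩ := hq
      rw [← hd, orderOf_dvd_iff_pow_eq_one]
      push_cast
      generalize (m : ZMod 4) = x
      revert x
      decide
    have h4 : IsPrimitiveRoot ((ε : ℤ) : ℂ) d ∨ IsPrimitiveRoot (-((ε : ℤ) : ℂ)) d := by
      have k1 : IsPrimitiveRoot (-1 : ℂ) 2 := IsPrimitiveRoot.neg_one 0 (by norm_num)
      rcases (Nat.dvd_prime Nat.prime_two).1 h3 with rfl | rfl <;> rcases Int.units_eq_one_or ε with rfl | rfl <;> simp [k1]
    rcases h4 with h4 | h4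
    · exact hf ((hp_of H h4).one hne σ)
    · exact hf ((hp_of H h4).two hc hne σ)
  · rw [if_neg h2, P.oe] at hd
    subst hd
    have h3 : ((ε : ℤ) : ℂ) ^ l ^ j = (ε : ℤ) := by
      have k1 : Odd (l ^ j) := (P.lp.odd_of_ne_two h2).pow
      rcases Int.units_eq_one_or ε with rfl | rfl <;> simp [k1.neg_one_pow]
    have h4 : ∀ i, ((ε : ℤ) : ℂ) * y i ^ l ^ j = μ ^ l ^ j * y (σ i) ^ l ^ j := fun i => by rw [← mul_pow, ← h1, mul_pow, h3]
    by_cases h5 : ∃ i i', y i ^ l ^ j ≠ y i' ^ l ^ j
    · exact hf ((hp_of H hμ).bad σ ⟨_, h4, h5⟩)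
    push Not at h5
    obtain ⟨i, hi⟩ : ∃ i, y i ≠ 0 := by
      by_contra k
      push Not at k
      exact hab ((k a).trans (k b).symm)
    have h6 := h4 i
    rw [h5 (σ i) i] at h6
    exact hf ((hp_of H (mul_right_cancel₀ (pow_ne_zero _ hi) h6 ▸ hμ)).one hne σ)

end Cfsg.Agent.OM.Cu
end

-- part: OM/Cu/A
section
/-!
# OM / Cu : the box `A` (helper78)
-/

set_option autoImplicit false
set_option linter.unusedSectionVars false

namespace Cfsg.Agent.OM.Cu

open Cfsg Matrix Cfsg.Agent.HZ.L Cfsg.Agent.BZ.TA Equiv

namespace A78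

section Gen

variable {R I : Type} [Fintype R] [DecidableEq R] [Fintype I] [DecidableEq I]

theorem pm_single (σ : Perm I) (j : I) : pm σ *ᵥ Pi.single j 1 = Pi.single (σ j) 1 := by
  rw [mulVec_single_one]
  exact funext fun i => (Pi.single_apply _ _ _).symm

theorem single_pm (σ : Perm I) (j : I) : Pi.single (σ j) 1 ᵥ* pm σ = Pi.single j 1 := by
  rw [single_one_vecMul]
  exact funext fun i => (if_congr (σ.injective.eq_iff.trans eq_comm) rfl rfl).trans (Pi.single_apply _ _ _).symm

theorem pm_mul (σ τ : Perm I) : pm (σ * τ) = pm σ * pm τ :=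
  ext_of_mulVec_single fun j => by rw [← mulVec_mulVec, pm_single, pm_single, pm_single, Perm.mul_apply]

theorem pm_one : pm (1 : Perm I) = 1 := ext_of_mulVec_single fun j => by rw [pm_single, one_mulVec, Perm.one_apply]

theorem rfm_mul {P : Matrix R I ℤ} {a : Vec I × Vec I} {b : Vec R × Vec R} (h1 : P *ᵥ a.2 = b.2) (h2 : b.1 ᵥ* P = a.1) :
    rfm b * P = P * rfm a := by
  show (1 - vecMulVec b.2 b.1) * P = P * (1 - vecMulVec a.2 a.1)
  rw [Matrix.sub_mul, Matrix.mul_sub, Matrix.one_mul, Matrix.mul_one, vecMulVec_mul, mul_vecMulVec, h1, h2]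

/-- the pair of a transposition -/
def ee (i j : R) : Vec R := Pi.single i 1 - Pi.single j 1

theorem ee_dot (i j : R) (v : Vec R) : ee i j ⬝ᵥ v = v i - v j := by
  rw [ee, sub_dotProduct, single_one_dotProduct, single_one_dotProduct]

theorem pm_ee (σ : Perm R) (i j : R) : pm σ *ᵥ ee i j = ee (σ i) (σ j) := by rw [ee, mulVec_sub, pm_single, pm_single, ee]

theorem ee_pm (σ : Perm R) (i j : R) : ee (σ i) (σ j) ᵥ* pm σ = ee i j := by rw [ee, sub_vecMul, single_pm, single_pm, ee]

theorem neg_ee (i j : R) : -ee i j = ee j i := neg_sub _ _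

theorem mem_std {a : Vec R × Vec R} : a ∈ std .D (fun _ : R => 1) ↔ ∃ i j, i ≠ j ∧ a = (ee i j, ee i j) :=
  ⟨fun h => h.elim (fun ⟨i, j, h, _, e⟩ => ⟨i, j, h, e⟩) fun h => h.elim (fun ⟨_, _, _, _, h, _⟩ => (one_ne_zero h).elim)
    fun ⟨_, _, h, _⟩ => (one_ne_zero h).elim, fun ⟨i, j, h, e⟩ => .inl ⟨i, j, h, rfl, e⟩⟩

theorem rfm_ee {i j : R} (h : i ≠ j) : rfm (ee i j, ee i j) = pm (_root_.Equiv.swap i j) := ext_of_mulVec_single fun k => by
  show (1 - vecMulVec (ee i j) (ee i j)) *ᵥ _ = _
  rw [pm_single, sub_mulVec, one_mulVec, vecMulVec_mulVec, ee_dot, ee]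
  by_cases h1 : k = i
  · subst h1
    simp [h.symm]
  by_cases h2 : k = j
  · subst h2
    simp [h]
  simp [swap_apply_of_ne_of_ne h1 h2, Ne.symm h1, Ne.symm h2]

theorem nm_pm (σ : Perm R) : Nm (pm σ) (std .D fun _ : R => 1) := fun _ ha => by
  obtain ⟨i, j, h, rfl⟩ := mem_std.1 ha
  exact ⟨_, mem_std.2 ⟨σ i, σ j, σ.injective.ne h, rfl⟩, pm_ee σ i j, ee_pm σ i j⟩

theorem nm_eps (ε : ℤˣ) : Nm ((ε : ℤ) • (1 : Mat R)) (std .D fun _ : R => 1) := fun a ha => by
  obtain ⟨i, j, h, rfl⟩ := mem_std.1 ha
  rcases Int.units_eq_one_or ε with rfl | rfl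
  · exact ⟨_, ha, by simp, by simp⟩
  · exact ⟨_, mem_std.2 ⟨j, i, h.symm, rfl⟩, by simp only [neg_mulVec, neg_ee, _root_.Units.val_neg, _root_.Units.val_one, _root_.Int.reduceNeg, _root_.neg_smul, _root_.one_smul, _root_.Matrix.one_mulVec], by simp only [vecMul_neg, neg_ee, _root_.Units.val_neg, _root_.Units.val_one, _root_.Int.reduceNeg, _root_.neg_smul, _root_.one_smul, _root_.Matrix.vecMul_one]⟩

/-- change of the representative -/
theorem cu_mul {l : ℕ} {Ψ : RS R} {B w u : Mat R} (hw : w ∈ WW Ψ) (hu : u ∈ WW Ψ) (e : u * w = 1) (h : Cu l Ψ B) :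
    Cu l Ψ (w * B) := by
  have h1 : ∀ A, Co Ψ (w * B) A ↔ Co Ψ B A := fun A =>
    ⟨fun ⟨v, hv, k⟩ => ⟨v * w, mul_mem hv hw, k.trans (mul_assoc _ _ _).symm⟩,
      fun ⟨v, hv, k⟩ => ⟨v * u, mul_mem hv hu, by rw [k, mul_assoc, ← mul_assoc u, e, one_mul]⟩⟩
  exact fun q d e f hq H A hA => h q d e f hq ⟨fun u hu A h => H.cj u hu A ((h1 A).2 h), fun A h => H.bad A ((h1 A).2 h),
    fun A h => H.rel A ((h1 A).2 h)⟩ A ((h1 A).1 hA)

end Gen

variable {n : ℕ}

theorem cA_def (i j : ℕ) : cA i j = if i = j then 2 else if i + 1 = j ∨ j + 1 = i then -1 else 0 := rfl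

/-- the simple coroots -/
def fr (n : ℕ) : Matrix (Fin (n + 1)) (Fin n) ℤ := of fun r j => ee j.castSucc j.succ r

theorem fr_single (j : Fin n) : fr n *ᵥ (sp (cm n cA) j).2 = ee j.castSucc j.succ := mulVec_single_one _ _

theorem ee_fr (i : Fin n) : ee i.castSucc i.succ ᵥ* fr n = (sp (cm n cA) i).1 := funext fun j => by
  show ee i.castSucc i.succ ⬝ᵥ ee j.castSucc j.succ = cA j i
  simp only [ee_dot, cA_def]
  simp only [ee, Pi.sub_apply, Pi.single_apply, Fin.ext_iff, Fin.val_castSucc, Fin.val_succ]
  (first | (lia; done) | (split_ifs <;> omega))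

theorem left_inv : (of fun j r => if (r : ℕ) ≤ j then 1 else 0 : Matrix (Fin n) (Fin (n + 1)) ℤ) * fr n = 1 :=
  Matrix.ext fun j i => by
    show _ ⬝ᵥ ee i.castSucc i.succ = _
    rw [dotProduct_comm, ee_dot]
    simp only [of_apply, one_apply, Fin.ext_iff, Fin.val_castSucc, Fin.val_succ]
    (first | (lia; done) | (split_ifs <;> omega))

theorem fr_inj (v : Vec (Fin n)) (h : fr n *ᵥ v = 0) : v = 0 := by
  rw [← one_mulVec v, ← left_inv, ← mulVec_mulVec, h, mulVec_zero]

theorem car : Car (cm n cA) fun _ => 1 := by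
  have h : cm n cA = (fr n)ᵀ * fr n := Matrix.ext fun i j => (congrFun (ee_fr j) i).symm.trans (dotProduct_comm _ _)
  refine ⟨fun i => if_pos rfl, fun i j hij => ?_, fun _ => one_pos, fun i j => ?_, fun β hβ => ?_⟩
  · show cA i j ≤ 0
    rw [cA_def, if_neg (Fin.val_injective.ne hij)]
    split_ifs <;> omega
  · rw [h, one_mul, one_mul]
    exact dotProduct_comm _ _
  · simp only [mul_one]
    show 0 < β ⬝ᵥ (β ᵥ* cm n cA)
    rw [h, ← vecMul_vecMul, vecMul_transpose, dotProduct_comm, ← dotProduct_mulVec]
    exact lt_of_le_of_ne (Finset.sum_nonneg fun _ _ => mul_self_nonneg _) fun e =>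
      hβ (fr_inj β (dotProduct_self_eq_zero.1 e.symm))

theorem swap_fr (k : Fin n) : pm (_root_.Equiv.swap k.castSucc k.succ) * fr n = fr n * rfm (sp (cm n cA) k) := by
  rw [← rfm_ee k.castSucc_lt_succ.ne]
  exact rfm_mul (fr_single k) (ee_fr k)

theorem exists_w (σ : Perm (Fin (n + 1))) : ∃ w ∈ Wc (cm n cA), pm σ * fr n = fr n * w := by
  have h : σ ∈ Submonoid.closure (Set.range fun i : Fin n => _root_.Equiv.swap i.castSucc i.succ) :=
    Perm.mclosure_swap_castSucc_succ n ▸ Submonoid.mem_top σ
  induction h using Submonoid.closure_induction with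
  | mem _ h =>
    obtain ⟨k, rfl⟩ := h
    exact ⟨_, Submonoid.subset_closure ⟨_, ⟨k, rfl⟩, rfl⟩, swap_fr k⟩
  | one => exact ⟨1, one_mem _, by rw [pm_one, Matrix.one_mul, Matrix.mul_one]⟩
  | mul _ _ _ _ h h' =>
    obtain ⟨u, hu, e⟩ := h
    obtain ⟨v, hv, e'⟩ := h'
    exact ⟨u * v, mul_mem hu hv, by rw [pm_mul, Matrix.mul_assoc, e', ← Matrix.mul_assoc, e, Matrix.mul_assoc]⟩

theorem exists_perm {w : Mat (Fin n)} (h : w ∈ Wc (cm n cA)) : ∃ σ : Perm (Fin (n + 1)), pm σ * fr n = fr n * w := by
  induction h using Submonoid.closure_induction with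
  | mem _ h =>
    obtain ⟨_, ⟨k, rfl⟩, rfl⟩ := h
    exact ⟨_, swap_fr k⟩
  | one => exact ⟨1, by rw [pm_one, Matrix.one_mul, Matrix.mul_one]⟩
  | mul _ _ _ _ h h' =>
    obtain ⟨u, e⟩ := h
    obtain ⟨v, e'⟩ := h'
    exact ⟨u * v, by rw [pm_mul, Matrix.mul_assoc, e', ← Matrix.mul_assoc, e, Matrix.mul_assoc]⟩

/-- **the frame** -/
theorem tr (H : Rs (cm n cA) fun _ => 1) : Tr (fr n) (Rc (cm n cA)) (std .D fun _ => 1) := by
  have h0 : ∀ {σ : Perm (Fin (n + 1))} {w : Mat (Fin n)} (_ : pm σ * fr n = fr n * w) (k : Fin n), fr n *ᵥ (w *ᵥ (sp (cm n cA) k).2) = ee (σ k.castSucc) (σ k.succ) ∧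
      ee (σ k.castSucc) (σ k.succ) ᵥ* fr n ᵥ* w = (sp (cm n cA) k).1 := fun e k =>
    ⟨by rw [mulVec_mulVec, ← e, ← mulVec_mulVec, fr_single, pm_ee], by rw [vecMul_vecMul, ← e, ← vecMul_vecMul, ee_pm, ee_fr]⟩
  refine ⟨fr_inj, fun a ⟨w, hw, k, h1, h2⟩ => ?_, fun b hb => ?_, fun b hb b' hb' e => ?_, fun b hb => ?_⟩
  · obtain ⟨σ, e⟩ := exists_perm hw
    obtain ⟨u, -, -, h3⟩ := H.inv w hw
    refine ⟨_, mem_std.2 ⟨_, _, σ.injective.ne k.castSucc_lt_succ.ne, rfl⟩, h1 ▸ (h0 e k).1, ?_⟩
    have h4 := congrArg (· ᵥ* u) ((h0 e k).2.trans h2.symm)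
    simpa only [vecMul_vecMul, Matrix.mul_assoc, h3, Matrix.mul_one, vecMul_one] using h4
  · obtain ⟨i, j, h, rfl⟩ := mem_std.1 hb
    have hn : 0 < n := Nat.pos_of_ne_zero fun e => h (by subst e; exact Subsingleton.elim (α := Fin 1) _ _)
    obtain ⟨σ, e1⟩ := Perm.exists_extending_pair (f := ![(⟨0, hn⟩ : Fin n).castSucc, (⟨0, hn⟩ : Fin n).succ]) (g := ![i, j])
      (injective_pair_iff_ne.2 (Fin.castSucc_lt_succ).ne) (injective_pair_iff_ne.2 h)
    obtain ⟨w, hw, e⟩ := exists_w σ
    have h1 := h0 e ⟨0, hn⟩
    rw [show σ (Fin.castSucc ⟨0, hn⟩) = i from e1 0, show σ (Fin.succ ⟨0, hn⟩) = j from e1 1] at h1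
    exact ⟨(ee i j ᵥ* fr n, w *ᵥ (sp (cm n cA) ⟨0, hn⟩).2), ⟨w, hw, _, rfl, h1.2⟩, h1.1, rfl⟩
  · obtain ⟨i, j, -, rfl⟩ := mem_std.1 hb
    obtain ⟨i', j', -, rfl⟩ := mem_std.1 hb'
    exact Prod.ext e e
  · obtain ⟨i, j, h, rfl⟩ := mem_std.1 hb
    exact rfm_ee h ▸ nm_pm _

theorem eq_one {π : Perm (Fin n)} (h : ∀ i j : Fin n, cA (π i) (π j) = cA i j)
    (h0 : ∀ hn : 1 < n, (π ⟨0, Nat.zero_lt_of_lt hn⟩ : ℕ) ≤ π ⟨1, hn⟩) : π = 1 := by
  have h1 : ∀ k (hk : k + 1 < n), (π ⟨k, Nat.lt_of_succ_lt hk⟩ : ℕ) + 1 = π ⟨k + 1, hk⟩ ∨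
      (π ⟨k + 1, hk⟩ : ℕ) + 1 = π ⟨k, Nat.lt_of_succ_lt hk⟩ :=
    fun k hk => by
      have h2 := h ⟨k, Nat.lt_of_succ_lt hk⟩ ⟨k + 1, hk⟩
      rw [show cA (Fin.val (n := n) ⟨k, _⟩) (Fin.val (n := n) ⟨k + 1, hk⟩) = -1 from
        (if_neg k.succ_ne_self.symm).trans (if_pos (.inl rfl)), cA_def] at h2
      split_ifs at h2 <;> omega
  have h2 : ∀ k (hk : k + 1 < n), (π ⟨k, Nat.lt_of_succ_lt hk⟩ : ℕ) ≤ π ⟨k + 1, hk⟩ := fun k => by
    induction k with
    | zero => exact h0
    | succ k ih =>
      intro hk
      have h2 := ih (Nat.lt_of_succ_lt hk)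
      have h3 := h1 k (Nat.lt_of_succ_lt hk)
      have h4 := h1 (k + 1) hk
      have h5 : (π ⟨k, Nat.lt_of_succ_lt (Nat.lt_of_succ_lt hk)⟩ : ℕ) ≠ π ⟨k + 1 + 1, hk⟩ := fun e => by
        have := congrArg Fin.val (π.injective (Fin.ext e))
        simp only at this
        omega
      omega
  refine (Perm.monotone_iff π).1 ?_
  cases n with
  | zero => exact fun a => a.elim0
  | succ n => exact Fin.monotone_iff_le_succ.2 fun i => h2 i (Nat.succ_lt_succ i.2)

theorem eq_or {π : Perm (Fin n)} (h : ∀ i j : Fin n, cA (π i) (π j) = cA i j) : π = 1 ∨ π = Fin.revPerm := by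
  by_cases h0 : ∀ hn : 1 < n, (π ⟨0, Nat.zero_lt_of_lt hn⟩ : ℕ) ≤ π ⟨1, hn⟩
  · exact .inl (eq_one h h0)
  refine .inr (eq_inv_of_mul_eq_one_right (eq_one (π := Fin.revPerm * π) (fun i j => ?_) fun hn => ?_))
  · clear h0
    rw [← h i j]
    have h1 := (π i).2
    have h2 := (π j).2
    simp only [cA_def, Perm.mul_apply, Fin.revPerm_apply, Fin.val_rev]
    (first | (lia; done) | (split_ifs <;> omega))
  · have h1 : ¬ (π ⟨0, Nat.zero_lt_of_lt hn⟩ : ℕ) ≤ π ⟨1, hn⟩ := fun e => h0 fun _ => e
    clear h0
    simp only [Perm.mul_apply, Fin.revPerm_apply, Fin.val_rev]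
    omega

theorem rev_fr : pm (Fin.revPerm (n := n + 1)) * fr n = fr n * -pm (Fin.revPerm (n := n)) := ext_of_mulVec_single fun j => by
  rw [← mulVec_mulVec, ← mulVec_mulVec, neg_mulVec, mulVec_neg, pm_single]
  refine (congrArg _ (fr_single j)).trans ((pm_ee _ _ _).trans ?_)
  refine Eq.trans ?_ (congrArg _ (fr_single j.rev)).symm
  rw [neg_ee, Fin.revPerm_apply, Fin.revPerm_apply, Fin.rev_castSucc, Fin.rev_succ]

end A78

open A78 in
/-- **[A]** -/
theorem boxA (hR : BoxRs) (hT : BoxTr) (hS : BoxSA) : BoxA := fun n l π h => by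
  have H := hR _ _ (car (n := n))
  have h1 := fun ε : ℤˣ => (hT _ _ _ _ ((ε : ℤ) • 1) ((ε : ℤ) • 1) l car (tr H)
    (by rw [Matrix.smul_mul, Matrix.mul_smul, Matrix.one_mul, Matrix.mul_one]) (nm_eps ε)).2.1 (hS l (n + 1) ε)
  rcases eq_or h with rfl | rfl
  · simpa only [pm_one, Units.val_one, one_smul] using h1 1
  · obtain ⟨w, hw, e⟩ := exists_w (n := n) Fin.revPerm
    obtain ⟨u, hu, k, -⟩ := H.inv w hw
    have h2 := congrArg ((of fun j r => if (r : ℕ) ≤ j then 1 else 0 : Matrix (Fin n) (Fin (n + 1)) ℤ) * ·) (rev_fr.symm.trans e)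
    simp only [← Matrix.mul_assoc, left_inv, Matrix.one_mul] at h2
    simpa only [← h2, _root_.Units.val_neg, _root_.Units.val_one, _root_.Int.reduceNeg, _root_.neg_smul, _root_.one_smul, _root_.mul_neg, _root_.mul_one, _root_.neg_neg] using cu_mul (H.ww.ge hw) (H.ww.ge hu) k (h1 (-1))

end Cfsg.Agent.OM.Cu
end

-- part: OM/Cu/B
section
/-!
# OM / Cu : the types `B`, `C`, `D` (helper26)

The simple pairs `eᵢ - eᵢ₊₁` and one last pair identify the root system of the Cartan matrix with the standard system.
-/

set_option autoImplicit false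
set_option linter.unusedSectionVars false

namespace Cfsg.Agent.OM.Cu

open Cfsg Matrix Cfsg.Agent.HZ.L Cfsg.Agent.BZ.TA Cfsg.Agent.KZ.Dat
open Cfsg.Agent.LV.Cl (SG sm tt sm_apply)

namespace BD

section Gen

variable {R I : Type} [Fintype R] [DecidableEq R] [Fintype I] [DecidableEq I] {Ψ : RS R} {a : I → Vec R × Vec R} {C : Mat I}
  {d : I → ℤ}

/-- the image of `b` under the reflection in `a` -/
def rf (a b : Vec R × Vec R) : Vec R × Vec R := (b.1 - (b.1 ⬝ᵥ a.2) • a.1, b.2 - (a.1 ⬝ᵥ b.2) • a.2)

theorem rfm_mv (a : Vec R × Vec R) (v : Vec R) : rfm a *ᵥ v = v - (a.1 ⬝ᵥ v) • a.2 := by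
  show (1 - vecMulVec a.2 a.1) *ᵥ v = _
  rw [sub_mulVec, one_mulVec, vecMulVec_mulVec, op_smul_eq_smul]

theorem rfm_vm (a : Vec R × Vec R) (v : Vec R) : v ᵥ* rfm a = v - (v ⬝ᵥ a.2) • a.1 := by
  show v ᵥ* (1 - vecMulVec a.2 a.1) = _
  rw [vecMul_sub, vecMul_one, vecMul_vecMulVec]

theorem rfm_vv {a : Vec R × Vec R} (h : a.1 ⬝ᵥ a.2 = 2) (v : Vec R) : v ᵥ* rfm a ᵥ* rfm a = v := by
  rw [rfm_vm, rfm_vm, sub_dotProduct, smul_dotProduct, h]
  module

theorem rfm_tw {P : Matrix R I ℤ} {x : Vec I × Vec I} {b : Vec R × Vec R} (h1 : P *ᵥ x.2 = b.2) (h2 : b.1 ᵥ* P = x.1) :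
    rfm b * P = P * rfm x := by
  show (1 - vecMulVec b.2 b.1) * P = P * (1 - vecMulVec x.2 x.1)
  rw [Matrix.mul_sub, Matrix.sub_mul, Matrix.mul_one, Matrix.one_mul, mul_vecMulVec, vecMulVec_mul, h1, h2]

/-- the matrix of the simple coroots -/
def fP (a : I → Vec R × Vec R) : Matrix R I ℤ := of fun r i => (a i).2 r

theorem fP_single (i : I) : fP a *ᵥ Pi.single i 1 = (a i).2 := by
  rw [mulVec_single_one]
  rfl

/-- a frame -/
structure Fr (Ψ : RS R) (C : Mat I) (a : I → Vec R × Vec R) : Prop where
  mem : ∀ i, a i ∈ Ψ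
  car : ∀ i j, (a i).1 ⬝ᵥ (a j).2 = C j i
  gen : ∀ S : RS R, (∀ i, a i ∈ S) → (∀ b ∈ S, -b ∈ S) → (∀ b ∈ S, ∀ b' ∈ S, rf b b' ∈ S) → Ψ ⊆ S

theorem Fr.comp (h : Fr Ψ C a) (σ : Equiv.Perm I) (hσ : ∀ i j, C (σ i) (σ j) = C i j) : Fr Ψ C fun i => a (σ i) :=
  ⟨fun _ => h.mem _, fun i j => (h.car _ _).trans (hσ j i), fun S h1 => h.gen S fun i => by
    simpa using h1 (σ.symm i)⟩

theorem Fr.tr (h : Fr Ψ C a) (hR : Rs C d) (ext : ∀ b ∈ Ψ, ∀ b' ∈ Ψ, b.2 = b'.2 → b = b') (nm : ∀ b ∈ Ψ, Nm (rfm b) Ψ) :
    Tr (fP a) (Rc C) Ψ := by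
  have h1 : ∀ i, (a i).1 ᵥ* fP a = (sp C i).1 := fun i => funext fun j => h.car i j
  have h2 : ∀ w ∈ Wc C, ∃ w', Nm w' Ψ ∧ w' * fP a = fP a * w := fun w hw => by
    induction hw using Submonoid.closure_induction with
    | mem _ k =>
      obtain ⟨_, ⟨i, rfl⟩, rfl⟩ := k
      exact ⟨_, nm _ (h.mem i), rfm_tw (fP_single i) (h1 i)⟩
    | one => exact ⟨1, fun b hb => ⟨b, hb, one_mulVec _, vecMul_one _⟩, by rw [Matrix.one_mul, Matrix.mul_one]⟩
    | mul A B _ _ hA hB =>
      obtain ⟨g, e, e'⟩ := hA
      obtain ⟨g', f, f'⟩ := hB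
      refine ⟨g * g', fun b hb => ?_, by rw [Matrix.mul_assoc, f', ← Matrix.mul_assoc, e', Matrix.mul_assoc]⟩
      obtain ⟨b', k1, k2, k3⟩ := f b hb
      obtain ⟨b'', k4, k5, k6⟩ := e b' k1
      exact ⟨b'', k4, by rw [← mulVec_mulVec, k2, k5], by rw [← vecMul_vecMul, k6, k3]⟩
  have up : ∀ x ∈ Rc C, ∃ b ∈ Ψ, fP a *ᵥ x.2 = b.2 ∧ b.1 ᵥ* fP a = x.1 := by
    rintro x ⟨w, hw, i, k1, k2⟩
    obtain ⟨w', k3, k4⟩ := h2 w hw
    obtain ⟨b, k5, k6, k7⟩ := k3 _ (h.mem i)
    obtain ⟨u, -, -, k8⟩ := hR.inv w hw
    refine ⟨b, k5, ?_, ?_⟩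
    · rw [← k1, mulVec_mulVec, ← k4, ← mulVec_mulVec, ← k6]
      exact congrArg _ (fP_single i)
    · rw [← vecMul_one (b.1 ᵥ* fP a), ← vecMul_one x.1, ← k8, ← vecMul_vecMul, ← vecMul_vecMul, k2, vecMul_vecMul b.1, ← k4,
        ← vecMul_vecMul, k7, h1]
  refine ⟨fun v hv => hR.top v fun x hx => ?_, up,
    h.gen {b | ∃ x ∈ Rc C, fP a *ᵥ x.2 = b.2 ∧ b.1 ᵥ* fP a = x.1} (fun i => ⟨_, hR.mem i, fP_single i, h1 i⟩) ?_ ?_, ext, nm⟩
  · obtain ⟨b, -, -, k⟩ := up x hx
    rw [← k, ← dotProduct_mulVec, hv, dotProduct_zero]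
  · rintro b ⟨x, k1, k2, k3⟩
    exact ⟨-x, hR.neg x k1, by rw [Prod.snd_neg, Prod.snd_neg, mulVec_neg, k2], by rw [Prod.fst_neg, Prod.fst_neg, neg_vecMul, k3]⟩
  · rintro b ⟨x, k1, k2, k3⟩ b' ⟨x', k4, k5, k6⟩
    obtain ⟨c, k7, k8, k9⟩ := hR.nm (rfm x) (hR.ww ▸ Submonoid.subset_closure ⟨x, k1, rfl⟩) x' k4
    refine ⟨c, k7, ?_, ?_⟩
    · rw [← k8, mulVec_mulVec, ← rfm_tw k2 k3, ← mulVec_mulVec, k5, rfm_mv]
      rfl
    · rw [show (rf b b').1 = b'.1 ᵥ* rfm b from (rfm_vm _ _).symm, vecMul_vecMul, rfm_tw k2 k3, ← vecMul_vecMul, k6, ← k9,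
        rfm_vv (hR.two x k1)]

theorem Fr.car' (h : Fr Ψ C a) (h1 : ∀ b ∈ Ψ, b.1 ⬝ᵥ b.2 = 2 ∧ (b.2 ⬝ᵥ b.2) • b.1 = (2 : ℤ) • b.2) (h2 : ∀ i j, i ≠ j → C i j ≤ 0)
    (h3 : ∀ v, fP a *ᵥ v = 0 → v = 0) : Car C fun i => (a i).2 ⬝ᵥ (a i).2 := by
  have h4 : ∀ i j, (a j).2 ⬝ᵥ (a j).2 * C i j = 2 * ((a j).2 ⬝ᵥ (a i).2) := fun i j => by
    rw [← h.car, ← smul_eq_mul, ← smul_dotProduct, (h1 _ (h.mem j)).2, smul_dotProduct, smul_eq_mul]
  have h5 : ∀ v : Vec R, v ≠ 0 → 0 < v ⬝ᵥ v := fun v hv =>
    lt_of_le_of_ne (Finset.sum_nonneg fun i _ => mul_self_nonneg _) fun e => hv (dotProduct_self_eq_zero.1 e.symm)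
  refine ⟨fun i => (h.car i i).symm.trans (h1 _ (h.mem i)).1, h2, fun i => h5 _ fun e => ?_,
    fun i j => by rw [h4, h4, dotProduct_comm], fun β hβ => ?_⟩
  · have := (h1 _ (h.mem i)).1
    rw [e, dotProduct_zero] at this
    omega
  · have h6 : fP a *ᵥ β = ∑ i, β i • (a i).2 := by
      funext r
      simp only [mulVec, dotProduct, fP, mul_comm, _root_.Matrix.of_apply, _root_.zsmul_eq_mul, _root_.Finset.sum_apply, _root_.Pi.mul_apply, _root_.Pi.intCast_apply, _root_.Int.cast_eq]
    have h7 := h5 _ fun e => hβ (h3 β e)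
    refine (mul_pos two_pos h7).trans_eq ?_
    rw [h6, sum_dotProduct, Finset.mul_sum]
    refine Finset.sum_congr rfl fun i _ => ?_
    show _ = _ * ∑ j, β j * C j i
    rw [dotProduct_sum, Finset.mul_sum, Finset.mul_sum]
    refine Finset.sum_congr rfl fun j _ => ?_
    rw [smul_dotProduct, dotProduct_smul, smul_eq_mul, smul_eq_mul]
    linear_combination (-(β i * β j)) * h4 j i

theorem fP_pm {B : Mat R} {π : Equiv.Perm I} (h : ∀ i, B *ᵥ (a i).2 = (a (π i)).2) : B * fP a = fP a * pm π := by
  ext r i
  rw [Matrix.mul_apply, Matrix.mul_apply, Finset.sum_eq_single (π i) (fun j _ e => mul_eq_zero_of_right _ (if_neg e)) (by simp only [_root_.Finset.mem_univ, _root_.not_true_eq_false, _root_.mul_eq_zero, _root_.IsEmpty.forall_iff])]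
  exact (congrFun (h i) r).trans ((mul_one _).symm.trans (congrArg _ (if_pos rfl).symm))

end Gen

section Std

variable {κ : HZ.L.Kd} {n : ℕ} {i j k : Fin n}

/-- the pairs with two coordinates -/
def ee (i j : Fin n) (s t : ℤ) : Vec (Fin n) × Vec (Fin n) := (Pi.single i s + Pi.single j t, Pi.single i s + Pi.single j t)

/-- the pairs with one coordinate -/
def e1 (i : Fin n) (x y : ℤ) : Vec (Fin n) × Vec (Fin n) := (Pi.single i x, Pi.single i y)

theorem ee_comm (s t : ℤ) : ee i j s t = ee j i t s := Prod.ext (add_comm _ _) (add_comm _ _)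

theorem ee_neg (s t : ℤ) : -ee i j s t = ee i j (-s) (-t) :=
  Prod.ext (by simp [ee, Pi.single_neg, add_comm]) (by simp [ee, Pi.single_neg, add_comm])

theorem ee_sub : ee i j 1 (-1) = (Pi.single i 1 - Pi.single j 1, Pi.single i 1 - Pi.single j 1) :=
  Prod.ext (by simp [ee, Pi.single_neg, sub_eq_add_neg]) (by simp [ee, Pi.single_neg, sub_eq_add_neg])

theorem ee_mem (h : i ≠ j) (s t : ℤˣ) : ee i j s t ∈ std κ (X.b0 n) := by
  rcases Int.units_eq_one_or s with rfl | rfl <;> rcases Int.units_eq_one_or t with rfl | rfl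
  · exact .inr (.inl ⟨i, j, 1, h, rfl, rfl, rfl⟩)
  · exact .inl ⟨i, j, h, rfl, ee_sub⟩
  · exact .inl ⟨j, i, h.symm, rfl, (ee_comm _ _).trans ee_sub⟩
  · exact .inr (.inl ⟨i, j, -1, h, rfl, rfl, rfl⟩)

theorem nm_sm (g : SG n) : Nm (sm g) (std κ (X.b0 n)) := fun b hb => by
  refine ⟨(sm g *ᵥ b.1, sm g *ᵥ b.2), ?_, rfl, by
    rw [← mulVec_transpose, mulVec_mulVec, sm_apply, mul_eq_one_comm.1 (spm_mul_transpose _ _), one_mulVec]⟩
  have h1 : ∀ (i j : Fin n) (s t : ℤˣ), i ≠ j → (sm g *ᵥ (ee i j s t).1, sm g *ᵥ (ee i j s t).2) ∈ std κ (X.b0 n) :=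
    fun i j s t h => by
      have h2 : sm g *ᵥ (ee i j s t).1 = (ee (g.π i) (g.π j) (g.s i * s : ℤˣ) (g.s j * t : ℤˣ)).1 := by
        show _ *ᵥ (_ + _) = _ + _
        rw [mulVec_add, sm_apply, spm_mulVec_single, spm_mulVec_single, ← Units.val_mul, ← Units.val_mul]
      convert ee_mem (g.π.injective.ne h) (g.s i * s) (g.s j * t) using 1
      exact Prod.ext h2 h2
  obtain ⟨i, j, h, -, rfl⟩ | ⟨i, j, s, h, -, -, rfl⟩ | ⟨i, s, -, ⟨rfl, rfl⟩ | ⟨rfl, rfl⟩⟩ := hb
  · rw [← ee_sub]
    exact h1 i j 1 (-1) h
  · exact h1 i j s s h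
  · refine .inr (.inr ⟨g.π i, g.s i * s, rfl, .inl ⟨rfl, ?_⟩⟩)
    rw [sm_apply, spm_mulVec_single, spm_mulVec_single, Units.val_mul, mul_left_comm]
  · refine .inr (.inr ⟨g.π i, g.s i * s, rfl, .inr ⟨rfl, ?_⟩⟩)
    rw [sm_apply, spm_mulVec_single, spm_mulVec_single, Units.val_mul, mul_left_comm]

theorem std_two (b : Vec (Fin n) × Vec (Fin n)) (hb : b ∈ std κ (X.b0 n)) :
    b.1 ⬝ᵥ b.2 = 2 ∧ (b.2 ⬝ᵥ b.2) • b.1 = (2 : ℤ) • b.2 := by
  obtain ⟨i, j, h, -, rfl⟩ | ⟨i, j, s, h, -, -, rfl⟩ | ⟨i, s, -, ⟨-, rfl⟩ | ⟨-, rfl⟩⟩ := hb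
  · simp only [h, h.symm, _root_.dotProduct_sub, _root_.dotProduct_single, _root_.Pi.sub_apply, _root_.Pi.single_eq_same, _root_.ne_eq, _root_.not_false_eq_true, _root_.Pi.single_eq_of_ne, _root_.sub_zero, _root_.mul_one, _root_.zero_sub, _root_.Int.reduceNeg, _root_.sub_neg_eq_add, _root_.Int.reduceAdd, _root_.zsmul_eq_mul, _root_.Int.cast_ofNat, _root_.and_self]
  · rcases Int.units_eq_one_or s with rfl | rfl <;> simp only [h, h.symm, _root_.Units.val_one, _root_.dotProduct_add, _root_.dotProduct_single, _root_.Pi.add_apply, _root_.Pi.single_eq_same, _root_.ne_eq, _root_.not_false_eq_true, _root_.Pi.single_eq_of_ne, _root_.add_zero, _root_.mul_one, _root_.zero_add, _root_.Int.reduceAdd, _root_.smul_add, _root_.zsmul_eq_mul, _root_.Int.cast_ofNat, _root_.and_self, _root_.Units.val_neg, _root_.Int.reduceNeg, _root_.mul_neg, _root_.neg_neg]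
  · rcases Int.units_eq_one_or s with rfl | rfl <;> simp only [← Pi.single_smul, _root_.Units.val_one, _root_.mul_one, _root_.dotProduct_single, _root_.Pi.single_eq_same, _root_.one_mul, _root_.Int.reduceMul, _root_.Int.zsmul_eq_mul, _root_.and_self, _root_.Units.val_neg, _root_.Int.reduceNeg, _root_.mul_neg, _root_.neg_mul, _root_.neg_neg]
  · rcases Int.units_eq_one_or s with rfl | rfl <;> simp only [← Pi.single_smul, _root_.Units.val_one, _root_.mul_one, _root_.dotProduct_single, _root_.Pi.single_eq_same, _root_.one_smul, _root_.Int.zsmul_eq_mul, _root_.and_self, _root_.Units.val_neg, _root_.Int.reduceNeg, _root_.mul_neg, _root_.neg_neg]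

theorem std_ext (b : Vec (Fin n) × Vec (Fin n)) (hb : b ∈ std κ (X.b0 n)) (b' : Vec (Fin n) × Vec (Fin n))
    (hb' : b' ∈ std κ (X.b0 n)) (e : b.2 = b'.2) : b = b' := by
  obtain ⟨h1, h2⟩ := std_two b hb
  refine Prod.ext (smul_right_injective _ (r := b.2 ⬝ᵥ b.2) (fun h => ?_) ?_) e
  · rw [dotProduct_self_eq_zero.1 h, dotProduct_zero] at h1
    omega
  · exact h2.trans (e ▸ (std_two b' hb').2.symm)

theorem std_nm (b : Vec (Fin n) × Vec (Fin n)) (hb : b ∈ std κ (X.b0 n)) : Nm (rfm b) (std κ (X.b0 n)) := by
  obtain ⟨g, -, e⟩ := X.Fwx.exists_ws hb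
  exact e ▸ nm_sm g

/-- the simple pairs -/
def fr (L : Vec (Fin n) × Vec (Fin n)) (i : Fin n) : Vec (Fin n) × Vec (Fin n) :=
  if h : i.1 + 1 < n then ee i ⟨i.1 + 1, h⟩ 1 (-1) else L

theorem fr_lt {L : Vec (Fin n) × Vec (Fin n)} (h : i.1 + 1 < n) : fr L i = ee i ⟨i.1 + 1, h⟩ 1 (-1) := dif_pos h

theorem fr_ge {L : Vec (Fin n) × Vec (Fin n)} (h : ¬ i.1 + 1 < n) : fr L i = L := dif_neg h

theorem fr_inj {L : Vec (Fin n) × Vec (Fin n)} (hL : 1 ⬝ᵥ L.2 ≠ 0) (v : Vec (Fin n)) (hv : fP (fr L) *ᵥ v = 0) : v = 0 := by
  obtain ⟨Q, hQ⟩ : ∃ Q : Mat (Fin n), ∀ k r, Q k r = if r ≤ k then 1 else 0 := ⟨of _, fun _ _ => rfl⟩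
  have h1 : ∀ k i, (Q * fP (fr L)) k i = Q k ⬝ᵥ (fr L i).2 := fun _ _ => rfl
  have h2 : ∀ (k i : Fin n) (h : i.1 + 1 < n), (Q * fP (fr L)) k i = if k = i then 1 else 0 := fun k i h => by
    rw [h1, fr_lt h, ee, dotProduct_add, dotProduct_single, dotProduct_single, hQ, hQ]
    simp only [Fin.le_def, Fin.ext_iff]
    split_ifs <;> omega
  refine eq_zero_of_mulVec_eq_zero (M := Q * fP (fr L)) ?_ (by rw [← mulVec_mulVec, hv, mulVec_zero])
  rw [det_of_isUpperTriangular fun k i h => by
    have h3 : i.1 < k.1 := h
    rw [h2 k i (by omega), if_neg (by omega)]]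
  refine Finset.prod_ne_zero_iff.2 fun i _ => ?_
  by_cases h : i.1 + 1 < n
  · rw [h2 i i h, if_pos rfl]
    exact one_ne_zero
  · rwa [h1, fr_ge h, show Q i = 1 from funext fun r => (hQ i r).trans (if_pos (by rw [Fin.le_def]; omega))]

variable {S : RS (Fin n)}

theorem mv (h2 : ∀ b ∈ S, ∀ b' ∈ S, rf b b' ∈ S) {t : ℤ} (e : i ≠ j) (e' : i ≠ k) (e'' : j ≠ k) (h : ee i j 1 t ∈ S)
    (h' : ee j k 1 (-1) ∈ S) : ee i k 1 t ∈ S := by
  have h3 : (Pi.single i 1 + Pi.single j t : Vec (Fin n)) - t • (Pi.single j 1 + Pi.single k (-1)) =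
      Pi.single i 1 + Pi.single k t := by
    rw [smul_add, ← Pi.single_smul, ← Pi.single_smul, smul_eq_mul, smul_eq_mul, mul_one, mul_neg, mul_one, Pi.single_neg]
    abel
  convert h2 _ h' _ h using 1
  refine Prod.ext ?_ ?_ <;> simp [rf, ee, e, e', e'', e.symm, e'.symm, e''.symm, -smul_add, -zsmul_eq_mul, h3]

theorem all_sub {L : Vec (Fin n) × Vec (Fin n)} (h0 : ∀ i, fr L i ∈ S) (h1 : ∀ b ∈ S, -b ∈ S)
    (h2 : ∀ b ∈ S, ∀ b' ∈ S, rf b b' ∈ S) (e : i ≠ j) : ee i j 1 (-1) ∈ S := by
  have h3 : ∀ (m : ℕ) (i : Fin n) (h : i.1 + 1 + m < n), ee i ⟨_, h⟩ 1 (-1) ∈ S := fun m i => by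
    induction m with
    | zero => exact fun h => fr_lt h ▸ h0 i
    | succ m ih =>
      intro h
      have h4 := h0 ⟨i.1 + 1 + m, by omega⟩
      rw [fr_lt h] at h4
      exact mv h2 (Fin.ne_of_val_ne (by simp only; omega)) (Fin.ne_of_val_ne (by simp only; omega))
        (Fin.ne_of_val_ne (by simp only; omega)) (ih (by omega)) h4
  have h4 : ∀ i j : Fin n, i.1 < j.1 → ee i j 1 (-1) ∈ S := fun i j h => by
    have h5 := h3 (j.1 - i.1 - 1) i (by omega)
    rwa [show (⟨_, _⟩ : Fin n) = j from Fin.ext (by simp only; omega)] at h5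
  rcases lt_or_gt_of_ne (Fin.val_ne_of_ne e) with h | h
  · exact h4 i j h
  · have h5 := h1 _ (h4 j i h)
    rwa [ee_neg, ee_comm, neg_neg] at h5

theorem all_add (h0 : ∀ i j, i ≠ j → ee i j 1 (-1) ∈ S) (h2 : ∀ b ∈ S, ∀ b' ∈ S, rf b b' ∈ S) {x y : Fin n} (e : x ≠ y)
    (h : ee x y 1 1 ∈ S) (e' : i ≠ j) : ee i j 1 1 ∈ S := by
  have h3 : ∀ x y z : Fin n, x ≠ y → x ≠ z → ee x y 1 1 ∈ S → ee x z 1 1 ∈ S := fun x y z e e' h => by
    by_cases e'' : y = z
    · exact e'' ▸ h
    · exact mv h2 e e' e'' h (h0 _ _ e'')
  rw [ee_comm] at h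
  by_cases k : i = y
  · exact h3 _ _ _ (k ▸ e.symm) e' (k ▸ h)
  · exact h3 _ _ _ k e' (ee_comm 1 1 ▸ h3 _ _ _ e.symm (Ne.symm k) h)

theorem gen_two (h0 : ∀ i j, i ≠ j → ee i j 1 (-1) ∈ S) (h1 : ∀ b ∈ S, -b ∈ S) (h2 : ∀ i j, i ≠ j → ee i j 1 1 ∈ S)
    (h3 : ∀ i, (κ = .B → e1 i 1 2 ∈ S) ∧ (κ = .C → e1 i 2 1 ∈ S)) : std κ (X.b0 n) ⊆ S := by
  have h4 : ∀ (i : Fin n) (x y : ℤ), e1 i x y ∈ S → e1 i (-x) (-y) ∈ S := fun i x y h => by
    convert h1 _ h using 1
    exact Prod.ext (Pi.single_neg _ _) (Pi.single_neg _ _)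
  rintro b (⟨i, j, h, -, rfl⟩ | ⟨i, j, s, h, -, -, rfl⟩ | ⟨i, s, -, ⟨k, rfl⟩ | ⟨k, rfl⟩⟩)
  · exact ee_sub ▸ h0 i j h
  · rcases Int.units_eq_one_or s with rfl | rfl
    exacts [h2 i j h, (ee_neg 1 1 ▸ h1 _ (h2 i j h) : ee i j (-1) (-1) ∈ S)]
  · rcases Int.units_eq_one_or s with rfl | rfl
    exacts [(h3 i).1 k, h4 _ _ _ ((h3 i).1 k)]
  · rcases Int.units_eq_one_or s with rfl | rfl
    exacts [(h3 i).2 k, h4 _ _ _ ((h3 i).2 k)]

theorem gen_one {x y : ℤ} (hxy : x * y = 2) {l : Fin n} (hl : ¬ l.1 + 1 < n) (hκ : (κ = .B → x = 1 ∧ y = 2) ∧ (κ = .C → x = 2 ∧ y = 1))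
    (h0 : ∀ i, fr (e1 l x y) i ∈ S) (h1 : ∀ b ∈ S, -b ∈ S) (h2 : ∀ b ∈ S, ∀ b' ∈ S, rf b b' ∈ S) : std κ (X.b0 n) ⊆ S := by
  have h3 : ∀ i j, i ≠ j → ee i j 1 (-1) ∈ S := fun i j => all_sub h0 h1 h2
  have h4 : ∀ i, e1 i x y ∈ S := fun i => by
    have h5 := h0 l
    rw [fr_ge hl] at h5
    by_cases e : l = i
    · exact e ▸ h5
    · convert h2 _ (h3 l i e) _ h5 using 1
      refine Prod.ext ?_ ?_ <;> simp only [rf, ee, e1, e, Ne.symm e, ← Pi.single_smul, Pi.single_neg, _root_.Int.reduceNeg, _root_.dotProduct_add, _root_.dotProduct_single, _root_.Pi.single_eq_same, _root_.mul_one, _root_.dotProduct_neg, _root_.ne_eq, _root_.not_false_eq_true, _root_.Pi.single_eq_of_ne, _root_.neg_zero, _root_.add_zero, _root_.smul_add, _root_.Int.zsmul_eq_mul, _root_.smul_neg, _root_.sub_add_cancel_left, _root_.neg_neg, _root_.Pi.add_apply, _root_.Pi.neg_apply, _root_.one_mul]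
  refine gen_two h3 h1 (fun i j e => ?_) fun i => ⟨fun k => ?_, fun k => ?_⟩
  · have h5 : ∀ x y : ℤ, x * y = 2 → (Pi.single i 1 + Pi.single j 1 : Vec (Fin n)) =
        Pi.single i 1 + Pi.single j (-1) + x • Pi.single j y := fun x y h => by
      rw [← Pi.single_smul, smul_eq_mul, h, add_assoc, ← Pi.single_add]
      rfl
    convert h2 _ (h4 j) _ (h3 i j e) using 1
    refine Prod.ext ?_ ?_
    · simpa only [rf, ee, e1, e, Ne.symm e, _root_.Int.reduceNeg, _root_.dotProduct_single, _root_.Pi.add_apply, _root_.ne_eq, _root_.not_false_eq_true, _root_.Pi.single_eq_of_ne, _root_.Pi.single_eq_same, _root_.zero_add, _root_.neg_mul, _root_.one_mul, _root_.neg_smul, _root_.zsmul_eq_mul, _root_.sub_neg_eq_add, _root_.dotProduct_add, _root_.mul_one, _root_.mul_neg] using h5 y x (mul_comm x y ▸ hxy)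
    · simpa only [rf, ee, e1, e, Ne.symm e, _root_.Int.reduceNeg, _root_.dotProduct_single, _root_.Pi.add_apply, _root_.ne_eq, _root_.not_false_eq_true, _root_.Pi.single_eq_of_ne, _root_.Pi.single_eq_same, _root_.zero_add, _root_.neg_mul, _root_.one_mul, _root_.neg_smul, _root_.zsmul_eq_mul, _root_.sub_neg_eq_add, _root_.dotProduct_add, _root_.mul_one, _root_.mul_neg] using h5 x y hxy
  · obtain ⟨rfl, rfl⟩ := hκ.1 k
    exact h4 i
  · obtain ⟨rfl, rfl⟩ := hκ.2 k
    exact h4 i

theorem fr_mem {L : Vec (Fin n) × Vec (Fin n)} (hL : L ∈ std κ (X.b0 n)) (i : Fin n) : fr L i ∈ std κ (X.b0 n) := by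
  by_cases h : i.1 + 1 < n
  · exact fr_lt h ▸ ee_mem (Fin.ne_of_val_ne (by simp)) 1 (-1)
  · exact fr_ge h ▸ hL

theorem frB {l : Fin n} (hl : l.1 + 1 = n) : Fr (std .B (X.b0 n)) (cm n (cB n)) (fr (e1 l 1 2)) := by
  refine ⟨fr_mem (.inr (.inr ⟨l, 1, rfl, .inl ⟨rfl, rfl⟩⟩)), fun i j => ?_,
    fun S => gen_one rfl (by omega) ⟨fun _ => ⟨rfl, rfl⟩, nofun⟩⟩
  show _ = if _ then _ else if _ then _ else if _ then _ else _
  have := i.2
  have := j.2
  by_cases hi : i.1 + 1 < n <;> by_cases hj : j.1 + 1 < n <;> (first | rw [fr_lt hi] | rw [fr_ge hi]) <;>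
    (first | rw [fr_lt hj] | rw [fr_ge hj]) <;>
    simp only [ee, e1, add_dotProduct, single_dotProduct, Pi.add_apply, Pi.single_apply, Fin.ext_iff] <;> (first | (lia; done) | (split_ifs <;> omega))

theorem frC {l : Fin n} (hl : l.1 + 1 = n) : Fr (std .C (X.b0 n)) (cm n (cC n)) (fr (e1 l 2 1)) := by
  refine ⟨fr_mem (.inr (.inr ⟨l, 1, rfl, .inr ⟨rfl, rfl⟩⟩)), fun i j => ?_,
    fun S => gen_one rfl (by omega) ⟨nofun, fun _ => ⟨rfl, rfl⟩⟩⟩
  show _ = if _ then _ else if _ then _ else if _ then _ else _
  have := i.2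
  have := j.2
  by_cases hi : i.1 + 1 < n <;> by_cases hj : j.1 + 1 < n <;> (first | rw [fr_lt hi] | rw [fr_ge hi]) <;>
    (first | rw [fr_lt hj] | rw [fr_ge hj]) <;>
    simp only [ee, e1, add_dotProduct, single_dotProduct, Pi.add_apply, Pi.single_apply, Fin.ext_iff] <;> (first | (lia; done) | (split_ifs <;> omega))

theorem frD {k l : Fin n} (hn : 4 ≤ n) (hk : k.1 + 2 = n) (hl : l.1 + 1 = n) :
    Fr (std .D (X.b0 n)) (cm n (cT (n - 3) n)) (fr (ee k l 1 1)) := by
  have e : k ≠ l := Fin.ne_of_val_ne (by omega)
  refine ⟨fr_mem (ee_mem e 1 1), fun i j => ?_, fun S h0 h1 h2 => ?_⟩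
  · show _ = if _ then _ else if _ then _ else _
    have := i.2
    have := j.2
    by_cases hi : i.1 + 1 < n <;> by_cases hj : j.1 + 1 < n <;> (first | rw [fr_lt hi] | rw [fr_ge hi]) <;>
      (first | rw [fr_lt hj] | rw [fr_ge hj]) <;>
      simp only [ee, add_dotProduct, single_dotProduct, Pi.add_apply, Pi.single_apply, Fin.ext_iff] <;> (first | (lia; done) | (split_ifs <;> omega))
  · have h3 : ∀ i j, i ≠ j → ee i j 1 (-1) ∈ S := fun i j => all_sub h0 h1 h2
    have h4 := h0 l
    rw [fr_ge (by omega)] at h4
    exact gen_two h3 h1 (fun i j => all_add h3 h2 e h4) fun _ => ⟨nofun, nofun⟩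

theorem fin (hR : BoxRs) (hT : BoxTr) (hS : BoxSB) (hn : 2 ≤ n) {C : Mat (Fin n)} {L : Vec (Fin n) × Vec (Fin n)}
    (h : Fr (std κ (X.b0 n)) C (fr L)) (hL : 1 ⬝ᵥ L.2 ≠ 0) (h2 : ∀ i j, i ≠ j → C i j ≤ 0) (σ π : Equiv.Perm (Fin n))
    (hσ : ∀ i j, C (σ i) (σ j) = C i j) (g : SG n) (hg : ∀ i, sm g *ᵥ (fr L (σ i)).2 = (fr L (σ (π i))).2) (l : ℕ) :
    Cu l (Rc C) (pm π) :=
  have hC := h.car' std_two h2 (fr_inj hL)
  (hT C _ _ _ _ _ l hC ((h.comp σ hσ).tr (hR C _ hC) std_ext std_nm) (fP_pm hg) (nm_sm g)).2.1 (hS l n κ g hn)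

end Std

section Aut

variable {n : ℕ} {π : Equiv.Perm (Fin n)} {c : ℕ → ℕ → ℤ}

/-- a path is fixed from two adjacent nodes downwards -/
theorem down (h : ∀ i j, c (π i) (π j) = c i j) (m : ℕ) (hm : m + 1 < n)
    (hc : ∀ i k, k < m → i < n → (c i (k + 1) ≠ 0 ↔ i = k ∨ i = k + 1 ∨ i = k + 2)) (h1 : π ⟨m, by omega⟩ = ⟨m, by omega⟩)
    (h2 : π ⟨m + 1, hm⟩ = ⟨m + 1, hm⟩) (i : Fin n) (hi : i.1 ≤ m + 1) : π i = i := by
  induction m with
  | zero =>
    obtain e | e : i = ⟨0, by omega⟩ ∨ i = ⟨0 + 1, hm⟩ := by
      rw [Fin.ext_iff, Fin.ext_iff]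
      simp only
      omega
    exacts [e ▸ h1, e ▸ h2]
  | succ m ih =>
    by_cases e : i = ⟨m + 1 + 1, hm⟩
    · exact e ▸ h2
    refine ih (by omega) (fun i k hk => hc i k (by omega)) ?_ h1 (by rw [Fin.ext_iff] at e; simp only at e; omega)
    have h3 := h ⟨m, by omega⟩ ⟨m + 1, by omega⟩
    rw [h1] at h3
    have h4 := (hc _ m (by omega) (π ⟨m, by omega⟩).2).1 (h3 ▸ (hc m m (by omega) (by omega)).2 (.inl rfl))
    have h5 : π ⟨m, by omega⟩ ≠ ⟨m + 1, by omega⟩ := fun e => by simpa using π.injective (e.trans h1.symm)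
    have h6 : π ⟨m, by omega⟩ ≠ ⟨m + 1 + 1, by omega⟩ := fun e => by
      have := π.injective (e.trans h2.symm)
      rw [Fin.ext_iff] at this
      simp only at this
      omega
    rw [Ne, Fin.ext_iff] at h5 h6
    simp only at h5 h6
    exact Fin.ext (by simp only; omega)

theorem autB (hn : 2 ≤ n) (h : ∀ i j, cB n (π i) (π j) = cB n i j) : π = 1 := by
  obtain ⟨m, rfl⟩ := Nat.exists_eq_add_of_le' hn
  have h1 : ∀ i j, cB (m + 2) i j = -2 ↔ j + 1 = i ∧ i + 1 = m + 2 := fun i j => by
    show (if _ then _ else if _ then _ else if _ then _ else _) = _ ↔ _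
    split_ifs <;> simp <;> omega
  have h2 := (h1 _ _).1 ((h ⟨m + 1, by omega⟩ ⟨m, by omega⟩).trans ((h1 _ _).2 ⟨rfl, rfl⟩))
  refine Equiv.ext fun i => down h m (by omega) (fun i k hk hi => ?_) (Fin.ext (by simp only; omega)) (Fin.ext (by simp only; omega)) i
    (by omega)
  show (if _ then _ else if _ then _ else if _ then _ else _) ≠ _ ↔ _
  split_ifs <;> simp <;> omega

theorem cT_ne (a n i j : ℕ) : cT a n i j ≠ 0 ↔ i = j ∨ (i + 1 = j ∧ j + 1 < n) ∨ (j + 1 = i ∧ i + 1 < n) ∨ (i = a ∧ j + 1 = n) ∨
    (j = a ∧ i + 1 = n) := by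
  show (if _ then _ else if _ then _ else _) ≠ _ ↔ _
  split_ifs <;> simp only [*, _root_.ne_eq, _root_.OfNat.ofNat_ne_zero, _root_.not_false_eq_true, _root_.Nat.add_eq_left, _root_.one_ne_zero, _root_.false_and, _root_.or_self, _root_.false_or, _root_.true_or, _root_.Int.reduceNeg, _root_.neg_eq_zero, _root_.or_true, _root_.not_true_eq_false]

theorem autD {m : ℕ} {π : Equiv.Perm (Fin (m + 5))} (h : ∀ i j, cT (m + 2) (m + 5) (π i) (π j) = cT (m + 2) (m + 5) i j) :
    π = 1 ∨ π = Equiv.swap ⟨m + 3, by omega⟩ ⟨m + 4, by omega⟩ := by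
  have h1 : ∀ i j : Fin (m + 5), cT (m + 2) (m + 5) i j ≠ 0 → cT (m + 2) (m + 5) (π i) (π j) ≠ 0 := fun i j e => h i j ▸ e
  have h2 : ∀ i j : Fin (m + 5), i.1 ≠ j.1 → (π i).1 ≠ (π j).1 := fun i j e =>
    Fin.val_ne_of_ne (π.injective.ne (Fin.ne_of_val_ne e))
  simp only [cT_ne] at h1
  have a1 := h1 ⟨m + 2, by omega⟩ ⟨m + 1, by omega⟩ (by simp)
  have a2 := h1 ⟨m + 2, by omega⟩ ⟨m + 3, by omega⟩ (by simp)
  have a3 := h1 ⟨m + 2, by omega⟩ ⟨m + 4, by omega⟩ (by simp only [_root_.Nat.add_left_cancel_iff, _root_.Nat.reduceEqDiff, _root_.Nat.add_right_cancel_iff, _root_.lt_self_iff_false, _root_.and_self, _root_.OfNat.ofNat_ne_one, _root_.add_lt_add_iff_right, _root_.add_lt_add_iff_left, _root_.Nat.reduceLT, _root_.and_true, _root_.or_false, _root_.or_true])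
  have a4 := h1 ⟨m + 1, by omega⟩ ⟨m, by omega⟩ (by simp)
  have b1 := h2 ⟨m + 2, by omega⟩ ⟨m + 1, by omega⟩ (by simp)
  have b2 := h2 ⟨m + 2, by omega⟩ ⟨m + 3, by omega⟩ (by simp)
  have b3 := h2 ⟨m + 2, by omega⟩ ⟨m + 4, by omega⟩ (by simp)
  have b4 := h2 ⟨m + 1, by omega⟩ ⟨m + 3, by omega⟩ (by simp)
  have b5 := h2 ⟨m + 1, by omega⟩ ⟨m + 4, by omega⟩ (by simp)
  have b6 := h2 ⟨m + 3, by omega⟩ ⟨m + 4, by omega⟩ (by simp)
  have b7 := h2 ⟨m + 1, by omega⟩ ⟨m, by omega⟩ (by simp)
  have b8 := h2 ⟨m + 2, by omega⟩ ⟨m, by omega⟩ (by simp)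
  have c1 : (π ⟨m + 2, by omega⟩).1 = m + 2 := by (clear * - a1 a2 a3 b1 b2 b3 b4 b5 b6; omega)
  have c2 : (π ⟨m + 1, by omega⟩).1 = m + 1 := by (clear * - a1 a4 b1 b7 b8 c1; omega)
  have c3 := down h (m + 1) (by omega) (fun i k hk hi => by rw [cT_ne]; (clear * - hk; omega)) (Fin.ext c2) (Fin.ext c1)
  have c4 : ∀ i : Fin (m + 5), i.1 ≤ m + 2 ∨ i = ⟨m + 3, by omega⟩ ∨ i = ⟨m + 4, by omega⟩ := fun i => by
    rw [Fin.ext_iff, Fin.ext_iff]
    have := i.2
    simp only
    omega
  by_cases e : (π ⟨m + 3, by omega⟩).1 = m + 3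
  · refine .inl (Equiv.ext fun i => ?_)
    obtain k | rfl | rfl := c4 i
    exacts [c3 i k, Fin.ext e, Fin.ext (show _ = m + 4 by (clear * - a3 b3 b5 b6 c1 c2 e; omega))]
  · refine .inr (Equiv.ext fun i => ?_)
    obtain k | rfl | rfl := c4 i
    · rw [c3 i k, Equiv.swap_apply_of_ne_of_ne (Fin.ne_of_val_ne (by simp only; omega)) (Fin.ne_of_val_ne (by simp only; omega))]
    · rw [Equiv.swap_apply_left]
      exact Fin.ext (show _ = m + 4 by (clear * - a2 b2 b4 c1 c2 e; omega))
    · rw [Equiv.swap_apply_right]
      exact Fin.ext (show _ = m + 3 by (clear * - a2 a3 b2 b3 b4 b5 b6 c1 c2 e; omega))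

theorem autD4 : ∀ π : Equiv.Perm (Fin 4), (∀ i j, cT 1 4 (π i) (π j) = cT 1 4 i j) → (π ^ 3 = 1 ∧ π ≠ 1) ∨ π = 1 ∨
    ∃ σ : Equiv.Perm (Fin 4), (∀ i j, cT 1 4 (σ i) (σ j) = cT 1 4 i j) ∧ ∀ i, σ (π i) = Equiv.swap 2 3 (σ i) := by
  decide +kernel

theorem tt_fr {k l : Fin n} (hk : k.1 + 2 = n) (hl : l.1 + 1 = n) (i : Fin n) :
    sm (tt l) *ᵥ (fr (ee k l 1 1) i).2 = (fr (ee k l 1 1) (Equiv.swap k l i)).2 := by
  have e : k ≠ l := Fin.ne_of_val_ne (by omega)
  have h1 : ∀ (x y : Fin n) (s t : ℤ), sm (tt l) *ᵥ (ee x y s t).2 =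
      (ee x y (if x = l then -s else s) (if y = l then -t else t)).2 := fun x y s t => by
    show _ *ᵥ (_ + _) = _ + _
    rw [mulVec_add, sm_apply, spm_mulVec_single, spm_mulVec_single]
    congr 2 <;> rw [LV.Cl.Ey.tt_s] <;> split_ifs <;> simp
  have h2 : fr (ee k l 1 1) k = ee k l 1 (-1) := by
    rw [fr_lt (by omega)]
    exact congrArg (ee k · 1 (-1)) (Fin.ext (by simp only; omega))
  have h3 : fr (ee k l 1 1) l = ee k l 1 1 := fr_ge (by omega)
  by_cases a : i = k
  · rw [a, Equiv.swap_apply_left, h2, h3, h1, if_neg e, if_pos rfl, neg_neg]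
  by_cases b : i = l
  · rw [b, Equiv.swap_apply_right, h2, h3, h1, if_neg e, if_pos rfl]
  have a' := Fin.val_ne_of_ne a
  have b' := Fin.val_ne_of_ne b
  rw [Equiv.swap_apply_of_ne_of_ne a b, fr_lt (by omega), h1, if_neg b, if_neg (Fin.ne_of_val_ne (by simp only; omega))]

end Aut

end BD

open BD

/-- **the types `B` and `C`** -/
theorem boxB (hR : BoxRs) (hT : BoxTr) (hS : BoxSB) : BoxB := fun n hn => by
  have h1 : ∀ i j, i ≠ j → cB n i j ≤ 0 := fun i j e => by
    show (if _ then _ else if _ then _ else if _ then _ else _) ≤ _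
    split_ifs <;> omega
  refine ⟨fun l π h => ?_, fun l π h => ?_⟩
  · obtain rfl := autB hn h
    exact fin hR hT hS hn (frB (l := ⟨n - 1, by omega⟩) (by simp only; omega)) (by simp only [e1, _root_.dotProduct_single, _root_.Pi.one_apply, _root_.one_mul, _root_.ne_eq, _root_.OfNat.ofNat_ne_zero, _root_.not_false_eq_true])
      (fun i j e => h1 _ _ (Fin.val_ne_of_ne e)) 1 1 (fun _ _ => rfl) 1 (fun i => by rw [map_one, one_mulVec]; rfl) l
  · obtain rfl := autB hn fun i j => h j i
    exact fin hR hT hS hn (frC (l := ⟨n - 1, by omega⟩) (by simp only; omega)) (by simp only [e1, _root_.dotProduct_single, _root_.Pi.one_apply, _root_.mul_one, _root_.ne_eq, _root_.one_ne_zero, _root_.not_false_eq_true])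
      (fun i j e => h1 _ _ (Fin.val_ne_of_ne e).symm) 1 1 (fun _ _ => rfl) 1 (fun i => by rw [map_one, one_mulVec]; rfl) l

/-- **the type `D`** -/
theorem boxD (hR : BoxRs) (hT : BoxTr) (hS : BoxSB) (h4 : BoxD4) : BoxD := fun n hn l π h => by
  have h1 : ∀ (k k' : Fin n), k.1 + 2 = n → k'.1 + 1 = n → ∀ σ : Equiv.Perm (Fin n),
      (∀ i j, cT (n - 3) n (σ i) (σ j) = cT (n - 3) n i j) → (π = 1 ∨ ∀ i, σ (π i) = Equiv.swap k k' (σ i)) →
      Cu l (Rc (cm n (cT (n - 3) n))) (pm π) := fun k k' hk hk' σ hσ e => by
    have h2 := fin hR hT hS (by omega) (frD hn hk hk') (by simp only [ee, _root_.dotProduct_add, _root_.dotProduct_single, _root_.Pi.one_apply, _root_.mul_one, _root_.Int.reduceAdd, _root_.ne_eq, _root_.OfNat.ofNat_ne_zero, _root_.not_false_eq_true]) (fun i j e => by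
      have := Fin.val_ne_of_ne e
      show (if _ then _ else if _ then _ else _) ≤ _
      split_ifs <;> omega) σ π hσ
    obtain rfl | e := e
    · exact h2 1 (fun i => by rw [map_one, one_mulVec]; rfl) l
    · exact h2 (tt k') (fun i => by rw [e, tt_fr hk hk']) l
  obtain rfl | hn := hn.eq_or_lt
  · obtain e | e | ⟨σ, hσ, e⟩ := autD4 π h
    exacts [h4 l π e.1 e.2 h, h1 2 3 rfl rfl 1 (fun _ _ => rfl) (.inl e), h1 2 3 rfl rfl σ hσ (.inr e)]
  · obtain ⟨m, rfl⟩ := Nat.exists_eq_add_of_le' (show 5 ≤ n from hn)
    exact h1 ⟨m + 3, by omega⟩ ⟨m + 4, by omega⟩ rfl rfl 1 (fun _ _ => rfl) ((autD h).imp_right fun e i => DFunLike.congr_fun e i)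

end Cfsg.Agent.OM.Cu
end

-- part: OM/Cu/Lang
section
/-!
# OM / Cu : `boxLang`, `boxCen` (helper79)
-/

set_option autoImplicit false
set_option linter.unusedSectionVars false

namespace Cfsg.Agent.OM.Cu

open Cfsg Matrix Finset Cfsg.Agent.DL Cfsg.Agent.DL.PP Cfsg.Agent.KZ.Lie Cfsg.Agent.HZ.L Cfsg.Agent.HZ.L.Reg
  Cfsg.Agent.Tits.Roots

namespace Lg

/-- extension of characters -/
theorem ext_hom {P Y : Type} [AddCommGroup P] [AddCommGroup Y] (j : P →+ Y) (g : P →+ Additive ℂˣ) (h : j.ker ≤ g.ker) :
    ∃ J : Y →+ Additive ℂˣ, ∀ x, J (j x) = g x := by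
  let : DivisibleBy (Additive ℂˣ) ℤ := divisibleByOfSMulRightSurj _ _ fun h a => exists_zpow_eq h a.toMul
  obtain ⟨J, hJ⟩ := (Module.Baer.of_divisible (Additive ℂˣ)).extension_property_addMonoidHom (QuotientAddGroup.kerLift j)
    (QuotientAddGroup.kerLift_injective j) (QuotientAddGroup.lift j.ker g h)
  exact ⟨J, fun x => DFunLike.congr_fun hJ (x : P ⧸ j.ker)⟩

variable {R I : Type} [Fintype R] [DecidableEq R] [Fintype I] [DecidableEq I]

/-- eigenvectors lift -/
theorem lift_eig {S : Matrix I R ℤ} {T : Matrix R I ℤ} {δ : ℤ} (hδ : δ ≠ 0) (hT : S * T = δ • (1 : Mat I)) {A : Mat R}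
    {A' : Mat I} (h : A' * S = S * A) {n : ℕ} (hn : 0 < n) (hA : A ^ n = 1) (hA' : A' ^ n = 1) {μ : ℂ} {y : I → ℂ} (hy : y ≠ 0)
    (e : IsE A' μ y) : ∃ z, IsE A μ z ∧ ∃ i, ev (S i) z ≠ 0 := by
  let c := Int.castRingHom ℂ
  have e' : A'.map c *ᵥ y = μ • y := e
  have h1 : ∀ k : ℕ, (A' ^ k).map c *ᵥ y = μ ^ k • y := fun k => by
    induction k with
    | zero => rw [pow_zero, pow_zero, Matrix.map_one c c.map_zero c.map_one, one_mulVec, one_smul]
    | succ k ih => rw [pow_succ, Matrix.map_mul, ← mulVec_mulVec, e', mulVec_smul, ih, smul_smul, ← pow_succ']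
  have h2 : μ ^ n = 1 := by
    have h2 := h1 n
    rw [hA', Matrix.map_one c c.map_zero c.map_one, one_mulVec] at h2
    exact smul_left_injective ℂ hy (h2.symm.trans (one_smul _ _).symm)
  have h0 : μ ≠ 0 := fun e => zero_ne_one ((zero_pow hn.ne').symm.trans (e ▸ h2))
  obtain ⟨U, hU⟩ : ∃ U, U = μ⁻¹ • A.map c := ⟨_, rfl⟩
  have h3 : U ^ n = 1 := by
    rw [hU, smul_pow, inv_pow, h2, inv_one, one_smul]
    exact (map_pow c.mapMatrix A n).symm.trans (by rw [hA, map_one])
  have h4 : ∀ k : ℕ, S.map c *ᵥ (U ^ k *ᵥ (T.map c *ᵥ y)) = (δ : ℂ) • y := fun k => by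
    induction k with
    | zero =>
      rw [pow_zero, one_mulVec, mulVec_mulVec, ← Matrix.map_mul, hT]
      ext i
      simp only [mulVec, dotProduct, map_apply, Matrix.smul_apply, one_apply, smul_eq_mul, Pi.smul_apply]
      simp only [c, _root_.mul_ite, _root_.mul_one, _root_.MulZeroClass.mul_zero, _root_.eq_intCast, _root_.Int.cast_ite, _root_.Int.cast_zero, _root_.ite_mul, _root_.MulZeroClass.zero_mul, _root_.Finset.sum_ite_eq, _root_.Finset.mem_univ, ↓ _root_.reduceIte]
    | succ k ih =>
      rw [pow_succ', ← mulVec_mulVec, hU, smul_mulVec, mulVec_smul, mulVec_mulVec, ← Matrix.map_mul, ← h, Matrix.map_mul,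
        ← mulVec_mulVec, ← hU, ih, mulVec_smul, e', smul_comm, inv_smul_smul₀ h0]
  obtain ⟨i, hi⟩ := Function.ne_iff.1 hy
  refine ⟨(∑ k ∈ range n, U ^ k) *ᵥ (T.map c *ᵥ y), ?_, i, ?_⟩
  · have h5 := mul_geom_sum U n
    rw [h3, sub_self, sub_mul, one_mul, sub_eq_zero] at h5
    show A.map c *ᵥ _ = _
    conv_rhs => rw [← h5, ← mulVec_mulVec, hU, smul_mulVec, smul_inv_smul₀ h0, ← hU]
  · show (S.map c *ᵥ _) i ≠ 0
    rw [sum_mulVec, mulVec_sum, sum_congr rfl fun k _ => h4 k, sum_const, card_range, Pi.smul_apply, Pi.smul_apply,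
      nsmul_eq_mul, smul_eq_mul]
    exact mul_ne_zero (Nat.cast_ne_zero.2 hn.ne') (mul_ne_zero (Int.cast_ne_zero.2 hδ) hi)

end Lg

open Lg

/-- **[Lang]** -/
theorem boxLang : BoxLang := by
  intro R _ _ Ψ A q l n τ hl hq hn hA hN hS hF
  obtain ⟨Q, hQ⟩ : ∃ Q, Q = Submodule.span ℤ (Prod.snd '' Ψ) := ⟨_, rfl⟩
  have hp := Nat.prime_iff_prime_int.1 hl
  have h1 : ∀ v ∈ Q, (q • A) *ᵥ v ∈ Q ∧ (l : ℤ) ∣ τ ⬝ᵥ (q • A - 1) *ᵥ v := fun v hv => by
    rw [hQ] at hv ⊢
    induction hv using Submodule.span_induction with
    | mem x hx =>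
      obtain ⟨a, ha, rfl⟩ := hx
      obtain ⟨b, hb, e, -⟩ := hN a ha
      refine ⟨by rw [smul_mulVec, e]; exact Submodule.smul_mem _ _ (Submodule.subset_span ⟨b, hb, rfl⟩), ?_⟩
      rw [dotProduct_mulVec, vecMul_sub, vecMul_one, vecMul_smul]
      exact hF a ha
    | zero => simp only [_root_.zsmul_eq_mul, _root_.Matrix.mulVec_zero, _root_.ZeroMemClass.zero_mem, _root_.dotProduct_zero, _root_.dvd_zero, _root_.and_self]
    | add x y _ _ a b =>
      rw [mulVec_add, mulVec_add, dotProduct_add]
      exact ⟨add_mem a.1 b.1, dvd_add a.2 b.2⟩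
    | smul m x _ a =>
      rw [mulVec_smul, mulVec_smul, dotProduct_smul]
      exact ⟨Submodule.smul_mem _ _ a.1, a.2.mul_left m⟩
  have h2 : ∀ k : ℕ, ∀ v ∈ Q, (q • A) ^ k *ᵥ v ∈ Q := fun k v hv => by
    induction k with
    | zero => rwa [pow_zero, one_mulVec]
    | succ k ih => exact pow_succ' (q • A) k ▸ mulVec_mulVec v (q • A) _ ▸ (h1 _ ih).1
  have h3 : ∀ (k : ℕ) (v : Vec R), (l : ℤ) ^ k • v ∈ Q → v ∈ Q := fun k => by
    induction k with
    | zero => exact fun v hv => by rwa [pow_zero, one_smul] at hv
    | succ k ih => exact fun v hv => ih v (hQ ▸ hS _ (by rwa [smul_smul, ← pow_succ', ← hQ]))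
  have h4 : 0 < q ^ n - 1 := sub_pos.2 (one_lt_pow₀ hq hn.ne')
  obtain ⟨k, s, hs, h5⟩ := Nat.exists_eq_pow_mul_and_not_dvd (Int.natAbs_ne_zero.2 h4.ne') l hl.ne_one
  have h6 : q ^ n - 1 = (l : ℤ) ^ k * s := by exact_mod_cast (Int.natAbs_of_nonneg h4.le).symm.trans (congrArg _ h5)
  have hs' : ¬ (l : ℤ) ∣ s := fun e => hs (by exact_mod_cast e)
  have h7 : (q • A) ^ n - 1 = (q ^ n - 1) • (1 : Mat R) := by rw [smul_pow, hA, sub_smul, one_smul]
  have h8 : ∀ y, (q • A - 1) *ᵥ y ∈ Q → (l : ℤ) ∣ τ ⬝ᵥ (q • A - 1) *ᵥ y := fun y hy => by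
    have h8 : (∑ i ∈ range n, (q • A) ^ i) *ᵥ (q • A - 1) *ᵥ y ∈ Q := by
      rw [sum_mulVec]
      exact sum_mem fun i _ => h2 i _ hy
    rw [mulVec_mulVec, geom_sum_mul, h7, smul_mulVec, one_mulVec, h6, mul_smul] at h8
    have h9 := (h1 _ (h3 k _ h8)).2
    rw [mulVec_smul, dotProduct_smul, smul_eq_mul] at h9
    exact (hp.dvd_or_dvd h9).resolve_left hs'
  have h0 := Complex.isPrimitiveRoot_exp l hl.ne_zero
  have hζ : IsPrimitiveRoot (h0.isUnit hl.ne_zero).unit l := IsPrimitiveRoot.coe_units_iff.1 h0
  generalize (h0.isUnit hl.ne_zero).unit = ζ at hζ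
  obtain ⟨J, hJ⟩ := ext_hom (P := Q × Vec R) (Q.subtype.coprod (q • A - 1).mulVecLin).toAddMonoidHom
    (AddMonoidHom.mk' (fun x => Additive.ofMul (ζ ^ (τ ⬝ᵥ (x.1 : Vec R)))) fun a b => by
      rw [Prod.fst_add, Submodule.coe_add, dotProduct_add, _root_.zpow_add, ofMul_mul]) fun x hx => by
      have h9 : (x.1 : Vec R) = -((q • A - 1) *ᵥ x.2) := eq_neg_of_add_eq_zero_left hx
      refine congrArg Additive.ofMul ((hζ.zpow_eq_one_iff_dvd _).2 ?_)
      rw [h9, dotProduct_neg, dvd_neg]
      exact h8 _ (neg_mem_iff.1 (h9 ▸ x.1.2))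
  obtain ⟨c, hc⟩ := exists_chr (fun v => ((J v).toMul : ℂˣ)) (by rw [map_zero]; rfl) fun a b => by
    rw [map_add, toMul_add, Units.val_mul]
  have h9 : ∀ x ∈ Q, ∀ y, chr (x + (q • A - 1) *ᵥ y) c = ζ ^ (τ ⬝ᵥ x) := fun x hx y =>
    (Units.ext (hc _)).symm.trans (congrArg Additive.toMul (hJ (⟨x, hx⟩, y)))
  have h10 : ∀ y, chr ((q • A - 1) *ᵥ y) c = 1 := fun y => by
    rw [← zero_add (_ *ᵥ y), h9 0 (zero_mem _), dotProduct_zero, zpow_zero]
  refine ⟨c ^ s, ⟨k, funext fun j => ?_⟩, fun v => ?_, fun a ha => ?_⟩
  · have h11 := h10 ((∑ i ∈ range n, (q • A) ^ i) *ᵥ Pi.single j 1)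
    rw [mulVec_mulVec, mul_geom_sum, h7, smul_mulVec, one_mulVec, chr_zsmul, chr_single, h6, mul_comm] at h11
    rw [← pow_mul, Pi.pow_apply, ← zpow_natCast]
    exact_mod_cast h11
  · rw [map_pow, map_pow, ← sub_add_cancel (q • A) 1, add_mulVec, one_mulVec, chr_add, h10, one_mul]
  · have h11 := h9 a.2 (hQ ▸ Submodule.subset_span ⟨a, ha, rfl⟩) 0
    rw [mulVec_zero, add_zero] at h11
    rw [map_pow, h11, ← _root_.zpow_natCast, ← _root_.zpow_mul, hζ.zpow_eq_one_iff_dvd]
    exact ⟨fun e => (hp.dvd_or_dvd e).resolve_right hs', fun e => e.mul_right _⟩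

/-- **[Cen]** -/
theorem boxCen (hE : BoxEig) : BoxCen := by
  intro p _ k _ _ _ Y _ N _ _ ρ F G D _ j B h l d e pq w an i x hx
  obtain ⟨n, hn, hA⟩ := h.fin' w
  choose a h1 h2 using fun s => gw_surj (D := D) w (isRoot_sr D.cs D.h s)
  have h3 : Matrix.of a * Am D = Am D * (D.Wm w * B) :=
    Matrix.ext fun s => congrFun ((vecMul_Am D _).trans ((h.wt_g w (h1 s)).symm.trans (by rw [h2 s]; rfl)))
  have h4 : ∀ m : ℕ, Matrix.of a ^ m * Am D = Am D * (D.Wm w * B) ^ m := fun m => by
    induction m with
    | zero => rw [pow_zero, pow_zero, Matrix.one_mul, Matrix.mul_one]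
    | succ m ih => rw [pow_succ', Matrix.mul_assoc, ih, ← Matrix.mul_assoc, h3, Matrix.mul_assoc, ← pow_succ']
  have h5 : Matrix.of a ^ n = 1 := Am_cancel D ((h4 n).trans (by rw [hA, Matrix.mul_one, Matrix.one_mul]))
  have h6 : (Am D * (Am D)ᵀ).det ≠ 0 := fun h0 => by
    obtain ⟨v, hv, h6⟩ := Matrix.exists_vecMul_eq_zero_iff.2 h0
    refine hv (D.wt_injective ?_)
    rw [map_zero, ← vecMul_Am, ← dotProduct_self_eq_zero]
    have h7 := congrArg (· ⬝ᵥ v) h6
    simp only [zero_dotProduct] at h7
    rwa [← vecMul_vecMul, ← dotProduct_mulVec, mulVec_transpose] at h7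
  have h7 : ¬ (l : ℤ) ∣ (((p : ℤ) ^ j) • Matrix.of a - 1).det := fun h7 => by
    obtain ⟨μ, y, h8, h9, h10⟩ := hE.two _ _ l d e n pq hn h5 h7
    obtain ⟨z, h11, s, h12⟩ := lift_eig (T := (Am D)ᵀ * adjugate (Am D * (Am D)ᵀ)) h6
      (by rw [← Matrix.mul_assoc, mul_adjugate]) h3 hn hA h5 h9 h10
    exact an μ h8 ⟨z, h11, _, rt_mem (isRoot_sr D.cs D.h s), h12⟩
  have h8 : (((p : ℤ) ^ j) • Matrix.of a - 1) * Am D = Am D * (D.Wm w * D.Mx - 1) := by
    rw [Matrix.sub_mul, Matrix.mul_sub, Matrix.smul_mul, h3, h.WM, Matrix.mul_smul, Matrix.one_mul, Matrix.mul_one]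
  have h9 : ∀ s, (l : ℤ) ^ i ∣ (Am D *ᵥ x) s := fun s => by
    refine ((Nat.prime_iff_prime_int.1 pq.lp).coprime_iff_not_dvd.2 h7).pow_left.dvd_of_dvd_mul_left ?_
    rw [← smul_eq_mul, ← Pi.smul_apply, ← one_mulVec (Am D *ᵥ x), ← smul_mulVec, ← adjugate_mul, ← mulVec_mulVec,
      mulVec_mulVec x, h8, ← mulVec_mulVec, mulVec_mulVec]
    exact dvd_sum fun t _ => (hx t).mul_left _
  rintro _ ⟨b, -, rfl⟩
  show _ ∣ D.wt b ⬝ᵥ x
  rw [← vecMul_Am, ← dotProduct_mulVec]
  exact dvd_sum fun t _ => (h9 t).mul_left _

end Cfsg.Agent.OM.Cu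
end

private theorem dce_6d55b190b7d2 : _root_.True := by
  try have : _root_.True := by simp only [_root_.Cfsg.Agent.OM.Cu.BD.ee.eq_1]
  try have : _root_.True := by simp only [_root_.Cfsg.Agent.OM.Cu.Orb.Ed.eq_1]
  try have : _root_.True := by simp only [_root_.Cfsg.Agent.OM.Cu.Orb.ta.eq_1]
  try have : _root_.True := by simp only [_root_.Cfsg.Agent.OM.Cu.A78.ee.congr_simp]
  try have : _root_.True := by simp only [_root_.Cfsg.Agent.HZ.L.IsE.eq_1]
  try have : _root_.True := by simp only [_root_.Cfsg.Agent.OM.Cu.BD.rf.eq_1]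
  try have : _root_.True := by simp only [_root_.Cfsg.Agent.OM.Cu.sp.eq_1]
  try have : _root_.True := by simp only [_root_.Cfsg.Agent.OM.Cu.A78.ee.eq_1]
  try have : _root_.True := by simp only [_root_.Cfsg.Agent.OM.Cu.Orb.ex.eq_1]
  try have : _root_.True := by simp only [_root_.Cfsg.Agent.OM.Cu.BD.e1.eq_1]
  try have : _root_.True := by simp only [_root_.Cfsg.Agent.OM.Cu.Orb.ac.eq_1]
  try have : _root_.True := by simp only [_root_.Cfsg.Agent.OM.Cu.Orb.io.eq_1]
  try have : _root_.True := by simp only [_root_.Cfsg.Agent.OM.Cu.pm.congr_simp]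
  try have : _root_.True := by simp only [_root_.Cfsg.Agent.OM.Cu.Rc.congr_simp]
  try have : _root_.True := by simp only [_root_.Cfsg.Agent.OM.Cu.Orb.Qi.eq_1]
  try have : _root_.True := by simp only [_root_.Cfsg.Agent.OM.Cu.Orb.io.congr_simp]
  try have : _root_.True := by simp only [_root_.Cfsg.Agent.OM.Cu.BD.fP.eq_1]
  try have : _root_.True := by simp only [_root_.Cfsg.Agent.OM.Cu.SA.rt.eq_1]
  try have : _root_.True := by simp only [_root_.Cfsg.Agent.OM.Cu.Orb.Qi.congr_simp]
  try have : _root_.True := by simp only [_root_.Cfsg.Agent.OM.Cu.Orb.Pi'.eq_1]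
  try have : _root_.True := by simp only [_root_.Cfsg.Agent.OM.Cu.Cu.congr_simp]
  try have : _root_.True := by simp only [_root_.Cfsg.Agent.HZ.L.std.eq_1]
  exact _root_.True.intro
end

-- part: OM/Cu/TbE8
section
set_option linter.all false
open scoped Cfsg.Agent.FastGrp

/-!
# OM / Cu : the class table of `E8` (helper12; generated by `notes/OM/cu/gen.cpp`, `lq.py`, `pr.py`)
-/

set_option autoImplicit false
set_option maxRecDepth 100000
set_option Elab.async false

namespace Cfsg.Agent.OM.Cu.Eng

open Cfsg.Agent.BZ.TA Cfsg.Agent.BZ.TA.Cl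

/-- the tables -/
noncomputable def tE8 : Tb where
  n := 8
  K := 112
  R := 120
  nb := 0x882885864853842731820881
  ip := 0x76543210
  rt := 0x3433333332345642324333333134564233243333312456423332433331235642333324333123464243333243312345424333332431234532233333432123454243333332312345312333342421234532233334322123453133334234212344323333424221234431333423342123343233423334212234323333432321234421333423422123343134233334211234323342334221223431333424232123342132333334201234323423334221123431334234232122342143343233212333213233334220123431342334232112342143424233212233212334333311233321323334232012342143432333212223214423423321123321234243331122332142334233201233214424233321122321234324331122232124234333111233214234233320122321223343331012332133433243112222214432333321112321242424331112232142423333201123212234243310122321334333241122221134243243111222212432343311112321334333321122221043233333200123213234324310122221224234331011232134243324111222113432424311112221342433321112221023233433100123213234332410122211324242431011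22213432432411112211343323431111122132343332101222103432433211112210332342431001222132424324101122113243234310111221343324241111121132424332101122103433243211111210332343241001221133242343100112213243242410111211443332341111111133234332100122103243243210111210443332421111111033323343100012213324242410011211424332341011111124333334011111114433332311111100332424321001121042433242101111102433334201111110333234241000121143243234100111112243333400111111424333231011110024333423011111003332343210001210432432421001111022433342001111104332423410001111232433340001111134334233011110004324332310011100224334230011110043324242100011102324334200011110433323341000011123324334000011113434233301110000324342330011100043324323100011002324342300011100433323421000011023324342000011102333243400000111344233330110000032442333001100003324423300011000433324231000010023324423000011002333244200000110333332440000001153333233100000003523333301000000325233330010000033252333000100003332523300001000233325230000010033333252000000103333332500000001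
  nx := 0x7776777777777777767775767676767675757674757575757474747573747474737373737472737370727272727371726e7171717171726f7270707070706e706d6f6f6f6f6f6f71716e6e6e6e6c706d6f6d6d6d6d6b6d6e6c6c6c6c6a6e6c6b6b6b6b6b676d686c6a6a6a696c6a6a676969666a696969656868686864686b68676767656b67646a666369666666666265656267656561696464646168606764636663636363635f625f656262625e6661615e64615d65615c60605d606460605f625f5f5f5f5b635e5b615e5e59625e585d59605a615d5d605c5c585c5c5c5c5b5e5b5b5b575f5b555a565a5d5a5a5a54575d59565e59595d58545c5558585852595757535b57574f535a50595656565a554f5558515555595258544f5454544d56534e57535353575452524d52525251514b5151554c514a4e505650505050564d554a544b4f4f465048534e4e4e4e534f4d4652474d4d4c4c454c4c4c51494b4751444b4f454b50464a4f4a444a4a494943494949494c42484e4848484848474b4740474d41474e4a424d4640464645414c3f45454b434440444b3e4a3f44433d493c4343434548424642423b42424145413a4141473d40443b4739463a403f3a3f45383f443c3e393e3e443e383e3d433d373d3d3d413c373c43363c3c3f3b3b403b3442353b3a3f3541333a4037393e343940393339383338383f323e36373c3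13d3037373a363036363c2f363835353a352d353b313434392e3b342d3433382d333a2c39302b2c32323238322f3131373129313135303629303728303327282f2f2f362a322e2e2e342e2e262e2d2d3326352534292432252c2c332c2832242b2b2b2b2b2722232a2a2a2a2f2a292930213120292d1f2f20282830232c2f1f27272727222b2626262d261e2e211d252c1e252d25202c2b1d242424241f1a2a1b23232328232a1a2222221c272221212129211921261820281920291b252827181f1f1f1a24161e1e2517261e19251d24161d1d1d181c141c1c15221c1c121b23131b1b201b2322121a1a141f1a101919201121131e20181f101818121d0f1717171e1717111e16161d0f161610150d150e1c151515141c0c140d1a14140a13131b0b1319131b121a0a120c18120911111119110b171910101809100a16170f0f0f16080f090e0506150e0e0e0e0d150405140d0d0d0c0c140304120c0c020b0b0b1307110b130a0a120203100a110909091001020f08080808080f000100070707070b070706000e0606060606050e000d0505050504040d000c0404040303030c000a03030b0202020a00090201010101010900080000000000000800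
  cw := 0x2110d111a22c688d63447443463563d67443463563d67443463563d67443463563dd10d18d58f744351d9d16bf80000000000000000000000000000000000000002110d111a22c6b5e8868c6ac7ace8868c6ac7ace8868c6acd7a21a31abbd00000000000000000000000000000000000000000000000000002110d111a22c688dd10d18d58fa21a31ab1f44351d9d16bc0000000000000000000000000000000000000000000000000008443444688b1a237443463563dd10d18d58fa21a8ecdd16bc20000000000000000000000000000000000000000000000000000002110d111a22c68eb1ae8868c6ac7d10d18d58f59d16bbc0000000000000000000000000000000000000000000000000000000000000002110d18ecdd10d18d59af443463566bd3973000000000000000000000000000000000000000000000000000000000000000000844344468d8f59d10d18d5e8868c6acd7ae0000000000000000000000000000000000000000000000000000000000000000000002110d111a22c7ba21a31d9ba2d4bba800000000000000000000000000000000000000000000000000000000000000000844346346c68ee8b51d9af4434635d3972e0000000000000000000000000000000000000000000000000000000000000000002110d111a22c688d6344744351d9d16bac00000000000000000000000000000000000000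000000000000000000000000000000000000028b46346c68ee8b51d9d16ba00000000000000000000000000000000000000000000000000000000000000000002110d111a22ce8868c6acd7a21a31abbac000000000000000000000000000000000000000000000000000000000000000000008443444688b1a2358fa21a8ecdd16baa000000000000000000000000000000000000000000000000000000000000000000000000000000008443465dd10d18d74e1a00000000000000000000000000000000000000000000000000000000000000000000000000845a32cdd10d18d59d16a3b3a20000000000000000000000000000000000000000000000000000000000000000000000000000000002110d1966e8b51d9b980000000000000000000000000000000000000000000000000000000000000000000000000000000002110d111a22cdd16b98000000000000000000000000000000000000000000000000000000000000000000000000000000000008443444766e8b53960000000000000000000000000000000000000000000000000000000000000000000000000000000000002110d18ecdd16b9400000000000000000000000000000000000000000000000000000000000000000000000000000000000000028b465dd16b90000000000000000000000000000000000000000000000000000000000000000000000000000000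2110d1966bd10d18d74e1c00000000000000000000000000000000000000000000000000000000000000000000000000000844344468d9af443463579e00000000000000000000000000000000000000000000000000000000000000000000000000000000844344468d9ba2d4bb9a00000000000000000000000000000000000000000000000000000000000000000000000000000000000a2d18d58f59d16b9600000000000000000000000000000000000000000000000000000000000000000000000000000000000000a2d18ecdd16b9200000000000000000000000000000000000000000000000000000000000000000000000000000000000000021168cbd3971000000000000000000000000000000000000000000000000000000000000000000000000000000000000000000845a3774e0e00000000000000000000000000000000000000000000000000000000000000000000000000000000000000000028b51abb8c00000000000000000000000000000000000000000000000000000000000000000000000000000000000000000000a2d4bb8a00000000000000000000000000000000000000000000000000000000000000000000000000000000000000000000029cbb8800000000000000000000000000000000000000000000000000004221a2234458d11d10d18d58fa21a31ab1f44351d9d16bbf000000000000000000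00000000000000000000000000000000000000000000000000000000000000108868cdd10d18d74e1900000000000000000000000000000000000000000000000000000000000000000000000000005168c68d8d1e8b51d9d16b9f00000000000000000000000000000000000000000000000000000000000000000000000000028b46346c68ee8b51d9d16b9f00000000000000000000000000000000000000000000000000000000000000000000000000000000000000005168ddd16b8f00000000000000000000000000000000000000000000000000000000000000000000000000108b4659d10d18d59d16a3b3a100000000000000000000000000000000000000000000000000000000000000000000000000000000000a2d18d58f59d16b9500000000000000000000000000000000000000000000000000000000000000000000000000000000000000a2d18ecdd16b9100000000000000000000000000000000000000000000000000000000000000000000000000000000000000028b465dd16b8f00000000000000000000000000000000000000000000000000000000000000000000000000000000000000000000005cbb87000000000000000000000000000000000000000000000000000000000000000000000000000000000000000000000054bb870000000000000000000000000000000000000000000000000000000000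0000000000000000000000000000000000145abb89000000000000000000000000000000000000000000000000000000000000000000000000000000000000000000000053bb870000000000000000000000000000000000000000000000000000000000000000000000000000000000010886888ece8b539500000000000000000000000000000000000000000000000000000000000000000000000000000000108868cbd10d18d74e1900000000000000000000000000000000000000000000000000000000000000000000000000000000004221a2234459d16b9700000000000000000000000000000000000000000000000000000000000000000000000000000000000000005168cbd16b8f00000000000000000000000000000000000000000000000000000000000000000000000000000000000000005168cdd16b8f00000000000000000000000000000000000000000000000000000000000000000000000000000000000000000108b4774e0d00000000000000000000000000000000000000000000000000000000000000000000000000000000000000000000145a9b890000000000000000000000000000000000000000000000000000000000000000000000000000000000000000000000539b8700000000000000000000000000000000000000000000000000000000000000000000000000000000000000000000009cbb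8700000000000000000000000000000000000000000000000000000000000000000000000000000000000000145a31d9d16b9100000000000000000000000000000000000000000000000000000000000000000000000000000000000000000028b51abb8b00000000000000000000000000000000000000000000000000000000000000000000000000000000000000000000a2d4bb8900000000000000000000000000000000000000000000000000000000000000000000000000000000000000000000029cbb8700000000000000000000000000000000000000000000000000000000000000000000000000000000000000000108b46f4e0d0000000000000000000000000000000000000000000000000000000000000000000000000000000000000000000516a3578b00000000000000000000000000000000000000000000000000000000000000000000000000000000000000000000145a97890000000000000000000000000000000000000000000000000000000000000000000000000000000000000000000000539787000000000000000000000000000000000000000000000000000000000000000000000000000000000000000000000053970700000000000000000000000000000000000000000000000000000000000000000000000000005168c68d8d1e8b51d9d16b9e00000000000000000000000000000000000000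000000000000000000000000000000000000000000000000005168ddd16b8e0000000000000000000000000000000000000000000000000000000000000000000000000000000002110d19d10d18d74e1800000000000000000000000000000000000000000000000000000000000000000000000000000000000000000000000b9b8600000000000000000000000000000000000000000000000000000000000000000000000000000000000000005168cbd16b8e00000000000000000000000000000000000000000000000000000000000000000000000000000000000000005168cdd16b8e00000000000000000000000000000000000000000000000000000000000000000000000000000000000000000000000b978600000000000000000000000000000000000000000000000000000000000000000000000000000000000000145a31d9d16b9000000000000000000000000000000000000000000000000000000000000000000000000000000000000000000000145abb88000000000000000000000000000000000000000000000000000000000000000000000000000000000000000000000053bb8600000000000000000000000000000000000000000000000000000000000000000000000000000000000000000000000a9706000000000000000000000000000000000000000000000000000000000000000000000000000000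00000000000000000a9b8600000000000000000000000000000000000000000000000000000000000000000000000000000000000000000000028b578800000000000000000000000000000000000000000000000000000000000000000000000000000000000000000000000a778600000000000000000000000000000000000000000000000000000000000000000000000000000000000000000000000a770600000000000000000000000000000000000000000000000000000000000000000000000000000000000000000a2d19d16b8e0000000000000000000000000000000000000000000000000000000000000000000000000000000000000000000516a3578a00000000000000000000000000000000000000000000000000000000000000000000000000000000000000000000145a9788000000000000000000000000000000000000000000000000000000000000000000000000000000000000000000000053978600000000000000000000000000000000000000000000000000000000000000000000000000000000000000000021168f4e0c00000000000000000000000000000000000000000000000000000000000000000000000000000000000000000000028b538800000000000000000000000000000000000000000000000000000000000000000000000000000000000000000000000a7386000000000000000000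00000000000000000000000000000000000000000000000000000000000000000000000000000a730600000000000000000000000000000000000000000000000000000000000000000000000000000000000000000000000a728600000000000000000000000000000000000000000000000000000000000000000000000000000000000000000a2d1dd16b8d0000000000000000000000000000000000000000000000000000000000000000000000000000000000000000000000017785000000000000000000000000000000000000000000000000000000000000000000000000000000000000000000000001730500000000000000000000000000000000000000000000000000000000000000000000000000000000000000000a2d19d16b8d00000000000000000000000000000000000000000000000000000000000000000000000000000000000000000000028b578700000000000000000000000000000000000000000000000000000000000000000000000000000000000000000000000a7785000000000000000000000000000000000000000000000000000000000000000000000000000000000000000000000001530500000000000000000000000000000000000000000000000000000000000000000000000000000000000000000000000152850000000000000000000000000000000000000000000000000000000000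000000000000000000000000000000000000516b870000000000000000000000000000000000000000000000000000000000000000000000000000000000000000000000014f850000000000000000000000000000000000000000000000000000000000000000000000000000000000000000000000014e850000000000000000000000000000000000000000000000000000000000000000000000000000000000000000000000014e0500000000000000000000000000000000000000000000000000000000000000000000000000000000000000000145a3d16b8c00000000000000000000000000000000000000000000000000000000000000000000000000000000000000000000000053040000000000000000000000000000000000000000000000000000000000000000000000000000000000000000000000002e840000000000000000000000000000000000000000000000000000000000000000000000000000000000000000000000002e040000000000000000000000000000000000000000000000000000000000000000000000000000000000000000000000516b860000000000000000000000000000000000000000000000000000000000000000000000000000000000000000000000014f840000000000000000000000000000000000000000000000000000000000000000000000000000000000000000000000002a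0400000000000000000000000000000000000000000000000000000000000000000000000000000000000000000000000029840000000000000000000000000000000000000000000000000000000000000000000000000000000000000000000000000a03000000000000000000000000000000000000000000000000000000000000000000000000000000000000000000000000058300000000000000000000000000000000000000000000000000000000000000000000000000000000000000000000000005030000000000000000000000000000000000000000000000000000000000000000000000000000000000000000000000000102000000000000000000000000000000000000000000000000000000000000000000000000000000000000000000000000008200000000000000000000000000000000000000000000000000000000000000000000000000000000000000000000000000010000000000000000000000000000000000000000000000000000000000000000000000000000000000000000000000000000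
  od := 0x203060404050c0606060a06060c080a0c0c0c1209081e0c0e0f1214181e020606040c04040c081e140c180606060a0606120c0e0818140c1e0c0e12080206030606040c040c06040a0c080f0606080a06090c0607020606040406040c0c080a06020206030406040502060402030201
  bd := 0x4084414100054404c440448440814004440000408004410040040000000060e46161e161656060e165e0e464e46064e4e060e06164616164646060616060e0a0e46161e161a4e160656060a4e4612064a020a4e02060e0e161646161e5606064e06060e0a12461602060e16060a0602
  jt := 0x515151515151515151515151515151515151515151515151515151515151515151515151515151515151515151515151515151515151515151515151515151515151515151515151515151515151515151515151515151515151515151515151515151515151515151515151515151515151515151515151505050505050505050505050505050505050505050505050505050505050505050505050505050505050505050505050505050505050505050505050505050505050505050505050505050505050505050505050505050505050505050505050505050505050505050505050505050505050505050505050514e4e4e4e4e4e4e514e4e4e4e4e4e4e4e4e4e4e4f4e4e4e4e4e4e4e4e4e4e4e4e4e4e4e4e4f4e4e4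e4e4f4e4e4e4e4e4f4f4e4e4e4f4f4f4e4e4e4e4f4f4f4e4e4e4f4f4f4e4e4e4e4f4f4f514e4e4e4e4f4f4e4e4e4e4e4f4f4e4e4e4f4e4f4f4e4e4f4e4f4e4f4e4e4f4f4e4f4f4e4e4e4f4f4f4f4f4e4e4e4d4d4d4d4d4d4e4d4d4d4d4d4e4d4d4d4d4d4d4d4d4d4d4d4d4e4d4d4d4d4d4d4d4d4d4d4d4e4d4e4d4d4d4d4d4d4d4d4d4d4e4c4d4d4d4d4e4d4c4d4d4d4d4d4c4c4d4d4d4d4d4d4c4d4e4d4d4d4d4d4c4e4d4d4d4d4d4d4d4d4d4d4d4d4d4d4d4d4d4d4d4c4d4d4d4d4d4c4c4d4d4e4d4d4c4c4c4d4b4b4b4b4b4b4b4b4b4b4b4b4b4b4b4b4b4b4b4b4b4b4b4b4b4b4b4b4b4b4b4b4b4b4b4b4b4b4b4b4b4b4b4b4b4b4b4b4b4b4b4b4b4b4b4b4b4b4b4b4b4b4b4b4b4b4b4b4b4b4b4b4b4b4b4b4b4b4b4b4b4b4b4b4b4b4b4b4b4b4b4b4b4b4b4b4b4b4b4b4b4b4b4b4b4b4b4b4b4b4b4b4b4b4b4b4b4b4b4b48484848484848484848484848474848484847484848484848474847484748474747474747474747474748484847484747484748484847474847484748484747474747484848474848484747474848474748474748474748474847484748474847484747474747474847474747474848474747474748484847474c47474747474c47474747474a474b47474747474747474b47474747474a4b474647474746474b47474a474647474b4a474a474747464646474747464646474b4b474a4a4747474a47464747474b4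64647474746474746464c4a474a47474a4746464b47474a474746474746464747464747464646474444444444444444444444444444444444444444444444444444444444444444444444444444444444444444444444444444444444444444444444444444444444444444444444444444444444444444444444444444444444444444444444444444444444444444444444444444444444444444444444444d5050504d4d4d4d4d4d4d4d4d48484d484848484d4848504d4850484d4850484d484848484d484848485048484848484850484848504848484048484848484048404848484d48484d484848404d484840484848484048484848484d4848484840484848484840484d48434840484d404d484343484d40404f404040404040404f404040404040404a404a4a4f4a4a4a404a4a4040404a4040404a40404f4a404a404a4a4a4a40404a4a4a4a404a4a4a4a4040404a4a4a4040404a4a4a40404a404a4a4a4f404a4a404a4a404a404a4a4a4a40404a4a4a4a4f40404a4a4a404a4040424a404a4240404042424a4242404e4d4d4d4d4d4f4e4e4d4d4d4d4d4d404d4d4d404e4d40404f4040404940404049404040494040404049404940404d49404049404d4040404940404d40404049404d4040404940404d4040404f4f40404f40404d4949404049404d4949414049404d4941494140494d4941414941494d494941414141494e4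3434646464646434646464646464643464646464646464646464646464346464646464346434646464646464646463f46464646464646464643464646464346464646464646464646463f4646433f46463f3f4643463f3f463f464646463f46464646464646464646464646464646464643463f463f463f424242423f3f3f3f423f3f3f3f42423f3f423f3f423f3f3f3f3f3f423f423f423f423f4242423f423f423f3f3f3f42423f3f3f3f423f3f3f3f3f42423f3f3f3f423f3f3f3f3f423f3f3f3f3f423f3f3f3f3f3f423f3f3f3f3f3f423f3f3f3f3f4242423f3f3f3f3f3f42423f3f3f443f3f4242423f44443f5050484848484850504848484848484848454848484348484348484845484848454848454548484845454843454548454848454548454548454545484545484545483d454545454548453d4543504545453d3d5043454545483d4845484545453d484545483d45454845453d483d45484843453d3d3d45454d484848484c404d4d404c484848484848484848404848404a484740404747473c4747473c3c4840473c3c3c4840483c403c3c48483c49473c4840484745473c47484547454a47474040453c4c4c473c40493c48484a403c3c3c483c483c3c3c3c483c45483c3c3c483c4545483c3c4d4a3c3b453b3c4040393939393939393939393939393739393939393939373739393939373937393737373737373739373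7373937373739373739393939393739393739373737393737373937373937393939393737393939373937373737373739393739393737373739373737393737393737373737393937373737373939394040493c3c3c4940403c3c3c3c3c493c3c41493c49423c3c423c3c493e3c3c3c3e3c3c3e3e3c3c493e413c423e3e49413c3c413e493e413c3e3e413c3e3e3c3e3e3c3d3e3e3e3e3e3c413d3e42403e3e413d3d40423e3e3e493d493e493e3e413d3c3e3e3c3d3e3e3c413e3d3c363e3c3c42413d36363e413f3f3a3a3a3a3a3f3f3a3a3a3a3a3a3a3a373a3a3a443a3a443a3a3a373a3a3a373a3a37373a3a3a37373a4437373a373a3a37373a37373a3737373a37373a37373a3637373737373a373637443f37373736363f443737373a363a373a373737363a37373a3637373a3737363a36373a3a443736363637373d3d3d38383d3d3d3d3d3d3d3838383838383d3d3d363838363d3d3838383d3838383d3636383d3838363d3636363d38383838383838383d3636363838363836363d3d36363836383d363d38363d383838363d3d363836363d3d3d363d38383636383636383d3636383836363836383d3d363836363d38384d4d4d484848404d4d48484848484948484040484d494848403c48403c483c3c3c3c3c3c3c483c493c4148493c3d4d41483c413d4048493c3d3d4948483d3c3d3c483c483d3d3d3c48493c3d414d3d3c4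13d3c40403c3d3d413d4d3c413d3d493d483c3d3c3d3d3d48403d3d3c343d483c41413d34343d49484848474747434848474747474748474746434743433c4746473c433c3c47473c47473c3c3c47453c453c463c3c46463c47463c48334547333c433c333c4733333c33333c3347333c46333c4343473345333348453333474633453348333345334733333c3c33334745333c3c3e33473c45433c3e3e334645454533333b454545453b33333b333b333b453333453b333a33333333454533333345453b3b3b33333333333333333b3a3b333b3b33453a3a333a33333b333a3a3b453a453a3333453a3b333b3b3a3b453a3345453a3a33333a453a45333b3b3a333a3a3333333333333b3b333a3b3a4533453a3a3a33334a3c4a3c46463c3c3c463346333c423b3c3c3b464a3f33463b33333b334a333e333c3342423c333b333e333f333a3c3b33333b3a42463f333e3b3e3e463b3e3341463c3b3a333e33463f333a3e3c3a333e33333b3b3a393a41333c3a3e39393e3e4a3c39413a3f3b33423b3a33333933333e3e3e3337393b4747474b4747464747474647464b463b4b46473347473b334633334633463b33334633333b4b3b4b3b33463333333333463b333333334733394639463b4633393947463333393933473b3b3b3b3b3b3b3b3933473838463339394738383b463939463933393347393333393b33393333333338393938334b4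848404747403c4848404a4747474a45473c4045483c3c4a3c41473c3b4745453345453333473c4a333b47413b3e403d4a3c3d333c4a3c4538333e474533453833474545333e38334841453e3b40383c3b3e41403b3d3e41413848333d3d453e3847333833414538473c38383338383c3c3b3d3835383d4a33333333333e3e33333e3e393a3a3e3e3e3a3a33333939333e3a38393a3a3938383e3837393a36373839393837393e3837333a37333e373e35363a3739383a3636393638373636373a33363535333836353a353939383738363837393e35353536333e353536353a3e3537373736383a38373539353536364646464633333333333333333f3f4633333a33463f393f33393f33333a3939333933393939393a39333339393a393a353733333f4635394639353f37373339373a3935353735373535333a3935393335353a353935393539353335353335393935333f3535333439353737393535343a34373f46393535353c3c3c454545333c3c45333345333e333333333d3c3e3d4533383c3d3e33333a3e3a383a3a333e3d3e384538383845383d3335383e3c3838353638333d363a343a383a33383a36353c3d333636453633363d353e3e3434383534453336343d3835333838383835353c3e343434353a3833363634353d343a474747473c3c4647473c46463c33333c4646333c47333347463e4633333c333e333338333e3c3e383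9393333393e473e3e463938464738333534333e3c39383439333333343938393c3c3835354735333533353e46383538353946333e34343934474638353434333c3e3e3438383933333535353434343948484848484747484847473c47453c483c474547483c3c48474547453c453c3345333d3333453d3d33333c3c384548453d47333847483d33383d3c453c384534333d3d4738383d383c48333434483833343c343d47333d383438454745383438334745453d343433483d3d3d34343c3c33343434343838386f6d6d6d6d6d6d6d6d6d6d6d6d6d6d6d6d6d6d6d326d6d6d326d6d6d326d6d6d326d6d6d32326d6d6d32326d6d6d6d3232326d6d6d3232326d6d326d3232326d326d3232326d32326d3232326d6d32326d323232326d32323232326d3232323232326d3232323232326d323232323232326d3232323232326e6e6767676767676767676767676767676267676262676762626767626762676262676262626762626262676262672f62626262622f6262626262622f62626262622f2f62622f62622f2f6262622f62622f2f6262622f2f622f2f622f622f2f2f2f62622f2f2f2f2f62622f2f2f2f2f2f30622f2f2f2f2f6d6565656565656565656565656565666565656632656666326666662d6666662d6666662d2d6666662d2d656666652d2d2d6566652d2d2d65662d652d2d2d652d652d2d2d652d2d652d2d2d65652d2d6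52d2d2d2e652d2d2d2d2d652e2e2d2d2d2d652e2e2e2d2d2d652e2e2e2e2d2d2e652e2e2e2e2d326d6c6c6c6c6c6d6d656c656c656c6c65656c65656d656565656565656565656565656565656565656565656565653165656565653165656565652d31656565652d31656565652d2d3165656565322d2d3265656531312d2d31656531312d2d316565312d312d2d3165312d2d312d316531312d2d2d2d31656c6c6c6767676767676767676767656767656567656561676561616761616161616161616161615c615c6165615c655c615c655c655c655c5c5c655c5c5c5c5c5c5c5c5c5c5c5c5c5c315c5c5c5c5c5c5c2f5c5c5c5c2f5c5c2f5c5c5c5c2f5c2f2f5c5c2c5c2f2f2f2d5c5c2c2c2f2f2c2d2d5c2c2c2f316c616161616161616161616161616161616161612d6161612d6169612d6969692c6969692c2c6161692c2c616161612c2d2c6161612c2d2c61612d612c2c2c612c612c2c2c612c2c612d2c2c61612c2c612d2c2c2c612d2c2c2c2c612c2c2c2c2c2c612c2c2c2c2c2c612c2c2c2c2c2d2b612b2c2b2c2d2d6969696b6969696958695869586b6958586958586958585858585858585858585858585858585858585858585858285858585858285858585858282a585858582a28585858582a2828585858582b2b2b2b58585828282a2828585828282b2a2858582a282a28282a58282a2b282a28582828282a2a2828586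16166696966616157665769576966575761575761595757575757575957575759575759595757575959575759592d5757575759275759575759272857595757282857575957292827575759592d29272b5757572b27262e2d5757282727292757572828282e29285727282928292857272b27292629275765656561616165655c615c615c61655c5c655f5c655f5c5c5c5f5c5c5f5c5f5f5f5f5f5f5f5c5f5c5f5f5c5c5f5f315f5c5f5f5f2d5c5f5f5c5f31275c5f5f5c27275f5c5f5c2727275c5f5f5f3127272e5c5f5f2d2725272d5c5c272e2725315c5c2727272725275c2d27272725275c272e2e272525275c67676767676a6a6a6a6a6a6161616161616161616161616261615b6261625b5b625b625b5b625c625b5b5b5c57625c625c5b575757625c57575c5c575c57575c575c5c5757525c57525c575252525752525c525252525c525252522c5252525252522f2f52525252522f2f2f52525227242c2c2c2c5227276a6a6a6a6169696161696961695b5b615b5b5b5b5b5b5b5b5b5b5b5b5b575b5b5b58575b575b575758585757585757575758585758575758575257575758525358525752535357525352535352525253535353525253525353535252525353532852245252532c532c2727522c532c2c28242424522828286969695b5b5b645b5b5b64645b5b585b6458585b5858595b5859585b5959585958595859595959535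853585859535853595358535853585355535853535553535355555353555355532c5355535355535524555353532453552a535353532c5524245353245324242c26535329292a24242626532424242a61616162625b5b62625b5b5b5b6257625b57575b5757576257575762575a575a575a575a5a5a57525752575757525752575257545752575454525752545452545254545254545254542f545452525454542c545252542f545429525252542c54242452522f5424242f25525224242c2c2425255224292929635e5e5e5e5e5e5e5e5e5e5e5e5e5e5e5e5e5e5e22685e5e1f5e5e5e225e5e5e225e5e5e22225e5e5e2222685e5e5e1f22225e5e5e1f1f225e5e225e1f1f225e225e221f1f5e1f225e1f221f5e5e1f225e22221f1f5e1f1f2222225e221f1f1f22225e1f22221f1f225e1f2222221f22225e1f2222221f1f67625b5b5b5b5b62625b5b5b5b5b5b5b5b5b5b5b2c645b5b305b5b5b2c5b5b5b2c5b5b5b2c2c5b5b5b2c2c645b5b5b242c2c5b5b5b24242c5b5b2c5b24242c5b2c5b1c24245b242c5b241c246262242c5b1c1c30305b24242c1c2c5b2c2424241c2c5b242c1c24242c5b241c2c1c242c2c62241c1c1c2424665f5f5959595f5f5f59595959595f59595f5f592e6359592359595f1c5959591c5959591c1c595f592e1c6359595f231c1c5f595f26231c59592e5926261c591c591c262659261c59231c265f5f261c5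f1c1c23235926262e1c2e592e2626231c1c59261c1c26261c5f261c1c22261c1c5f231c22222623655c5c5757575f5c5c57575757575f57575c5f572d5f57572d59575f2c5759592c5959572c2c595f572e2c5f57575c232c1c5f575f2c2e1c57572d572c251c572c571c2c25571c2c572e1c255c5c1c2c5f251c232d57251c23252d57231c252e252c571c1c2525252c5c1c251c20252c1c5c23252020252e67676561616166656561616161616561615c66615c5c61615c57616657615761575761575757615f575f57655757652d57575f575c2f5f5757575c572f5757575757272f57572f57572d27575c5c2f575f27275c5c57272f5f272d572d57272d272f5757272727272f5c5727271c272f27235c271c1c272d64645959595959595959595963635959595559595555635955555959555955595555595555555955555555595e55591c5e555555551c55555555555e2655555e5e551c265e552655551c265555551c555526265555552626551c26551c552626261c5555261c1c262655552626261c261c1f5526262626265b5b57575f5f5957575f59595f59575f5953595f5353595753545959545f535f5354575454545f5656565657565357275653565453275654565453562756545456561c1c545627565427255653531c54561c2653535426275626265427541c26252753542625251c2753531c2525261c1c1e5326252525266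2625c5c5c57575c5c57575f57575c5c5f52575752525f5c525257575257525752545c5454545c545454545c5d525c2f5d525454522f54545d525254275d5254545d272754542f5d542f1c54525227545427255252542727542525522f541c251c275252271c251c2f525227252527271c1d5225252525256161616161615b615b5b5b5b5b5b5b5c5b5b5b575b5b5f5c5b5757575c575f5957595f5959575c5f59595f52575752575f575357535c5259545c52545f5357545354525754525254525c535353275353535254542c1c52545454542c2c27545453532c2c272c5353522727271c2c52521c1c1c1c1c27521b6157575858575957575759585858595a5857575a2c5959592c59585923585a5a245a5a5824245959582b24595959571c2b1c575a592b1c24585a1c58241b2458245824241b591b245723242657571b2c5926232323572623231b2c58252524261b24581b1b23241b24571b1b1b1b1b1c1c571c1b211b1c2b5959595a5a5a5959545a545a545a59555559565459565454545654545655565e565e565e5e55565456565454565629565456565626545656555e291b545e5e541b1b5e5556541b1b1b54565656291b1b22545656261b251b2654541b221b252955551b1b1b1b211b54261b1b1b211b541b22221b21251b54585858585959585853595359535858535558565358555553535655555553565655555655565356566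060565360562856565555562a53565556552826536056532a1b56555553281b1b53565555281b1b215556562a1b1b1b2655551b261b1b2a53532a1b211b20285326261b1b1b1b531b2121211b201b53575757575758575752585257535757525457545357535452525453545354545654565d565654545d56565452565427545d53535628525456545427295456545428255d53565227291b5256535327281b20545454281b271b25545428291b1b2953532929251b1b2852252525201b27521b202020201b1b525955555556565656565656565e5e5556565e565526605e561b5e5656266060561b5660601b1b5e56561b1b605e565e21221b565555211b265656265e1f1b215e2256211e1f561f21561b222156561b1e56221e2121561e211e1b1e561b2121211e1b551e1e1b20211e551f211e1e202220551f26211e1e1e5f5454545454565454545656545656565654565d1c565d541c56545d2556565e1c5e56561b1b565d542525565d54541b251b565d561c201b56562556251e22541b56221b2056222054251b2254541e1c56251e1e2554201b1e2025541e1d25201e1b541b20201e1e1c5420201d1e22201b541e1d1e252022575353535454555353545555545655545553565424555653245655561c545656245656541c1c5656551b1b55565353262626565455241b1b555424561c21205426551b1b1d551b1b541c20215353211c5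51b1e1e24541e1b1e212654262020211d24531b1e1d1d1b1c5326202020211b1b531e1e1d1d1d215c525252525353525253535453545352545254532c5354522c5453542c5454552c55545424245454531c1c535452522425245453532c1c1b54522c541c1b25532454252420531c25532c1b2052521b1c531c1d1d2c53251b1d202552241b20201b24522425201d1b2c5225251d1d1c1c1b521d1d1d2020205b5b5b5b5b5b5b575b585759585a595759585a5857595957585a5852595759535a585453595254575558535356545257545355565352545556545354535654555554545356535456535255541b5256551c53541c5324545624532428542855285228242454245324241c1c1c531c1c1c521b1b1b1b1b1b1b514e4e4e4e4e4e4e4f4e4f4e4f4e4e4f4f4e4f4f514f4f4f4f4f4f4f4f4f4f4f4f4f4f4f4f4f4f4f4f4f4f4f4f4f4e4f4f4f4f4f4e4f4f4f4f4f1a4e4f4f4f4f1a4e4f4f4f4f1a1a4e4f4f4f4f4e1a1a4e4f4f4f1a4e1a1a1a4f4f4e1a1a1a1a4f4f4e1a1a1a1a1a4f4e1a1a1a1a1a4f1a4e1a1a1a1a1a4f4e4e4e4d4d4d4d4d4d4d4d4d4d4d4e4d4d4e494d4e49494d4949494d4949494949494949494949494949494949494e49494949494e49494949494e49494949494949494949494949494d494949494949494d494949491949494d4949494919494d4d4949194919194d1a49491919194d191a1a491919194d5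0504343434343434343434343434343434343434343434343434343434343434343434343434343434343434343431843434343431843434343434318434343434318184343184343181843434318434318184343431818431818431843181818184343181818181843431818181818185043181818181850504d4d4d4848484848484040404040404840404848404848484848484845484545484545454d454545454d3d454d503d453d3d3d503d3d3d3d3d3d403d3d3d3d3d40403d45403d454040454545404545403d454545403d453d3d483d453d3d3d3d48483d3d3d3d3d4848193d3d3d1918184819193d19194f49494a4a4a4949414a414a414a4941414942414f414141414241414141424241424241414142414141414141414942414242414941414241411a4a41414241144a4241414114144a41424141491414494142421a4a15141741414a1714151a41414a1414141514414914141415144114491714151514414d4d4f4c4c4c4f4f404c404c404c4f40404d40404d414040414140404140414041414041414140414141414041414e4041414141494041414141494a404141414a4a40404141194a4a4040414149194a49404041494a14194940404a1a4a141a40404a4a1919141940494a191914194019174919141419404d484848484747474747473c3c3c3c3c3c3c3c3c4c3c3c454c3c46454c4545464346454543433c454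643433c3c453c4341433c3c3c43413b3c3c413c413b413c3b3c413b4147414147413b3447473b34474134343447413434343448343434343434481834343434344819193434341413481818183414144c4a4a4b4b4a4a4a3b4a3b4b3b4b4a3b3b4a3b3b4c3b3b3b3b3b3b3b3b3b3b3b3b3b3b3b3b3b3b3b3b3b3b3b3b3b4a3b3b3b3b3b4a3b3b3b3b3b144b3b3b3b3b134b3b3b3b3b13134a3b3b3b3b4a13144a3b3b3b174a1617173b3b4b141413143b3b4b13131713133b4a13131313133b144a14131613143b4b4b4b46464646464646464646464b46464b39464b393946393939463939393939393939393939393939393939394b39393939394b39393939394b393939393939393939393939393946393939393939394639393939133939463939393913394646393913391313461639391313134613161639131313464a4a4a45454645454546454546454a45454a38464a38384538383845383a383a383a383a3a3a38383838383838384a383838383a4a38383a38384a383a38383a383838383a3838383a453a383838383a38453838383a193a38453838383a133846463838193a131345153838131319451315153813131345474747474747474a474b4a4a4b33334a333333333333333333333347334a3347334b38474a47384a394b38383938384a38393938393838393838383838393839393838383938383839383938333838393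339383338333839333833333833393347331333383347331314143347331414471313133313131348484848494a4a49494a4a494a3c3c493c3c3c3c3c3c3c3c3c3c3c3c3c403c3c3c38403c383c403838383840383840403838383838403838383d383840383d3e383d403d3e3e403d3e3d3e3e3d3d3d3e3e3e3e3d3d3e3d3e3e3e3d3d3d3e3e3e143d473d3d3e193e1947473d193e1919141047103d1414144a46463e3e3e3f3e3e3e3f3f3e3e393e3f39393e3b393a3e3b3a393e423a393a3b3a393a42423a3e39353b393a3e39354235393e39353b353f3e3b3e3537353e353f3735353f35373e1435373e3e37353f103735353e10353716353e3535143710103e3510351010144635351515161010461235101010164945453d3d3e3e3d3d3e3e3e3e3d383d3e38383e4138383d4138383d413a383a413a383a3b3b383d38344138383d38344134383e383441363e3d413d3636343e343e3634363e34363e1936363d3d36363e143634343e19363615343d3436143610103d34193610101945343410101414104511341015151547474743434343454346454646453b45463b3b463b3b3b453b3b3b483b3b3b333b3b33333b33334733473333333433473334333533343335353433343535343534353534353434353545353433343535334634333433453533463333343346334513333345334618181033334618181845101033131313134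040413b3b3b4241413b3b3b3b3b413b3b41423b41413b3b413b3b423b3b3b3b3b3b3b3b3b3b3b423b423b413b3b41173b3b423b4118423b3b3b413b183b3b3b3b3b10183b3b183b3b17103b4141183b42101041413b10184210173b173b101710183b3b1010101018413b10100f1018104041100f0f1017423a3a3a3a3a3a3a363a363a363a3a37373a373642363636363736363637374436443737373737363636363636363a37363737363a3636373737153a363744360f3a443736360f0f3a363736363a0f0f3a363737153a150f1236363a120f151537373a0f0f0f120f363a0f0f0f120f360f3a120f12150f363b3939393a3a3939353a353a35393935373937353b35373535373737353537373537373535353737373737353735393737373735393535373735133935373735163a37373535130f3a35373535390f0f39373737133a0f0f1237373a160f0f163535390f120f11133539160f0f0f0f350f3912120f110f35413838383839383834393438353838343638353541343634343535363436363734373636353535363536363436343835363535353834343736341438363536351338363536341415393437343438130f383635351439140f11363638130f0f1535353813150f0f1334381515110f14340f381111110f0f343f3f37373737373737373737444437373737373737374437373737373737373737373737373737373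73737374437370f44373737370f3737373737441237374444370f1244371237370f123737370f373712123737371212370f12370f371212120f3737120f0f121237371212120f120f3f3712121212123e3e353536363735353637373637353637353736353537353536373736363536353635363636363737373735373535103735373635103736373635371037363637370f0f363710373610113735350f36370f1235353612103712123610360f12111035361211110f1035350f1111120f0f3e3512111111123d3d3434343535343435353635353434363435353434363434343535343534353435343535353435353535343634341836343535341835353634343510363435353610103535183635180f353434103535101134343510103511113418350f110f103434100f110f18343410111110100f3d34111111111143433c3c3c3c3c413c3b41423b3b414142333b3b3333424133333b3c3341333c33333c3433343c333533353c36343c4036343535343d3535363434353e36343535363e3e35343d36353d3f3433343e35333e3e3334333e3e333e10333d333f143d1433333e183e18183333143e1414143d0f3310101010103c333333333333383339383a393a39383a383a393b393a383b3a39383b383a393b393a383b343a38393b35393a38383b36353a39393435373a38343a35373639353a36353738353639343735333837353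335360f3433363710351033351337133413331336133513133310103510101034330f0f0f0f0f0f3131322d2d2d2d2d2d2d2d2d2d2d322d2d312d2d312e2d2d2e2e2d2d2e2d2e2d2e2e2d2e2e2e2d2e2e2e2e2d2e2e322d2e2e2e2e312d2e2e2e2e312e2d2e2e2e2e2e2d2d2e2e2d2e2e2d2d2e2e2e2d2e2e2d2d2e2e2e0d2d2e2d2d2e2d2e0d2d2d2d2e2e0d2d0d0d2d312e2d0d0d0d2d0d0e312d0d0d0d2d312f2f2f2f2727272727272727272727272727272d27272f2d27292f2d2929292c2929292c2c272f292c2c27272f272c2d2c2727272c2d2527272d27252525272527252525272525272d252527272525272d252525272d252525252f2525252525252f2c25252525252f2c2c2525250d0c2f0c2c0c250d0d30302c2c2c2c2c2c2c2c2c2323232323232423232424232c24242c2c242c242c24242c2424242c242424242c1d242c2f1d241d1d1d2f1d1d1d1d1d1d1c1d1d1d1d1d1c1c1d241c1d241c1c2424241c24241c1c2424241c1c241c1c241c241c1c1c1c24241c1c1c1c1c24240c1c1c1c0c2f0b240c0c1c0c0c2d2d2e2b2b2b2e2e232b232b232b2e23232d23232d232323232323232323232323232323232323232323232323232d23232323232e23232323232e2b232323232b2b232323230c2b2b232323232e0c2b2e2323232e2b080c2e23232b0e2b080e23232b2b0c0c080c232e2b0c0c080c230c2d2e0c08080c232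b2a2a26262626262626262626262a26262a21262b212126262121262621212126212121262621262121262121262a21262121262a21262126262b262121212621262121212621212626212126262121262621212126082121262126212108212626262108210808262a212108080826082a0a21080808262e292925252625252526252526252925252920262e202025252020252522202225222022262620252020252020252920252020262920252225252e2522202026202520202225202026252220252520222525202020260d222025202520220820262625200d2208082529202008080d2508290920080808252c2c2c2c2727272e272b2e2e2b1c1c2e1c1c1c1c1c1c1c1c1c1c1c2c1c2d1c2c1c28272c282c2728202820272020272d202020202027202020252020272025262025272526252725262526251c2525261c26251c251c25261c251c1c251c261c271c281c251c271c0c28281c271c0d0d270828081c0c0c0c2c28282824242429242a29292a1b1b291b1b1b1b241b1b1b241b1b2824281b2824281b282b2c1b281b2b1b1b1b1b1b2b1b1b1b1b1b1b1b1b1b291b1b1b1b202a1b291b2021291b202a202120242920212421201b202420211b201b24201b211b241b281b201b241b0b28081b241b0c0c242808081b0b0b0b2626261e1e1e1f1e1e1e1f1f1e1e211e1f21211e2121221e2122211e22222122212221222222221e2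11e2121221e211e221e211e211e211e1f1e211e1e1f1e1e1e1f1f1e1e1f1e1f1e081e1f1e1e1f1e1f071f1e1e1e071e1f0a1e1e1e1e081f07071e1e071e070708261e1e09090a070726261e0707070a2525251d1d1e1e1d1d1e1e1e1e1d201d1e20201e2020201d2020201d20212021202120212121201d201d2020201d201d201d201e201d201e1e1d201d1e1e1d1e1d1e1e1d1e1e1d1e1e0c1e1e1d1d1e1e1e081e1d1d1e0c1e1e091d1d1d1e081e07071d1d0c1e07070c251d1d070708080725251d070909092724241c1c1c1c251c26252626251b25261b1b26231b1b25231b1b27231b1b1b231b1b1b231c1b271b241c1b1b251b241c1d1b261b1d1c1e26251c251e1e1d261d261e1d1e251d1e26251e1d1c251e1e1c261d1b1d1c251e1b261b1c1d1b261b25081c1b251b260c0c241b1b260c0c0c2524071b080808081c1c1b1b1b1b1b201b21202221212020221b21211b1b22201b1b211b1b201b1b1b1b1b201b201b1b211b211b22201b2322202121201d2121222020211e22202121221e1e21201d22211d1f201b201e211b1e1e1b201b1e1e1b1e071b1d1b1f081d081b1b1e0b1e0b0b1b1b081e0808081d1c1b07070707071a1a1a17171717171717171717171a17171a17171a171717171717171717171717171717171717171717171717171a17171717171a17171717171a1717171717171717171717171717171717171717171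71717171717061717171717171706171717171706170606171a171706060617061a1a1706060617191919191919191a191414141414141a141414141414141414141419141a14191414191914191914151415191515191a15151515151915151519151519151915151519191515191515191515141915151415151419141515141514141914151419141414191419141414141419141414190614061406140619181818181414141414141010101010101010101710101917101319171313131813131318181019131818101019101814181010101814111010141011111110111011111114111114141110141411101414101010141410101010181010101010101813101010101018131310101006191805130510060618181313131313131313130f0f0f0f0f0f130f0f13130f1313131313131313131313131313131313131313130f1313180f130f0f0f180f0f0f0f0f0f0f0f0f0f0f0f0f0f0f130f0f130f0f1313130f13130f0f1313130f0f130f0f130f130f0f0f0f13130f0f0f0f0f1313050f0f0f0518181305050f05051616161212121212121212121212161212161212161212121212121212121212121212121212121212121212121216121212121216121212121216121212121212121212121212121212121212121212121212121212041212121212121204121212121204120404121612120404041204161612040404121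51515111112111111121111121115111115111215111111111111111112111211121112121211111111111111111511111111121511111211111511121111121111111112111111121112111111111211111111111206121111111111120411121211110612040411151111040406110415151104040411141413131010101510161515160f0f150f100f0f10100f0f10100f131014101310131014131410130f130f100f0f10170f0f0f0f0f100f0f0f150f0f100f15160f151011161510151611121510151116101211101510111210110f101110120f100f1310110f100f0513130f100f0606101413040f0505051010100f0f0f0f110f12111212110f11120f0f120f0f0f110f0f0f100f0f0f0f0f0f0f0f0f0f0f100f100f0f0f110f100f110f120f110f1212110f11121211121112121112111112121112110f1112120f12110f110f11120f120f0f110f120f11040f0f110f120505100f0f120505051110100f040404040d0d0c0c0c0c0c0d0c0808080808080d080c08080c0c08080c0c080c0c0d0c0c0c0c0c0d0c0d0c0c080c080c08080c0e08080808080c0808080d08080c080d0808080c0c08080c08080c09080c0d09080c09090c0d0c09090c09080c0c0c09080c080c0c0c080c08080c0c080c0808080c0d0c03080308030c0c0c0b0b0808080808080707070807070808070808080c08080b0c080b0b0b0b0b0b0b0b0b080c0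b0c0b08080c080c080c0807080c080707070807070707070707070707080707080807080808070808080808080808080807080b0808070807070b0b07080707070c0b0b070707030c0c0c0b020703030808080807070709070a09090a07070907070707070707070707070807080708070807080808070807080707070707080707070707070707070907070707090a070907090a0907090a090a090709090a070a09070907090a0709070709070a07070708070907070702080807070703030708080807020202060606060505050605040404040505060505050505050505050505060506050605060506060605060506050505050506050505050505050505060505050506040504050604040504040604040506040405040405060504040504050506050405050506050605050504060605050504040506060605010401050505050504040404040404040404040404040404040405040405050405050505050505050504050505050404050405040504040405040404040404040404040404040404040404040404040404040404040404040404040404040504040404040405050404040404050505040404010505050505040101030303030303020302020202020202030202020302020303020303030303030303030303030303030303030203030203030302030203020302030202030203020202020302020202020302020203020202020202030302020202020303030202020203030303020202030303030302020303030303030200010101010101010101010101010101010101010101010101010101010101010101010101010101010101010101010101010101010101010101010101010101010101010101010101010101010101010101010101010101010101010101010101010101010101010101010101010101010101010101010101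

/-- the kills -/
noncomputable def kE8 : List (List (ℕ × ℕ × ℕ)) :=
  [[(52, 0x1000000, 92), (53, 0x1000000, 87), (54, 0x1000000, 95), (55, 0x1000000, 89), (59, 0x1000000, 97), (65, 0x1000000, 101), (66, 0x1000000, 102), (67, 0x1000000, 103), (68, 0x1000000, 99), (76, 0x1000000, 108), (79, 0x1000000, 109), (81, 0x1000000, 111), (56, 0x1, 88), (58, 0x1, 90), (70, 0x10000, 105), (75, 0x0, 107)],
  [(1, 0x10, 0), (5, 0x10100, 2), (16, 0x1010000, 7), (22, 0x1010000, 10), (24, 0x100000, 11), (59, 0x10100, 33), (60, 0x10, 27), (61, 0x100000, 29), (62, 0x100000, 30), (63, 0x100000, 31), (72, 0x100, 36), (80, 0x100000, 48), (56, 0x1, 88), (69, 0x10000, 90), (19, 0x10001000, 42), (75, 0x0, 107)],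
  [(51, 0x10000000, 91), (61, 0x100000, 98), (63, 0x100000, 100), (64, 0x100000, 103), (80, 0x100000, 110)],
  [(15, 0x10112121, 31), (51, 0x11212121, 85), (54, 0x12212000, 94), (67, 0x1100021, 100), (68, 0x1100021, 104)],
  [(71, 0x1000, 106)],
  [(51, 0x11243124, 84)],
  [(51, 0x12134213, 84)],
  [(55, 0x1303141, 96)],
  [],
  [],
  [],
  [],
  [],
  []]

/-! ### the fast check of the rows (helper4) : row vectors modulo `2 ^ 40` in fields of 96 bits; the lowest field is junk -/

/-- the coordinate `k` -/
def dq (X k : ℕ) : ℕ := Nat.mod (Nat.shiftRight X (Nat.mul 96 (Nat.succ k))) 1099511627776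

/-- the inverse of the word `w` -/
noncomputable def qw (M w X : ℕ) : ℕ :=
  fc (Nat.shiftRight w 7) fun W => Nat.rec X (fun s ih => fc ih fun U => fc (fd 3 W s) fun i =>
    Nat.add U (Nat.mul (dq U i) (fd 864 M i))) (Nat.mod w 128)

/-- the test vector -/
def qX : ℕ := 0x8000000000000000000000000400000000000000000000000020000000000000000000000001000000000000000000000000080000000000000000000000004000000000000000000000000200000000000000000000000010000000000000009e3779b97

/-- the mask -/
def qK : ℕ := 0xffffffffff00000000000000ffffffffff00000000000000ffffffffff00000000000000ffffffffff00000000000000ffffffffff00000000000000ffffffffff00000000000000ffffffffff00000000000000ffffffffff000000000000000000000000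

/-- the field `t` of `M` is minus the root `t` -/
noncomputable def Tb.qm (T : Tb) (M t : ℕ) : Bool :=
  fc (fd 864 M t) fun X => and (aL (fun k => Nat.blt (fd 96 X k) 1099511627776) 9)
    (aL (fun k => Nat.beq (Nat.mod (Nat.add (fd 96 X (Nat.succ k)) (T.ro t k)) 1099511627776) 3) 8)

/-- one entry -/
noncomputable def Tb.qe (T : Tb) (M Q i U t h : ℕ) : Bool :=
  fc (T.jj i t) fun j => and (Nat.blt j T.K) (Nat.beq (Nat.land (Nat.xor
    (qw M h (Nat.add U (Nat.mul (Nat.mod (sL (fun k => Nat.mul (dq U k) (T.co t k)) T.n) 1099511627776) (fd 864 Q t))))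
    (qw M (fd 400 T.cw j) (qw M h qX))) qK) 0)

/-- one row -/
noncomputable def Tb.qr (T : Tb) (M Q i : ℕ) (L : List ℕ) : Bool :=
  fc (qw M (fd 400 T.cw i) qX) fun U => List.rec (motive := fun _ => ℕ → Bool) (fun m => Nat.beq m 0)
    (fun h _ ih m => Nat.rec false (fun t _ => and (T.qe M Q i U t h) (ih t)) m) L T.R

/-- minus the simple roots -/
def qM : ℕ := 0xfffffffffe000000000000000000000000000000000000000000000000000000000000000000000000000000000000000000000000000000000000000000000001000000000000000000000000000000000000000000000000000000000000008e298cb3a500000000000000000000000000000000000000fffffffffe00000000000000000000000100000000000000000000000000000000000000000000000000000000000000000000000000000000000000000000000000000000000000000000000000000000000000b83571810b00000000000000000000000000000000000000000000000100000000000000fffffffffe00000000000000000000000100000000000000000000000000000000000000000000000000000000000000000000000000000000000000000000000000000000000000fe113db17d00000000000000000000000000000000000000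000000000000000000000000000000000100000000000000fffffffffe00000000000000000000000100000000000000000000000000000000000000000000000000000000000000000000000000000000000000980fef792900000000000000000000000000000000000000000000000000000000000000000000000000000000000000000000000100000000000000fffffffffe00000000000000000000000100000000000000000000000000000000000000000000000000000000000000b3a260cd0b00000000000000000000000100000000000000000000000000000000000000000000000000000000000000000000000000000000000000000000000100000000000000fffffffffe00000000000000000000000100000000000000000000000000000000000000bd1a81682d00000000000000000000000000000000000000000000000000000000000000000000000000000000000000000000000000000000000000000000000000000000000000000000000100000000000000fffffffffe00000000000000000000000100000000000000b266237a0500000000000000000000000000000000000000000000000000000000000000000000000000000000000000000000000000000000000000000000000000000000000000000000000000000000000000000000000100000000000000fffffffffe00000000000000b26472f1a3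

/-- minus the roots -/
def qQ : ℕ := 0xffffffffff00000000000000000000000000000000000000000000000000000000000000000000000000000000000000000000000000000000000000000000000000000000000000000000000000000000000000c7cc4169a300000000000000000000000000000000000000000000000100000000000000ffffffffff00000000000000000000000000000000000000000000000000000000000000000000000000000000000000000000000000000000000000000000000000000000000000d7dfe0189300000000000000000000000000000000000000000000000000000000000000000000000100000000000000ffffffffff00000000000000000000000000000000000000000000000000000000000000000000000000000000000000000000000000000000000000f9c7ac149100000000000000000000000000000000000000000000000000000000000000000000000000000000000000000000000100000000000000ffffffffff00000000000000000000000000000000000000000000000000000000000000000000000000000000000000efe647cb8f00000000000000000000000000000000000000000000000000000000000000000000000000000000000000000000000000000000000000000000000100000000000000ffffffffff00000000000000000000000000000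000000000000000000000000000000000ba0dd27a6500000000000000ffffffffff00000000000000000000000000000000000000000000000000000000000000000000000000000000000000000000000000000000000000000000000100000000000000ffffffffff00000000000000000000000000000000000000dead1b72db00000000000000ffffffffff00000000000000000000000000000000000000000000000000000000000000000000000000000000000000000000000000000000000000000000000000000000000000000000000100000000000000ffffffffff00000000000000d39e1a8ef500000000000000000000000100000000000000000000000000000000000000000000000000000000000000000000000000000000000000000000000000000000000000000000000000000000000000ffffffffff00000000000000000000000000000000000000f983f73f1700000000000000ffffffffff00000000000000000000000000000000000000000000000000000000000000000000000000000000000000000000000000000000000000000000000000000000000000000000000000000000000000000000000100000000000000edb0c4312d0000000000000000000000010000000000000000000000000000000000000000000000000000000000000000000000000000000000000000000000000000000000000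0ffffffffff00000000000000000000000100000000000000ffffffffff0000000000000090f3fe39c100000000000000000000000100000000000000000000000000000000000000000000000000000000000000000000000000000000000000000000000000000000000000ffffffffff00000000000000000000000000000000000000000000000100000000000000a890fbbd1100000000000000000000000000000000000000000000000000000000000000000000000000000000000000000000000000000000000000ffffffffff00000000000000000000000100000000000000000000000000000000000000ffffffffff00000000000000ce5e8766ed00000000000000000000000000000000000000000000000000000000000000000000000000000000000000000000000000000000000000ffffffffff00000000000000000000000100000000000000ffffffffff00000000000000000000000100000000000000c46b4013ef00000000000000000000000000000000000000000000000000000000000000000000000000000000000000ffffffffff00000000000000000000000100000000000000000000000000000000000000000000000000000000000000ffffffffff0000000000000092010c475900000000000000000000000000000000000000000000000000000000000000ffffffffff000000000000000000000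00100000000000000000000000000000000000000000000000000000000000000000000000000000000000000ffffffffff00000000000000a443435cc500000000000000000000000000000000000000000000000000000000000000000000000000000000000000000000000000000000000000ffffffffff000000000000000000000000000000000000000000000001000000000000000000000000000000000000009796d0cc5f00000000000000000000000000000000000000000000000000000000000000000000000000000000000000ffffffffff00000000000000000000000100000000000000000000000000000000000000ffffffffff00000000000000000000000100000000000000ea7c26847f00000000000000000000000000000000000000ffffffffff00000000000000000000000100000000000000000000000000000000000000000000000000000000000000000000000000000000000000000000000000000000000000ffffffffff00000000000000813bbbe9eb00000000000000000000000000000000000000000000000000000000000000ffffffffff00000000000000000000000100000000000000000000000000000000000000000000000000000000000000ffffffffff00000000000000000000000100000000000000d43b61867700000000000000000000000000000000000000000000000000000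000000000000000000000000000000000ffffffffff00000000000000000000000100000000000000ffffffffff00000000000000000000000100000000000000000000000000000000000000932d1c9af100000000000000000000000000000000000000000000000100000000000000000000000000000000000000000000000000000000000000000000000000000000000000000000000000000000000000000000000000000000000000ffffffffff000000000000008a26a2c0bd00000000000000000000000000000000000000ffffffffff00000000000000000000000100000000000000000000000000000000000000000000000000000000000000000000000000000000000000ffffffffff000000000000000000000001000000000000009df52ddf5d00000000000000000000000000000000000000000000000000000000000000ffffffffff00000000000000000000000100000000000000000000000000000000000000ffffffffff00000000000000000000000100000000000000000000000000000000000000b0e25a760500000000000000ffffffffff00000000000000000000000000000000000000000000000000000000000000ffffffffff00000000000000000000000000000000000000000000000100000000000000000000000000000000000000000000000000000000000000d75bd86d410000000000000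0000000000000000000000000000000000100000000000000000000000000000000000000000000000000000000000000000000000000000000000000000000000000000000000000ffffffffff00000000000000000000000100000000000000fe6a50df4d00000000000000000000000000000000000000ffffffffff00000000000000000000000100000000000000000000000000000000000000000000000000000000000000ffffffffff00000000000000000000000100000000000000000000000000000000000000da47469a4d00000000000000ffffffffff00000000000000000000000000000000000000ffffffffff00000000000000000000000100000000000000ffffffffff00000000000000000000000100000000000000000000000000000000000000000000000000000000000000c6dd2e160900000000000000000000000100000000000000000000000000000000000000000000000000000000000000ffffffffff00000000000000000000000000000000000000000000000000000000000000000000000000000000000000000000000000000000000000b7d1bc52d900000000000000000000000000000000000000000000000100000000000000000000000000000000000000000000000000000000000000000000000000000000000000ffffffffff000000000000000000000001000000000000000000000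0000000000000000091e225715900000000000000ffffffffff00000000000000000000000000000000000000ffffffffff00000000000000000000000000000000000000000000000100000000000000000000000000000000000000000000000000000000000000000000000000000000000000a38ca8181100000000000000ffffffffff00000000000000ffffffffff00000000000000000000000100000000000000000000000000000000000000ffffffffff00000000000000000000000100000000000000000000000000000000000000000000000000000000000000b372fdf20300000000000000000000000100000000000000000000000000000000000000ffffffffff00000000000000000000000100000000000000ffffffffff000000000000000000000000000000000000000000000000000000000000000000000000000000000000009514a0f9e700000000000000ffffffffff00000000000000000000000100000000000000000000000000000000000000000000000000000000000000ffffffffff00000000000000000000000100000000000000000000000000000000000000000000000000000000000000bfdf1582b100000000000000ffffffffff00000000000000ffffffffff00000000000000000000000100000000000000ffffffffff00000000000000000000000100000000000000000000000000000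000000000000000000000000000000000000000000000000000000000f56415479d00000000000000000000000100000000000000000000000000000000000000ffffffffff00000000000000000000000000000000000000000000000100000000000000ffffffffff00000000000000000000000000000000000000000000000000000000000000b23f63af8300000000000000000000000100000000000000ffffffffff00000000000000000000000100000000000000000000000000000000000000ffffffffff00000000000000000000000000000000000000000000000000000000000000000000000000000000000000de211c70cf00000000000000ffffffffff00000000000000000000000100000000000000000000000000000000000000ffffffffff00000000000000000000000100000000000000000000000000000000000000000000000000000000000000000000000000000000000000a4c4aaeac100000000000000000000000100000000000000000000000100000000000000000000000000000000000000000000000000000000000000ffffffffff000000000000000000000000000000000000000000000000000000000000000000000000000000000000009b0f17a30100000000000000000000000000000000000000000000000000000000000000ffffffffff0000000000000000000000000000000000000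0000000000000000000000000000000000100000000000000ffffffffff00000000000000000000000000000000000000bf1df9fd7900000000000000ffffffffff00000000000000ffffffffff00000000000000000000000000000000000000000000000100000000000000000000000000000000000000000000000000000000000000000000000000000000000000000000000000000000000000ce2b0537e700000000000000000000000100000000000000ffffffffff00000000000000000000000100000000000000ffffffffff00000000000000000000000100000000000000ffffffffff00000000000000000000000000000000000000000000000000000000000000ad7631a99300000000000000ffffffffff00000000000000000000000100000000000000ffffffffff00000000000000000000000100000000000000000000000000000000000000000000000000000000000000000000000000000000000000000000000000000000000000f805c6af0700000000000000000000000100000000000000000000000100000000000000000000000000000000000000ffffffffff00000000000000000000000100000000000000ffffffffff00000000000000000000000000000000000000000000000000000000000000acab2cd31f00000000000000000000000000000000000000000000000000000000000000fffffff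fff00000000000000000000000000000000000000000000000000000000000000000000000000000000000000000000000100000000000000ffffffffff00000000000000f162c33a4f00000000000000000000000000000000000000ffffffffff00000000000000000000000100000000000000ffffffffff00000000000000000000000000000000000000000000000100000000000000ffffffffff00000000000000000000000000000000000000db48db40af00000000000000000000000100000000000000ffffffffff00000000000000000000000000000000000000000000000100000000000000000000000000000000000000ffffffffff00000000000000000000000000000000000000000000000000000000000000b9d269a9a500000000000000000000000000000000000000000000000000000000000000ffffffffff00000000000000000000000000000000000000000000000000000000000000000000000000000000000000000000000000000000000000000000000100000000000000d7fe3b890b00000000000000ffffffffff00000000000000000000000000000000000000000000000100000000000000000000000000000000000000000000000000000000000000000000000000000000000000000000000000000000000000000000000000000000000000c9a5aa3c8100000000000000000000000000000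000000000000000000100000000000000000000000000000000000000ffffffffff00000000000000000000000000000000000000000000000100000000000000ffffffffff00000000000000000000000000000000000000a7b394fb3700000000000000000000000100000000000000000000000100000000000000ffffffffff00000000000000000000000100000000000000000000000000000000000000ffffffffff00000000000000000000000000000000000000000000000000000000000000dd0f88080b00000000000000000000000000000000000000ffffffffff00000000000000000000000100000000000000ffffffffff00000000000000000000000000000000000000000000000000000000000000000000000100000000000000ffffffffff0000000000000088aa05e11b00000000000000000000000000000000000000ffffffffff00000000000000000000000000000000000000000000000100000000000000ffffffffff00000000000000000000000100000000000000ffffffffff00000000000000000000000000000000000000d9795e822900000000000000000000000000000000000000ffffffffff00000000000000000000000100000000000000ffffffffff0000000000000000000000000000000000000000000000000000000000000000000000000000000000000000000000010000000000000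0a2f1d69ed700000000000000000000000100000000000000000000000000000000000000000000000100000000000000000000000000000000000000000000000000000000000000ffffffffff000000000000000000000000000000000000000000000000000000000000008bd70820ff00000000000000000000000000000000000000000000000100000000000000000000000000000000000000ffffffffff00000000000000000000000000000000000000000000000000000000000000000000000100000000000000ffffffffff000000000000008874c9df6b00000000000000000000000000000000000000000000000100000000000000ffffffffff00000000000000000000000100000000000000ffffffffff00000000000000000000000100000000000000ffffffffff00000000000000000000000000000000000000e69474031b00000000000000000000000000000000000000ffffffffff00000000000000000000000000000000000000000000000100000000000000ffffffffff00000000000000000000000000000000000000000000000100000000000000ffffffffff00000000000000bf98289fcd00000000000000000000000000000000000000ffffffffff00000000000000000000000000000000000000000000000000000000000000000000000100000000000000000000000000000000000000fffffff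fff00000000000000000000000000000000000000acb1fee08f00000000000000000000000000000000000000000000000100000000000000000000000000000000000000ffffffffff00000000000000000000000000000000000000000000000000000000000000000000000000000000000000000000000100000000000000ab5051c1cd00000000000000000000000000000000000000ffffffffff00000000000000000000000000000000000000000000000100000000000000ffffffffff00000000000000000000000000000000000000000000000000000000000000000000000100000000000000e8e01f505700000000000000000000000000000000000000000000000000000000000000000000000100000000000000000000000000000000000000ffffffffff00000000000000000000000100000000000000ffffffffff00000000000000000000000000000000000000e592b1d3f300000000000000000000000000000000000000000000000100000000000000ffffffffff00000000000000000000000100000000000000ffffffffff00000000000000000000000000000000000000000000000100000000000000ffffffffff00000000000000c7c3baea9f00000000000000000000000000000000000000000000000100000000000000ffffffffff00000000000000000000000000000000000000000000000100000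000000000000000000000000000000000ffffffffff0000000000000000000000000000000000000089ab1031d100000000000000000000000000000000000000ffffffffff00000000000000000000000000000000000000000000000000000000000000000000000100000000000000ffffffffff00000000000000000000000100000000000000ffffffffff00000000000000fb0a097c9700000000000000000000000000000000000000000000000100000000000000ffffffffff00000000000000000000000100000000000000ffffffffff00000000000000000000000000000000000000000000000000000000000000000000000100000000000000b57d2caf8300000000000000000000000000000000000000ffffffffff00000000000000000000000000000000000000000000000000000000000000000000000100000000000000ffffffffff00000000000000000000000000000000000000000000000100000000000000f726e8755500000000000000000000000000000000000000000000000000000000000000000000000100000000000000000000000000000000000000ffffffffff00000000000000000000000000000000000000000000000100000000000000ffffffffff00000000000000abc1d3fcff0000000000000000000000000000000000000000000000000000000000000000000000010000000000000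0ffffffffff00000000000000000000000100000000000000000000000000000000000000ffffffffff00000000000000000000000000000000000000956b0a18e900000000000000000000000000000000000000000000000100000000000000ffffffffff00000000000000000000000000000000000000000000000100000000000000ffffffffff00000000000000000000000100000000000000ffffffffff00000000000000c11e398f1100000000000000ffffffffff00000000000000ffffffffff00000000000000000000000000000000000000000000000000000000000000000000000000000000000000000000000100000000000000000000000000000000000000ffffffffff0000000000000089faecbd3900000000000000000000000000000000000000000000000000000000000000000000000100000000000000000000000000000000000000ffffffffff00000000000000000000000000000000000000000000000000000000000000000000000100000000000000cd49b64a0900000000000000000000000000000000000000000000000100000000000000ffffffffff00000000000000000000000000000000000000000000000100000000000000ffffffffff00000000000000000000000000000000000000000000000100000000000000b9babced2100000000000000ffffffffff00000000000000fffffff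fff00000000000000000000000000000000000000000000000000000000000000000000000000000000000000000000000100000000000000ffffffffff00000000000000000000000100000000000000abe00902c700000000000000000000000000000000000000000000000000000000000000000000000000000000000000000000000100000000000000000000000000000000000000000000000000000000000000ffffffffff00000000000000000000000000000000000000bf8673472100000000000000000000000000000000000000000000000000000000000000000000000100000000000000ffffffffff00000000000000000000000100000000000000ffffffffff00000000000000000000000100000000000000ffffffffff00000000000000a6930d6eaf00000000000000ffffffffff00000000000000000000000100000000000000ffffffffff00000000000000000000000000000000000000000000000000000000000000000000000100000000000000000000000000000000000000ffffffffff000000000000008a3e7d1bfb00000000000000000000000100000000000000ffffffffff00000000000000000000000000000000000000000000000000000000000000000000000000000000000000000000000000000000000000000000000000000000000000ffffffffff00000000000000e3b2f14c9500000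000000000ffffffffff00000000000000ffffffffff0000000000000000000000000000000000000000000000000000000000000000000000000000000000000000000000000000000000000000000000010000000000000000000000000000000000000097cb5c742700000000000000000000000000000000000000000000000000000000000000000000000100000000000000ffffffffff00000000000000000000000100000000000000ffffffffff000000000000000000000000000000000000000000000001000000000000009f4cbd87ad00000000000000ffffffffff00000000000000000000000100000000000000ffffffffff00000000000000000000000000000000000000000000000000000000000000000000000100000000000000ffffffffff00000000000000000000000100000000000000ae7403e43100000000000000000000000100000000000000ffffffffff00000000000000000000000000000000000000000000000000000000000000000000000000000000000000000000000000000000000000ffffffffff00000000000000000000000100000000000000f695e761d100000000000000000000000000000000000000000000000000000000000000000000000000000000000000000000000100000000000000000000000000000000000000ffffffffff0000000000000000000000010000000000000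0ffffffffff00000000000000bb506bf2ef00000000000000ffffffffff00000000000000000000000000000000000000000000000100000000000000ffffffffff00000000000000000000000000000000000000000000000100000000000000000000000000000000000000ffffffffff00000000000000e36d76b07f00000000000000000000000100000000000000000000000100000000000000ffffffffff00000000000000000000000000000000000000000000000000000000000000000000000000000000000000000000000000000000000000ffffffffff00000000000000c4ae2eb15500000000000000ffffffffff00000000000000000000000100000000000000ffffffffff00000000000000000000000000000000000000000000000000000000000000000000000000000000000000000000000100000000000000000000000000000000000000bf34b9b5df00000000000000000000000100000000000000ffffffffff00000000000000000000000000000000000000000000000000000000000000000000000000000000000000ffffffffff00000000000000000000000100000000000000000000000000000000000000cf0f4205b500000000000000000000000000000000000000000000000000000000000000000000000000000000000000000000000100000000000000000000000000000000000000fffffff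fff00000000000000000000000000000000000000000000000100000000000000c81012f03700000000000000ffffffffff00000000000000000000000000000000000000000000000100000000000000ffffffffff00000000000000000000000000000000000000000000000100000000000000ffffffffff00000000000000000000000100000000000000db8c38fb2900000000000000000000000100000000000000000000000100000000000000ffffffffff00000000000000000000000000000000000000000000000000000000000000000000000000000000000000ffffffffff000000000000000000000001000000000000008c5f55720300000000000000ffffffffff00000000000000000000000000000000000000000000000000000000000000000000000100000000000000ffffffffff00000000000000000000000100000000000000000000000000000000000000ffffffffff0000000000000098a38fd54700000000000000000000000100000000000000000000000000000000000000000000000100000000000000ffffffffff00000000000000000000000000000000000000000000000000000000000000000000000000000000000000ffffffffff00000000000000c994e3bf9100000000000000000000000000000000000000ffffffffff00000000000000000000000000000000000000000000000000000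000000000ffffffffff000000000000000000000001000000000000000000000000000000000000000000000000000000000000008d2e44158b00000000000000ffffffffff00000000000000000000000000000000000000000000000100000000000000ffffffffff00000000000000000000000000000000000000000000000000000000000000000000000100000000000000000000000000000000000000d7d0eda82f00000000000000000000000100000000000000000000000100000000000000ffffffffff00000000000000000000000000000000000000000000000000000000000000ffffffffff00000000000000000000000100000000000000000000000000000000000000c74ef8aa3900000000000000ffffffffff00000000000000000000000000000000000000000000000000000000000000000000000100000000000000ffffffffff00000000000000000000000100000000000000ffffffffff00000000000000000000000100000000000000c91e27a1c100000000000000000000000100000000000000000000000000000000000000000000000100000000000000ffffffffff00000000000000000000000000000000000000000000000000000000000000ffffffffff00000000000000000000000100000000000000c524ede6a500000000000000ffffffffff0000000000000000000000000000000000000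0000000000000000000000000000000000000000000000000000000000100000000000000000000000000000000000000000000000000000000000000ffffffffff00000000000000b54a23d59700000000000000000000000100000000000000000000000000000000000000000000000000000000000000000000000100000000000000ffffffffff00000000000000000000000000000000000000000000000000000000000000ffffffffff0000000000000091dbc496cb00000000000000000000000000000000000000ffffffffff00000000000000000000000000000000000000ffffffffff00000000000000000000000100000000000000000000000000000000000000000000000000000000000000000000000000000000000000c70becd7b100000000000000000000000000000000000000000000000100000000000000ffffffffff00000000000000000000000000000000000000ffffffffff000000000000000000000001000000000000000000000000000000000000000000000000000000000000009cf9ebdacd00000000000000ffffffffff00000000000000000000000000000000000000000000000000000000000000000000000100000000000000ffffffffff0000000000000000000000000000000000000000000000010000000000000000000000000000000000000086658cda15000000000000000000000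00100000000000000000000000000000000000000000000000100000000000000ffffffffff00000000000000000000000000000000000000ffffffffff00000000000000000000000100000000000000000000000000000000000000ca93bd04cf00000000000000ffffffffff00000000000000000000000000000000000000000000000000000000000000000000000000000000000000000000000100000000000000000000000000000000000000ffffffffff0000000000000000000000010000000000000087f29d0da900000000000000000000000100000000000000000000000000000000000000000000000000000000000000000000000100000000000000ffffffffff00000000000000000000000000000000000000ffffffffff00000000000000000000000100000000000000caa09f76b500000000000000000000000100000000000000000000000000000000000000000000000000000000000000000000000000000000000000000000000100000000000000ffffffffff00000000000000000000000000000000000000ffffffffff00000000000000d03926305900000000000000000000000000000000000000ffffffffff00000000000000ffffffffff00000000000000000000000100000000000000000000000000000000000000000000000000000000000000000000000000000000000000000000000000000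000000000f91fb17c2300000000000000000000000000000000000000000000000100000000000000ffffffffff00000000000000ffffffffff00000000000000000000000100000000000000000000000000000000000000000000000000000000000000000000000000000000000000c8d3ac94af00000000000000000000000000000000000000000000000000000000000000000000000100000000000000ffffffffff00000000000000ffffffffff00000000000000000000000100000000000000000000000000000000000000000000000000000000000000876cad4a2700000000000000ffffffffff00000000000000000000000000000000000000000000000000000000000000000000000000000000000000000000000100000000000000ffffffffff00000000000000000000000100000000000000000000000000000000000000c61738f7d900000000000000000000000100000000000000000000000000000000000000000000000000000000000000000000000100000000000000ffffffffff00000000000000ffffffffff000000000000000000000001000000000000000000000000000000000000009e11e20b8f00000000000000000000000100000000000000000000000000000000000000000000000000000000000000000000000000000000000000000000000100000000000000ffffffffff0000000000000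0ffffffffff00000000000000000000000100000000000000b56f03675b00000000000000000000000000000000000000000000000000000000000000000000000000000000000000000000000000000000000000000000000000000000000000000000000100000000000000ffffffffff00000000000000ffffffffff000000000000008b099950d900000000000000fffffffffe000000000000000000000000000000000000000000000000000000000000000000000000000000000000000000000000000000000000000000000001000000000000000000000000000000000000000000000000000000000000009b81e74ef500000000000000000000000000000000000000fffffffffe00000000000000000000000100000000000000000000000000000000000000000000000000000000000000000000000000000000000000000000000000000000000000000000000000000000000000f40ed9047500000000000000000000000000000000000000000000000100000000000000fffffffffe00000000000000000000000100000000000000000000000000000000000000000000000000000000000000000000000000000000000000000000000000000000000000ca5d9dc9f900000000000000000000000000000000000000000000000000000000000000000000000100000000000000fffffffffe000000000000000000000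001000000000000000000000000000000000000000000000000000000000000000000000000000000000000008c892f902b00000000000000000000000000000000000000000000000000000000000000000000000000000000000000000000000100000000000000fffffffffe00000000000000000000000100000000000000000000000000000000000000000000000000000000000000e9128b2f3300000000000000000000000100000000000000000000000000000000000000000000000000000000000000000000000000000000000000000000000100000000000000fffffffffe0000000000000000000000010000000000000000000000000000000000000086a6a3a45100000000000000000000000000000000000000000000000000000000000000000000000000000000000000000000000000000000000000000000000000000000000000000000000100000000000000fffffffffe00000000000000000000000100000000000000b2269e0d3700000000000000000000000000000000000000000000000000000000000000000000000000000000000000000000000000000000000000000000000000000000000000000000000000000000000000000000000100000000000000fffffffffe00000000000000f952e6b439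

theorem qmE8 : (aL (tE8.qm qM) 8 && aL (tE8.qm qQ) 120) = true := by decide +kernel

/-- `aw` with junk in the lowest 64 bits of the state (the caches of the kernel hash these bits only) -/
noncomputable def Tb.aw2 (T : Tb) (w V : ℕ) : ℕ :=
  fc (Nat.shiftRight w 7) fun W => Nat.shiftRight
    (Nat.rec (Nat.add (Nat.shiftLeft V 64) (Nat.mod V 18446744073709551557)) (fun s ih => fc ih fun P => fc (fd 3 W s) fun i =>
      cond (Nat.blt i T.n) (Nat.add (Nat.shiftLeft (T.rf i (Nat.shiftRight P 64)) 64) (Nat.mod P 18446744073709551557)) P)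
      (Nat.mod w 128)) 64

theorem Tb.aw_eq (T : Tb) : T.aw = T.aw2 := by
  have e : ∀ {α : Type} (x : ℕ) (f : ℕ → α), fc x f = f x := fun x f => by cases x <;> rfl
  have k : ∀ x y : ℕ, Nat.shiftRight (Nat.add (Nat.shiftLeft x 64) (Nat.mod y 18446744073709551557)) 64 = x := fun x y => by
    change (x <<< 64 + y % 18446744073709551557) >>> 64 = x
    rw [Nat.shiftLeft_eq, Nat.shiftRight_eq_div_pow]
    omega
  funext w V
  delta Tb.aw Tb.aw2
  rw [e, e]
  induction Nat.mod w 128 with
  | zero => exact (k _ _).symm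
  | succ s ih =>
    dsimp only
    rw [e, e, e, e, ih]
    cases Nat.blt _ T.n
    · rfl
    · exact (k _ _).symm

theorem basE8 : tE8.bas (cT 2 8) = true := by decide +kernel

theorem clsE8 : aL tE8.cls tE8.K = true := by
  delta Tb.cls Tb.zr Tb.aS Tb.aD Tb.aP Tb.aA
  rw [Tb.aw_eq]
  decide +kernel

theorem allE8 : tE8.all kE8 = true := by
  delta Tb.all Tb.res Tb.kil Tb.an Tb.zr Tb.aS Tb.aD Tb.aP Tb.aA
  rw [Tb.aw_eq]
  decide +kernel

end Cfsg.Agent.OM.Cu.Eng
end

-- part: OM/Cu/SB
section
prune_inst 0x20002004048000000000800440001100a0000000104000000080080400c588622804a00140a02402101218482030004811000000026000000400000000020120902084008149000cc40081002003500000000000000000000000000000000000000000000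
set_option linter.all false
open scoped Cfsg.Agent.FastGrp

/-!
# OM / Cu : signed permutation matrices (helper97)
-/

set_option autoImplicit false
set_option linter.unusedSectionVars false
set_option linter.dupNamespace false

namespace Cfsg.Agent.OM.Cu

open Cfsg Matrix Cfsg.Agent.HZ.L Cfsg.Agent.KZ.Dat
open Cfsg.Agent.LV.Cl (SG sm sm_apply)

namespace SB

variable {n : ℕ} {κ : Kd} {i j x z : Fin n} {s t η : ℤˣ} {a b : Vec (Fin n) × Vec (Fin n)} {g h : SG n}
  {A : Mat (Fin n)} {q : ℤ} {d : ℕ} {f : Mat (Fin n) → ℂ}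

/-- `s e_i + t e_j` -/
def rv (i : Fin n) (s : ℤˣ) (j : Fin n) (t : ℤˣ) : Vec (Fin n) := Pi.single i (s : ℤ) + Pi.single j (t : ℤ)

/-- the pair -/
def rp (i : Fin n) (s : ℤˣ) (j : Fin n) (t : ℤˣ) : Vec (Fin n) × Vec (Fin n) := (rv i s j t, rv i s j t)

theorem rp_comm (i : Fin n) (s : ℤˣ) (j : Fin n) (t : ℤˣ) : rp i s j t = rp j t i s := by rw [rp, rp, rv, rv, add_comm]

theorem dot_rv (v : Vec (Fin n)) : v ⬝ᵥ rv i s j t = v i * s + v j * t := by
  rw [rv, dotProduct_add, dotProduct_single, dotProduct_single]

theorem rv_dot (v : Vec (Fin n)) : rv i s j t ⬝ᵥ v = v i * s + v j * t := by rw [dotProduct_comm, dot_rv]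

theorem rv_l (e : i ≠ j) : rv i s j t i = s := by simp [rv, e]

theorem rv_r (e : i ≠ j) : rv i s j t j = t := by simp [rv, e.symm]

theorem rv_o (e : x ≠ i) (e' : x ≠ j) : rv i s j t x = 0 := by simp [rv, e, e']

theorem uu (s : ℤˣ) : (s : ℤ) * s = 1 := by rw [← Units.val_mul, Int.units_mul_self, Units.val_one]

theorem uo (s : ℤˣ) : (s : ℤ) = 1 ∨ (s : ℤ) = -1 := (Int.units_eq_one_or s).imp (congrArg _) (congrArg _)

theorem rfm_rp (u : ℤˣ) : rfm (rp i (u * s) j (u * t)) = rfm (rp i s j t) := by
  rcases Int.units_eq_one_or u with rfl | rfl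
  · rw [one_mul, one_mul]
  · rw [← rfm_neg (rp i s j t)]
    congr 1
    simp only [rp, rv, Pi.single_neg, add_comm, _root_.Cfsg.Agent.OM.Cu.SB.rp, _root_.Cfsg.Agent.OM.Cu.SB.rv, _root_.neg_mul, _root_.one_mul, _root_.Units.val_neg, _root_.Pi.single_neg, _root_.Prod.neg_mk, _root_.neg_add_rev, _root_.add_comm]

theorem rp_mem (e : i ≠ j) (s t : ℤˣ) : rp i s j t ∈ std κ (X.b0 n) := by
  rcases Int.units_eq_one_or s with rfl | rfl <;> rcases Int.units_eq_one_or t with rfl | rfl
  · exact .inr (.inl ⟨i, j, 1, e, rfl, rfl, rfl⟩)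
  · exact .inl ⟨i, j, e, rfl, by simp [rp, rv, Pi.single_neg, sub_eq_add_neg]⟩
  · exact .inl ⟨j, i, e.symm, rfl, by simp [rp, rv, Pi.single_neg, sub_eq_add_neg, add_comm]⟩
  · exact .inr (.inl ⟨i, j, -1, e, rfl, rfl, rfl⟩)

theorem cas (ha : a ∈ std κ (X.b0 n)) : (∃ i s j t, i ≠ j ∧ a = rp i s j t) ∨
    ∃ (i : Fin n) (s : ℤˣ), κ = .B ∧ a = (Pi.single i (s : ℤ), Pi.single i (2 * s : ℤ)) ∨
      κ = .C ∧ a = (Pi.single i (2 * s : ℤ), Pi.single i (s : ℤ)) := by
  obtain ⟨i, j, e, -, rfl⟩ | ⟨i, j, s, e, -, -, rfl⟩ | ⟨i, s, -, k⟩ := ha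
  · exact .inl ⟨i, 1, j, -1, e, by simp [rp, rv, Pi.single_neg, sub_eq_add_neg]⟩
  · exact .inl ⟨i, s, j, s, e, rfl⟩
  · exact .inr ⟨i, s, k⟩

theorem cas' (ha : a ∈ std κ (X.b0 n)) : (∃ i s j t, i ≠ j ∧ a = rp i s j t) ∨
    ∃ (i : Fin n) (u v : ℤ), u * v = 2 ∧ (κ = .B ∨ ¬ 2 ∣ v) ∧ a = (Pi.single i u, Pi.single i v) := by
  refine (cas ha).imp_right fun ⟨i, s, k⟩ => ?_
  have := uo s
  rcases k with ⟨k, rfl⟩ | ⟨-, rfl⟩
  · exact ⟨i, _, _, by linear_combination 2 * uu s, .inl k, rfl⟩
  · exact ⟨i, _, _, by linear_combination 2 * uu s, .inr (by omega), rfl⟩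

theorem fin : (std κ (X.b0 n)).Finite := by
  refine (((Set.finite_range fun p : (Fin n × ℤˣ) × Fin n × ℤˣ => rp p.1.1 p.1.2 p.2.1 p.2.2).union
    (Set.finite_range fun p : Fin n × ℤˣ => ((Pi.single p.1 (p.2 : ℤ), Pi.single p.1 (2 * p.2 : ℤ)) : Vec (Fin n) × Vec (Fin n)))).union
    (Set.finite_range fun p : Fin n × ℤˣ => ((Pi.single p.1 (2 * p.2 : ℤ), Pi.single p.1 (p.2 : ℤ)) : Vec (Fin n) × Vec (Fin n)))).subset
    fun a ha => ?_
  obtain ⟨i, s, j, t, -, rfl⟩ | ⟨i, s, ⟨-, rfl⟩ | ⟨-, rfl⟩⟩ := cas ha
  exacts [.inl (.inl ⟨((i, s), j, t), rfl⟩), .inl (.inr ⟨(i, s), rfl⟩), .inr ⟨(i, s), rfl⟩]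

theorem two (ha : a ∈ std κ (X.b0 n)) : a.1 ⬝ᵥ a.2 = 2 := by
  obtain ⟨i, s, j, t, e, rfl⟩ | ⟨i, u, v, e, -, rfl⟩ := cas' ha
  · show rv i s j t ⬝ᵥ rv i s j t = 2
    rw [dot_rv, rv_l e, rv_r e, uu, uu]
    rfl
  · simpa only [_root_.dotProduct_single, _root_.Pi.single_eq_same] using e

theorem co_sm (hA : Co (std κ (X.b0 n)) (sm g) A) : ∃ h, A = sm h := by
  obtain ⟨w, hw, rfl⟩ := hA
  obtain ⟨u, rfl⟩ : ∃ u, w = sm u := by
    induction hw using Submonoid.closure_induction with
    | mem x hx =>
      obtain ⟨a, ha, rfl⟩ := hx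
      exact (X.Fwx.exists_ws ha).imp fun _ k => k.2
    | one => exact ⟨1, (map_one _).symm⟩
    | mul x y _ _ hx hy =>
      obtain ⟨u, rfl⟩ := hx
      obtain ⟨v, rfl⟩ := hy
      exact ⟨u * v, (map_mul _ _ _).symm⟩
  exact ⟨u * g, (map_mul _ _ _).symm⟩

theorem eig_of (hn : 2 ≤ n) {μ : ℂ} {y : Fin n → ℂ} (h1 : IsE A μ y) (h2 : y i ≠ 0) : Eig (std κ (X.b0 n)) A μ := by
  have := Fin.nontrivial_iff_two_le.2 hn
  obtain ⟨j, e⟩ := exists_ne i
  have k : ∀ t : ℤˣ, ev (rp i 1 j t).1 y = y i + ((t : ℤ) : ℂ) * y j := fun t => by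
    simp [ev, rp, rv, dotProduct, add_mul, Finset.sum_add_distrib, Pi.single_apply]
  by_cases h3 : ev (rp i 1 j 1).1 y = 0
  · refine ⟨y, h1, _, rp_mem e.symm 1 (-1), fun h4 => h2 ?_⟩
    rw [k] at h3 h4
    simp only [Units.val_neg, Units.val_one, Int.cast_neg, Int.cast_one] at h3 h4
    linear_combination (h3 + h4) / 2
  · exact ⟨y, h1, _, rp_mem e.symm 1 1, h3⟩

theorem isE_sm {μ : ℂ} {y : Fin n → ℂ} : IsE (sm h) μ y ↔ ∀ j, ((h.s j : ℤ) : ℂ) * y j = μ * y (h.π j) := by
  have k : ∀ j, ((sm h).map (Int.cast : ℤ → ℂ) *ᵥ y) (h.π j) = ((h.s j : ℤ) : ℂ) * y j := fun j => by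
    simp only [sm_apply, mulVec, dotProduct, spm_apply, _root_.Matrix.mulVec, _root_.dotProduct, _root_.Cfsg.Agent.LV.Cl.sm_apply, _root_.Matrix.map_apply, _root_.Cfsg.Agent.KZ.Dat.spm_apply, _root_.EmbeddingLike.apply_eq_iff_eq, _root_.Int.cast_ite, _root_.Int.cast_zero, _root_.ite_mul, _root_.MulZeroClass.zero_mul, _root_.Finset.sum_ite_eq, _root_.Finset.mem_univ, ↓ _root_.reduceIte]
  exact ⟨fun e j => (k j).symm.trans (congrFun e _), fun e => funext (h.π.surjective.forall.2 fun j => (k j).trans (e j))⟩

theorem bad_of (hn : 2 ≤ n) (hη : IsPrimitiveRoot ((η : ℤ) : ℂ) d) {v : Vec (Fin n)} (h1 : A *ᵥ v = (η : ℤ) • v)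
    (h2 : v i ≠ 0) : Bad (std κ (X.b0 n)) d A := by
  refine ⟨_, hη, eig_of hn (y := fun i => (v i : ℂ)) (i := i) (funext fun j => ?_) (Int.cast_ne_zero.2 h2)⟩
  have := congrArg (Int.cast : ℤ → ℂ) (congrFun h1 j)
  simpa only [mulVec, dotProduct, _root_.Matrix.map_apply, _root_.Pi.smul_apply, _root_.smul_eq_mul, _root_.Int.cast_sum, _root_.Int.cast_mul, _root_.Int.zsmul_eq_mul] using this

theorem ft_of {τ : Vec (Fin n)} (k : ∀ j, (2 : ℤ) ∣ (q • (τ ᵥ* A) - τ) j) : Ft (std κ (X.b0 n)) q 2 A τ :=
  fun _ _ => Finset.dvd_sum fun j _ => (k j).mul_right _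

theorem ft_sm (hq : ¬ 2 ∣ q) {τ : Vec (Fin n)} (k : ∀ j, τ (h.π j) = τ j) : Ft (std κ (X.b0 n)) q 2 (sm h) τ :=
  ft_of fun j => by
    rw [Pi.sub_apply, Pi.smul_apply, sm_apply, vecMul_spm, k, smul_eq_mul]
    obtain ⟨m, rfl⟩ : ∃ m, q = 2 * m + 1 := ⟨q / 2, by omega⟩
    rcases uo (h.s j) with e | e <;> rw [e]
    · exact ⟨m * τ j, by ring⟩
    · exact ⟨-(m + 1) * τ j, by ring⟩

theorem kill2 {B : Mat (Fin n)} {Ψ : RS (Fin n)} {l : ℕ} (hf : Ψ.Finite) (H : Hy Ψ B q l d f) (hA : Co Ψ B A) (hb : Bad Ψ d A)
    {τ σ : Vec (Fin n)} (hτ : Ft Ψ q l A τ) (hσ : Ft Ψ q l A σ) {c : ℂ}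
    (h1 : ∀ a ∈ Ψ, (l : ℤ) ∣ σ ⬝ᵥ a.2 → ¬ (l : ℤ) ∣ τ ⬝ᵥ a.2 → f (rfm a * A) = 0)
    (h2 : ∀ a ∈ Ψ, (l : ℤ) ∣ τ ⬝ᵥ a.2 → ¬ (l : ℤ) ∣ σ ⬝ᵥ a.2 → f (rfm a * A) = c) (hb1 : b ∈ Ψ)
    (hb2 : (l : ℤ) ∣ τ ⬝ᵥ b.2) (hb3 : ∀ a ∈ Ψ, (l : ℤ) ∣ σ ⬝ᵥ a.2 → rfm a ≠ rfm b) (e : f (rfm b * A) = c) : c = 0 := by
  classical
  obtain ⟨S, hS, h0⟩ := H.sum_eq hf hA hb hτ
  obtain ⟨T, hT, k0⟩ := H.sum_eq hf hA hb hσ
  have e1 := Finset.sum_sdiff_sub_sum_sdiff (s₁ := T) (s₂ := S) (f := fun ρ => f (ρ * A))
  rw [h0, k0, sub_zero, Finset.sum_eq_zero (s := T \ S) fun ρ hρ => by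
    obtain ⟨r1, r2⟩ := Finset.mem_sdiff.1 hρ
    obtain ⟨a, a1, a2, rfl⟩ := (hT ρ).1 r1
    exact h1 a a1 a2 fun k => r2 ((hS _).2 ⟨a, a1, k, rfl⟩), sub_zero] at e1
  refine Hy.zero_of_sum e1 (fun ρ hρ => ?_) (Finset.mem_sdiff.2 ⟨(hS _).2 ⟨b, hb1, hb2, rfl⟩, fun k => ?_⟩) e
  · obtain ⟨r1, r2⟩ := Finset.mem_sdiff.1 hρ
    obtain ⟨a, a1, a2, rfl⟩ := (hS ρ).1 r1
    exact .inr (h2 a a1 a2 fun k => r2 ((hT _).2 ⟨a, a1, k, rfl⟩))
  · obtain ⟨a, a1, a2, a3⟩ := (hT _).1 k
    exact hb3 a a1 a2 a3

variable (hn : 2 ≤ n) (hq : ¬ 2 ∣ q) (hη : IsPrimitiveRoot ((η : ℤ) : ℂ) d) (H : Hy (std κ (X.b0 n)) (sm g) q 2 d f)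
include hn hq hη H

/-- scalar matrices -/
theorem dg0 (hA : Co (std κ (X.b0 n)) (sm g) A) (e : A = -(η : ℤ) • 1) (hb : b ∈ std κ (X.b0 n)) {τ : Vec (Fin n)}
    (h1 : (2 : ℤ) ∣ τ ⬝ᵥ b.2) (h2 : ∀ a ∈ std κ (X.b0 n), (2 : ℤ) ∣ τ ⬝ᵥ a.2 → a.1 ⬝ᵥ b.2 = 0 ∨ rfm a = rfm b) : f A = 0 := by
  obtain ⟨i, hi⟩ : ∃ i, b.2 i ≠ 0 := Function.ne_iff.1 fun k => by simpa only [k, _root_.dotProduct_zero', _root_.OfNat.zero_ne_ofNat] using two hb
  have k1 : (rfm b * A) *ᵥ b.2 = (η : ℤ) • b.2 := by
    rw [← mulVec_mulVec, e, smul_mulVec, one_mulVec, mulVec_smul, rfm_mulVec, two hb]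
    module
  have k2 : f (rfm b * (rfm b * A)) = f A := by rw [← mul_assoc, rfm_sq (two hb), one_mul]
  refine H.kill fin (hA.rf hb) (bad_of hn hη k1 hi) (τ := τ) (ft_of fun j => ?_) (fun a ha k => ?_) hb h1 k2
  · obtain ⟨c, hc⟩ := h1
    obtain ⟨m, rfl⟩ : ∃ m, q = 2 * m + 1 := ⟨q / 2, by omega⟩
    rw [← vecMul_vecMul, vecMul_rfm, e, vecMul_smul, vecMul_one, hc]
    simp only [Pi.sub_apply, Pi.smul_apply, smul_eq_mul]
    rcases uo η with e | e <;> rw [e]
    · exact ⟨-(m + 1) * τ j + (2 * m + 1) * c * b.1 j, by ring⟩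
    · exact ⟨m * τ j - (2 * m + 1) * c * b.1 j, by ring⟩
  · refine (h2 a ha k).imp (fun k => H.bad _ ((hA.rf hb).rf ha) (bad_of hn hη (v := b.2) ?_ hi)) fun k => by rw [k, k2]
    rw [← mulVec_mulVec, k1, mulVec_smul, rfm_mulVec, k, zero_smul, sub_zero]

theorem dg (hA : Co (std κ (X.b0 n)) (sm g) A) (e : A = -(η : ℤ) • 1) : f A = 0 := by
  have := Fin.nontrivial_iff_two_le.2 hn
  obtain ⟨x, z, hxz⟩ := exists_pair_ne (Fin n)
  by_cases hκ : κ = .B
  · refine dg0 hn hq hη H hA e (b := (Pi.single x 1, Pi.single x 2)) (.inr (.inr ⟨x, 1, rfl, .inl ⟨hκ, rfl⟩⟩))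
      (τ := Pi.single x 1) (by simp) fun a ha k => ?_
    rw [single_one_dotProduct] at k
    obtain ⟨i, s, j, t, e, rfl⟩ | ⟨i, u, v, e, -, rfl⟩ := cas' ha
    · have h1 := uo s
      have h2 := uo t
      have h3 : x ≠ i := by rintro rfl; rw [show (rp x s j t).2 x = s from rv_l e] at k; omega
      have h4 : x ≠ j := by rintro rfl; rw [show (rp i s x t).2 x = t from rv_r e] at k; omega
      exact .inl (by rw [dotProduct_single, show (rp i s j t).1 x = 0 from rv_o h3 h4, zero_mul])
    · by_cases h3 : x = i
      · exact .inr (h3 ▸ (X.Fwx.rfm_sgl e).trans (X.Fwx.rfm_sgl (one_mul 2)).symm)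
      · exact .inl (by simp [h3])
  · refine dg0 hn hq hη H hA e (rp_mem hxz 1 1) (τ := rv x 1 z 1) ((two (κ := κ) (rp_mem hxz 1 1)).symm ▸ dvd_rfl)
      fun a ha k => ?_
    have k1 : ∀ y, y = x ∨ y = z → rv x 1 z 1 y = 1 := by
      rintro _ (rfl | rfl)
      exacts [rv_l hxz, rv_r hxz]
    have k2 : ∀ y, ¬ (y = x ∨ y = z) → rv x 1 z 1 y = 0 := fun y k => rv_o (not_or.1 k).1 (not_or.1 k).2
    obtain ⟨i, s, j, t, e, rfl⟩ | ⟨i, u, v, e, e', rfl⟩ := cas' ha
    · have h1 := uo s
      have h2 := uo t
      refine or_iff_not_imp_left.2 fun h3 => ?_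
      replace k : (2 : ℤ) ∣ rv x 1 z 1 i * s + rv x 1 z 1 j * t := dot_rv (rv x 1 z 1) ▸ k
      replace h3 : rv x 1 z 1 i * s + rv x 1 z 1 j * t ≠ 0 := rv_dot (rv x 1 z 1) ▸ h3
      have h4 : i = x ∨ i = z := by
        by_contra h4
        by_cases h5 : j = x ∨ j = z
        · rw [k2 i h4, k1 j h5] at k; (clear * - h2 k; omega)
        · rw [k2 i h4, k2 j h5] at h3; (clear * - h3; omega)
      have h5 : j = x ∨ j = z := by
        by_contra h5
        rw [k1 i h4, k2 j h5] at k; (clear * - h1 k; omega)
      rw [k1 i h4, k1 j h5] at h3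
      obtain rfl : s = t := Units.ext (by (clear * - h1 h2 h3; omega))
      rw [← rfm_rp s, Int.units_mul_self]
      rcases h4 with rfl | rfl <;> rcases h5 with rfl | rfl
      · exact absurd rfl e
      · rfl
      · rw [rp_comm]
      · exact absurd rfl e
    · rw [dotProduct_single] at k
      refine .inl ?_
      by_cases h4 : i = x ∨ i = z
      · rw [k1 i h4, one_mul] at k
        exact absurd k (e'.resolve_left hκ)
      · rw [single_dotProduct, show (rp x 1 z 1).2 i = 0 from k2 i h4, mul_zero]

/-- a fixed line -/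
theorem mv (hA : Co (std κ (X.b0 n)) (sm g) (sm h)) (h1 : h.π x = x) (h2 : h.s x = η) (hz : x ≠ z) :
    f (rfm (rp x (-η) z s) * sm h) = 0 := by
  classical
  have hx : ∀ y, h.π y = x ↔ y = x := fun y => by rw [← h.π.injective.eq_iff (a := y), h1]
  have k0 : sm h *ᵥ Pi.single x 1 = (η : ℤ) • Pi.single x 1 := by
    rw [sm_apply, spm_mulVec_single, h1, h2, ← Pi.single_smul, smul_eq_mul]
  have k1 : ∀ y t, x ≠ y → f (rfm (rp x (-η) (h.π y) (η * h.s y * t)) * sm h) = f (rfm (rp x (-η) y t) * sm h) := by
    intro y t e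
    rw [← rfm_rp η, ← mul_assoc, ← mul_assoc, Int.units_mul_self, one_mul]
    refine H.rf_orb hA (rp_mem e _ _) ?_ (funext fun j => ?_)
    · show sm h *ᵥ rv _ _ _ _ = rv _ _ _ _
      rw [rv, rv, mulVec_add, sm_apply, spm_mulVec_single, spm_mulVec_single, h1, h2, Units.val_mul, Units.val_mul]
    · show (rv _ _ _ _ ᵥ* sm h) j = rv _ _ _ _ j
      have e' : x ≠ h.π y := fun k => e ((hx y).1 k.symm).symm
      rw [sm_apply, vecMul_spm]
      by_cases a1 : j = x
      · rw [a1, h1, h2, rv_l e, rv_l e', ← Units.val_mul, mul_right_comm, Int.units_mul_self, one_mul]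
      · by_cases a2 : j = y
        · rw [a2, rv_r e, rv_r e', ← Units.val_mul, mul_right_comm, Int.units_mul_self, one_mul]
        · rw [rv_o a1 a2, rv_o (mt (hx j).1 a1) (mt h.π.injective.eq_iff.1 a2), zero_mul]
  have k2 : Bad (std κ (X.b0 n)) d (sm h) := bad_of hn hη k0 (i := x) (by simp)
  obtain ⟨c, hc⟩ : ∃ c, f (rfm (rp x (-η) z s) * sm h) = c := ⟨_, rfl⟩
  by_cases hJ : ∀ t, f (rfm (rp x (-η) z t) * sm h) = c
  · obtain ⟨τ, hτ⟩ : ∃ τ : Vec (Fin n), ∀ y, τ y = if y = x ∨ ∀ t, f (rfm (rp x (-η) y t) * sm h) = c then 1 else 0 :=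
      ⟨_, fun _ => rfl⟩
    have t1 : τ x = 1 := by rw [hτ, if_pos (.inl rfl)]
    have t2 : ∀ s j t, x ≠ j → (2 : ℤ) ∣ τ ⬝ᵥ (rp x s j t).2 → f (rfm (rp x s j t) * sm h) = c := fun s j t e k => by
      replace k : (2 : ℤ) ∣ τ x * s + τ j * t := dot_rv τ ▸ k
      have := uo s
      rw [t1, hτ] at k
      split_ifs at k with k'
      · rw [← rfm_rp (-η * s), mul_assoc, Int.units_mul_self, mul_one]
        exact k'.resolve_left e.symm _
      · omega
    rw [hc]
    refine kill2 fin H hA k2 (τ := τ) (σ := Pi.single x 1) (ft_sm hq fun j => ?_) (ft_sm hq fun j => ?_)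
      (fun a ha a1 a2 => H.bad _ (hA.rf ha) (bad_of hn hη (v := Pi.single x 1) (i := x) ?_ (by simp))) (fun a ha a1 a2 => ?_)
      (rp_mem hz _ _) ?_ (fun a _ a1 a2 => ?_) hc
    · rw [hτ, hτ]
      refine if_congr ?_ rfl rfl
      by_cases e : j = x
      · simp only [hx, e, true_or]
      · simp only [hx, e, false_or]
        refine ⟨fun k t => (k1 j t (Ne.symm e)).symm.trans (k _), fun k t => ?_⟩
        rw [← k (η * h.s j * t), ← k1 j _ (Ne.symm e), ← mul_assoc, Int.units_mul_self, one_mul]
    · simp only [Pi.single_apply, hx]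
    · rw [single_one_dotProduct] at a1
      have : a.1 x = 0 := by
        obtain ⟨i, s, j, t, e, rfl⟩ | ⟨i, u, v, e, -, rfl⟩ := cas' ha
        · have h1 := uo s
          have h2 := uo t
          have h3 : x ≠ i := by rintro rfl; rw [show (rp x s j t).2 x = s from rv_l e] at a1; omega
          have h4 : x ≠ j := by rintro rfl; rw [show (rp i s x t).2 x = t from rv_r e] at a1; omega
          exact rv_o h3 h4
        · refine Pi.single_eq_of_ne ?_ _
          rintro rfl
          exact a2 (by simpa only [t1, _root_.Nat.cast_ofNat, _root_.dotProduct_single, _root_.one_mul, _root_.Pi.single_eq_same] using a1)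
      rw [← mulVec_mulVec, k0, mulVec_smul, rfm_mulVec, dotProduct_single_one, this, zero_smul, sub_zero]
    · rw [single_one_dotProduct] at a2
      obtain ⟨i, s, j, t, e, rfl⟩ | ⟨i, u, v, e, -, rfl⟩ := cas' ha
      · by_cases h3 : x = i
        · subst h3
          exact t2 s j t e a1
        · by_cases h4 : x = j
          · subst h4
            rw [rp_comm] at a1 ⊢
            exact t2 t i s h3 a1
          · exact absurd ((show (rp i s j t).2 x = 0 from rv_o h3 h4).symm ▸ dvd_zero _) a2
      · by_cases h3 : x = i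
        · subst h3
          exact absurd (by simpa only [t1, _root_.Nat.cast_ofNat, _root_.Pi.single_eq_same, _root_.dotProduct_single, _root_.one_mul] using a1) a2
        · exact absurd (by simp [h3]) a2
    · show (2 : ℤ) ∣ τ ⬝ᵥ rv _ _ _ _
      have h1 := uo s
      have h2 := uo η
      rw [dot_rv, t1, hτ, if_pos (.inr hJ), Units.val_neg]
      omega
    · rw [single_one_dotProduct] at a1
      have a3 := congrFun (congrFun a2 x) x
      simp only [rfm, Matrix.sub_apply, vecMulVec_apply, sub_right_inj, rp, rv_l hz, uu] at a3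
      have := a1.mul_right (a.1 x)
      rw [a3] at this
      omega
  · obtain ⟨G, hG⟩ : ∃ G : Fin n → ℤˣ → ℤ, ∀ y t, G y t = if f (rfm (rp x (-η) y t) * sm h) = c then 1 else 0 :=
      ⟨_, fun _ _ => rfl⟩
    obtain ⟨v, hv⟩ : ∃ v : Vec (Fin n), ∀ y, v y = if y = x then (η : ℤ) else G y 1 - G y (-1) := ⟨_, fun _ => rfl⟩
    have v1 : v x = η := by rw [hv, if_pos rfl]
    have v2 : ∀ y (t : ℤˣ), y ≠ x → v y * t = G y t - G y (-t) := fun y t e => by
      rw [hv, if_neg e]
      rcases Int.units_eq_one_or t with rfl | rfl <;> simp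
    have v3 : sm h *ᵥ v = (η : ℤ) • v := funext (h.π.surjective.forall.2 fun y => by
      rw [sm_apply, spm_mulVec, Pi.smul_apply, smul_eq_mul]
      by_cases e : y = x
      · rw [e, h1, h2]
      · have a1 := v2 _ (η * h.s y * 1) (mt (hx y).1 e)
        rw [← mul_neg, hG, hG, k1 y _ (Ne.symm e), k1 y _ (Ne.symm e), ← hG, ← hG, ← v2 y 1 e] at a1
        simp only [mul_one, Units.val_mul, Units.val_one] at a1
        linear_combination (-(h.s y : ℤ)) * a1 + (v (h.π y) * η) * uu (h.s y))
    refine H.bad _ (hA.rf (rp_mem hz _ _)) (bad_of hn hη (v := v) (i := x) ?_ (v1 ▸ η.ne_zero))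
    have a1 : G z (-s) = 0 := by
      rw [hG, if_neg fun k => hJ fun t => ?_]
      rcases Int.units_eq_one_or s with rfl | rfl <;> rcases Int.units_eq_one_or t with rfl | rfl
      exacts [hc, k, k, hc]
    rw [← mulVec_mulVec, v3, mulVec_smul, rfm_mulVec, show (rp x (-η) z s).1 ⬝ᵥ v = 0 by
      show rv _ _ _ _ ⬝ᵥ v = 0
      rw [rv_dot, v1, v2 z s hz.symm, a1, hG, if_pos hc, Units.val_neg, mul_neg, uu]
      rfl, zero_smul, sub_zero]

theorem zero (hA : Co (std κ (X.b0 n)) (sm g) A) : f A = 0 := by
  obtain ⟨h, rfl⟩ := co_sm hA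
  by_cases h1 : ∀ x, h.π x = x
  · by_cases h2 : ∀ x, h.s x = -η
    · refine dg hn hq hη H hA (Matrix.ext fun i j => ?_)
      simp [sm_apply, spm_apply, h1, h2, one_apply]
    · obtain ⟨x, h2⟩ := not_forall.1 h2
      have h3 : h.s x = η := by
        rcases Int.units_eq_one_or η with rfl | rfl <;> rcases Int.units_eq_one_or (h.s x) with e | e <;> simp_all only [_root_.Int.two_dvd_ne_zero, _root_.Units.val_one, _root_.Int.cast_one, _root_.IsPrimitiveRoot.one_left_iff, _root_.Classical.not_forall, _root_.units_ne_neg_self, _root_.not_false_eq_true, _root_.not_true_eq_false, _root_.Units.val_neg, _root_.Int.reduceNeg, _root_.Int.cast_neg, _root_.neg_neg, _root_.neg_units_ne_self]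
      refine H.bad _ hA (bad_of hn hη (v := Pi.single x 1) (i := x) ?_ (by simp))
      rw [sm_apply, spm_mulVec_single, h1, h3, ← Pi.single_smul, smul_eq_mul]
  · obtain ⟨x, h1⟩ := not_forall.1 h1
    have hb := rp_mem (κ := κ) (Ne.symm h1) (-η) (h.s x)
    obtain ⟨h', e⟩ := co_sm (hA.rf hb)
    have k1 : sm h' *ᵥ Pi.single x 1 = Pi.single x (η : ℤ) := by
      rw [← e, ← mulVec_mulVec, sm_apply, spm_mulVec_single, rfm_mulVec, dotProduct_single,
        show (rp x (-η) (h.π x) (h.s x)).1 (h.π x) = h.s x from rv_r (Ne.symm h1), mul_one, uu, one_smul]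
      simp [rp, rv, Pi.single_neg]
    rw [sm_apply, spm_mulVec_single, mul_one] at k1
    have k2 : h'.π x = x := by
      by_contra k
      exact η.ne_zero (by simpa [Ne.symm k] using (congrFun k1 x).symm)
    have k3 : h'.s x = η := Units.ext (by simpa [k2] using congrFun k1 x)
    have := mv hn hq hη H (s := h.s x) (e ▸ hA.rf hb) k2 k3 (Ne.symm h1)
    rwa [← e, ← mul_assoc, rfm_sq (two hb), one_mul] at this

end SB

/-- **signed permutation matrices** -/
theorem boxSB : BoxSB := by
  intro l n κ g hn q d e f hq H A hA h0 μ hμ hE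
  refine h0 ?_
  by_cases h2 : l = 2
  · subst h2
    rcases hq.two.2 with ⟨rfl, -⟩ | ⟨rfl, -⟩
    · exact SB.zero hn hq.nd (η := 1) (by simp) H hA
    · exact SB.zero hn hq.nd (η := -1) (by simpa using IsPrimitiveRoot.neg_one 0 (by decide)) H hA
  · obtain ⟨j, hj⟩ := hμ
    obtain ⟨y, h1, a, -, h3⟩ := hE
    obtain ⟨h, rfl⟩ := SB.co_sm hA
    obtain ⟨i, hi⟩ : ∃ i, y i ≠ 0 := Function.ne_iff.1 fun k => h3 (by rw [k, ev]; exact dotProduct_zero _)
    have ho : Odd (l ^ j) := (hq.lp.odd_of_ne_two h2).pow
    refine H.bad _ hA ⟨_, hq.odd h2 ▸ hj, SB.eig_of hn (y := fun i => y i ^ l ^ j) (i := i) (SB.isE_sm.2 fun k => ?_)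
      (pow_ne_zero _ hi)⟩
    rw [← mul_pow, ← SB.isE_sm.1 h1 k, mul_pow]
    rcases SB.uo (h.s k) with e | e <;> simp [e, ho.neg_pow]

end Cfsg.Agent.OM.Cu

private theorem dce_a9b48cf06bfb : _root_.True := by
  try have : _root_.True := by simp only [_root_.Cfsg.Agent.HZ.L.std.congr_simp]
  try have : _root_.True := by simp only [_root_.Cfsg.Agent.OM.Cu.SB.rv.eq_1]
  try have : _root_.True := by simp only [_root_.Cfsg.Agent.OM.Cu.Hy.congr_simp]
  try have : _root_.True := by simp only [_root_.Cfsg.Agent.OM.Cu.SB.rp.eq_1]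
  exact _root_.True.intro
end
end
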